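import Cfsg.Agent.ChevExt.Main
import Cfsg.Agent.Chev.WeylAll
import Cfsg.Agent.Chev.ExtraAll
import Cfsg.Agent.Chev.SteinbergCenter
import Cfsg.Agent.F4TwoMult.Table

/-!
Over two elements, involutions with the parities of the commutator formula of type F4 generate a group
mapped faithfully to the Chevalley group.
-/

set_option autoImplicit false

namespace Cfsg.Agent.F4TwoMult

open Cfsg.Lie Cfsg.Agent.Chev
open scoped MatrixGroups

universe u v

/-- A pair of roots to which the commutator formula applies. -/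
def pairB (a b : ℕ) : Bool := !Nat.beq b a && !Nat.beq b (negTab.getD a 0)

/-- The table is the one of the commutator formula. -/
def tabB (a : ℕ) : Bool :=
  (List.range 48).all fun b =>
    (!(pairB a b) || decide (wR a b =
        ((chevF4.commTerms b a).filter fun c => decide (c.2.1 % 2 ≠ 0)).map Prod.fst))
      && decide (chevF4.neg a = negTab.getD a 0) && ((chevF4.commTerms b a).all fun c => !Nat.beq c.2.2.1 0 && !Nat.beq c.2.2.2 0) && (wR a b).all fun c => Nat.blt c 48

set_option Elab.async false in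
set_option maxRecDepth 100000 in
theorem tab_ok : (List.range 48).all tabB = true := by decide +kernel

theorem nroots_eq : chevF4.nroots = 48 := by decide +kernel

theorem tab_spec {a b : ℕ} (ha : a < 48) (hb : b < 48) :
    (pairB a b = true → wR a b =
        ((chevF4.commTerms b a).filter fun c => decide (c.2.1 % 2 ≠ 0)).map Prod.fst) ∧
      chevF4.neg a = negTab.getD a 0 ∧ (∀ c ∈ wR a b, c < 48) ∧
      ∀ c ∈ chevF4.commTerms b a, c.2.2.1 ≠ 0 ∧ c.2.2.2 ≠ 0 := by
  have h := List.all_eq_true.1 tab_ok a (List.mem_range.2 ha)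
  have := List.all_eq_true.1 h b (List.mem_range.2 hb)
  simp only [Bool.and_eq_true, Bool.or_eq_true, Bool.not_eq_true', decide_eq_true_eq,
    List.all_eq_true, Nat.blt_eq] at this
  refine ⟨fun hp => this.1.1.1.resolve_left (by rw [hp]; simp), this.1.1.2, this.2, fun c hc => ?_⟩
  have h' := this.1.2 c hc
  exact ⟨Nat.ne_of_beq_eq_false h'.1, Nat.ne_of_beq_eq_false h'.2⟩

theorem pairB_iff {a b : ℕ} (ha : a < 48) :
    pairB a b = true ↔ b ≠ a ∧ b ≠ chevF4.neg a := by
  rw [pairB, (tab_spec ha ha).2.1]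
  simp [← Bool.not_eq_true, Nat.beq_eq]

variable {F : Type u} [Field F] [Fintype F]

theorem two_cases (hF : Fintype.card F = 2) (a : F) : a = 0 ∨ a = 1 := by
  by_cases ha : a = 0
  · exact Or.inl ha
  · have h := FiniteField.pow_card_sub_one_eq_one a ha
    rw [hF] at h
    exact Or.inr (by simpa using h)

theorem two_eq_zero (hF : Fintype.card F = 2) : (2 : F) = 0 := by
  have := Nat.cast_card_eq_zero F
  rw [hF] at this
  exact_mod_cast this

theorem cast_parity (hF : Fintype.card F = 2) (n : ℤ) :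
    ((n : F)) = if n % 2 ≠ 0 then 1 else 0 := by
  have h2 := two_eq_zero hF
  conv_lhs => rw [show n = n % 2 + 2 * (n / 2) by omega]
  push_cast
  rw [h2, zero_mul, add_zero]
  rcases Int.emod_two_eq_zero_or_one n with h | h <;> simp [h]

theorem xG_sq (hF : Fintype.card F = 2) (r : ℕ) :
    xG facts_chevF4.{u} r (1 : F) * xG facts_chevF4.{u} r 1 = 1 := by
  rw [xG_mul, one_add_one_eq_two, two_eq_zero hF, xG_zero]

theorem filter_prod {H : Type v} [Monoid H] (hF : Fintype.card F = 2) (X : ℕ → F → H)
    (h0 : ∀ c, X c 0 = 1) (l : List (ℕ × ℤ × ℕ × ℕ)) :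
    ((l.map fun c => (c.1, (c.2.1 : F) * (-1 : F) ^ c.2.2.1 * 1 ^ c.2.2.2)).map
        fun p => X p.1 p.2).prod =
      (((l.filter fun c => decide (c.2.1 % 2 ≠ 0)).map Prod.fst).map fun k => X k 1).prod := by
  have h1 : (-1 : F) = 1 := neg_eq_of_add_eq_zero_left (by rw [one_add_one_eq_two, two_eq_zero hF])
  induction l with
  | nil => rfl
  | cons c l ih =>
    simp only [List.map_cons, List.prod_cons, ih]
    rw [h1, one_pow, one_pow, mul_one, mul_one, cast_parity hF]
    by_cases hc : c.2.1 % 2 ≠ 0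
    · rw [if_pos hc, List.filter_cons_of_pos (by simpa using hc)]; rfl
    · rw [if_neg hc, List.filter_cons_of_neg (by simpa using hc), h0, one_mul]

theorem commWord_one (a b : ℕ) : chevF4.commWord F b a 1 1 =
    (chevF4.commTerms b a).map fun c => (c.1, (c.2.1 : F) * (-1 : F) ^ c.2.2.1 * 1 ^ c.2.2.2) := rfl

/-- The commutator formula over two elements. -/
theorem xG_br (hF : Fintype.card F = 2) {a b : ℕ} (ha : a < 48) (hb : b < 48)
    (hp : pairB a b = true) :
    xG facts_chevF4.{u} a (1 : F) * xG facts_chevF4.{u} b 1 * xG facts_chevF4.{u} a 1 * xG facts_chevF4.{u} b 1 =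
      ((wR a b).map fun k => xG facts_chevF4.{u} k (1 : F)).prod := by
  obtain ⟨h1, h2⟩ := (pairB_iff ha).1 hp
  have e := xG_comm facts_chevF4.{u} (r := b) (s := a) (by rwa [nroots_eq]) (by rwa [nroots_eq])
    (Ne.symm h1) (fun e => h2 (by rw [e, neg_neg_root facts_chevF4.{u} (by rwa [nroots_eq])])) (1 : F) 1
  rw [wordG, commWord_one, filter_prod hF (fun c t => xG facts_chevF4.{u} c t)
    (fun c => xG_zero facts_chevF4.{u} c), ← (tab_spec ha hb).1 hp] at e
  set x := xG facts_chevF4.{u} a (1 : F)
  set y := xG facts_chevF4.{u} b (1 : F)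
  have hx : x * x = 1 := xG_sq hF a
  have hy : y * y = 1 := xG_sq hF b
  calc x * y * x * y = (y * x)⁻¹ * (x * y) := by
        rw [mul_inv_rev, inv_eq_of_mul_eq_one_left hx, inv_eq_of_mul_eq_one_left hy, mul_assoc]
    _ = _ := by rw [e, inv_mul_cancel_left]

variable {H : Type v} [Group H]

/-- Elements satisfying the relations over two elements give a lift. -/
noncomputable def mkLift (hF : Fintype.card F = 2) (θ : H →* GL chevF4.Idx F) (x : ℕ → H)
    (hθ : ∀ r < 48, θ (x r) = xG facts_chevF4.{u} r 1) (hsq : ∀ r < 48, x r * x r = 1)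
    (hc : ∀ a b, a < 48 → b < 48 → pairB a b = true →
      x a * x b * x a * x b = ((wR a b).map x).prod)
    (hgen : Subgroup.closure {g | ∃ r < 48, g = x r} = ⊤) : Lift facts_chevF4.{u} F H where
  X r t := by classical exact if r < 48 ∧ t = 1 then x r else 1
  θ := θ
  θ_X r t := by
    classical
    by_cases hr : r < 48
    · rcases two_cases hF t with rfl | rfl
      · rw [if_neg (fun h => zero_ne_one h.2), map_one, xG_zero]
      · rw [if_pos ⟨hr, rfl⟩, hθ r hr]
    · rw [if_neg (fun h => hr h.1), map_one]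
      exact (Units.ext (by rw [xG_val, x_of_ge (by rwa [nroots_eq])]; rfl)).symm
  add r hr t₁ t₂ := by
    classical
    rw [nroots_eq] at hr
    have h11 : (1 : F) + 1 = 0 := by rw [one_add_one_eq_two, two_eq_zero hF]
    rcases two_cases hF t₁ with rfl | rfl <;> rcases two_cases hF t₂ with rfl | rfl <;>
      simp [hr, h11, hsq r hr]
  comm r s hr hs h1 h2 t u := by
    classical
    rw [nroots_eq] at hr hs
    set X : ℕ → F → H := fun r t => if r < 48 ∧ t = 1 then x r else 1
    change (X s u)⁻¹ * (X r t)⁻¹ * X s u * X r t =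
      ((chevF4.commWord F r s t u).map fun p => X p.1 p.2).prod
    have h0 : ∀ c, X c 0 = 1 := fun c => if_neg fun h => zero_ne_one h.2
    have zero : ∀ t u : F, t = 0 ∨ u = 0 → (X s u)⁻¹ * (X r t)⁻¹ * X s u * X r t =
        ((chevF4.commWord F r s t u).map fun p => X p.1 p.2).prod := by
      intro t u h
      rw [List.prod_eq_one]
      · rcases h with rfl | rfl <;> rw [h0] <;> group
      · intro y hy
        simp only [ChevalleyDatum.commWord, List.map_map, List.mem_map, Function.comp] at hy
        obtain ⟨c, hc', rfl⟩ := hy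
        obtain ⟨e1, e2⟩ := (tab_spec hs hr).2.2.2 c hc'
        rcases h with rfl | rfl
        · rw [neg_zero, zero_pow (by omega), mul_zero, zero_mul, h0]
        · rw [zero_pow (show c.2.2.2 ≠ 0 by omega), mul_zero, h0]
    rcases two_cases hF t with rfl | rfl
    · exact zero 0 u (Or.inl rfl)
    rcases two_cases hF u with rfl | rfl
    · exact zero 1 0 (Or.inr rfl)
    have hp : pairB s r = true := (pairB_iff hs).2
      ⟨Ne.symm h1, fun e => h2 (by rw [e, neg_neg_root facts_chevF4.{u} (by rwa [nroots_eq])])⟩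
    rw [commWord_one, filter_prod hF X h0, ← (tab_spec hs hr).1 hp]
    have e : ((wR s r).map fun k => X k 1) = (wR s r).map x :=
      List.map_congr_left fun k hk => if_pos ⟨(tab_spec hs hr).2.2.1 k hk, rfl⟩
    rw [e, ← hc s r hs hr hp, show X s 1 = x s from if_pos ⟨hs, rfl⟩,
      show X r 1 = x r from if_pos ⟨hr, rfl⟩, inv_eq_of_mul_eq_one_left (hsq s hs),
      inv_eq_of_mul_eq_one_left (hsq r hr)]
  gen := by
    classical
    rw [eq_top_iff, ← hgen]
    refine Subgroup.closure_mono ?_
    rintro g ⟨r, hr, rfl⟩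
    exact ⟨r, 1, by rwa [nroots_eq], (if_pos ⟨hr, rfl⟩).symm⟩

/-- Such elements generate a group mapped faithfully. -/
theorem inj_of_rels (hF : Fintype.card F = 2) (θ : H →* GL chevF4.Idx F) (x : ℕ → H)
    (hθ : ∀ r < 48, θ (x r) = xG facts_chevF4.{u} r 1) (hsq : ∀ r < 48, x r * x r = 1)
    (hc : ∀ a b, a < 48 → b < 48 → pairB a b = true →
      x a * x b * x a * x b = ((wR a b).map x).prod)
    (hgen : Subgroup.closure {g | ∃ r < 48, g = x r} = ⊤) : θ.ker = ⊥ := by
  have hu : ∀ a : Fˣ, a = 1 := fun a => Units.ext ((two_cases hF (a : F)).resolve_left a.ne_zero)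
  let L := mkLift hF θ x hθ hsq hc hgen
  refine L.ker_eq_bot extra_chevF4 (fun i a b => ?_) ?_
  · rw [hu a, hu b, mul_one, Units.val_one]
    have hi : chevF4.simple i < chevF4.nroots := facts_chevF4.{u}.simple_lt i i.2
    have h1 : (-1 : F) = 1 :=
      neg_eq_of_add_eq_zero_left (by rw [one_add_one_eq_two, two_eq_zero hF])
    have e : L.h (chevF4.simple i) 1 = 1 := by
      have := L.n_inv hi (1 : F)
      rw [Lift.h, ← this, mul_inv_cancel]
    rw [e, mul_one]
  · exact fun c c' _ => funext fun i => (hu (c i)).trans (hu (c' i)).symm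

end Cfsg.Agent.F4TwoMult
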