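import Cfsg.Agent.F4TwoMult.Rep

/-!
The relations of the representation for the roots 6 to 11.
-/

set_option autoImplicit false
set_option maxRecDepth 100000
set_option Elab.async false

namespace Cfsg.Agent.F4TwoMult

theorem head_6 : headB 6 = true := by decide +kernel
theorem pair_6_0 : pairC 6 0 = true := by decide +kernel
theorem pair_6_1 : pairC 6 1 = true := by decide +kernel
theorem pair_6_2 : pairC 6 2 = true := by decide +kernel
theorem pair_6_3 : pairC 6 3 = true := by decide +kernel
theorem pair_6_4 : pairC 6 4 = true := by decide +kernel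
theorem pair_6_5 : pairC 6 5 = true := by decide +kernel
theorem pair_6_6 : pairC 6 6 = true := by decide +kernel
theorem pair_6_7 : pairC 6 7 = true := by decide +kernel
theorem pair_6_8 : pairC 6 8 = true := by decide +kernel
theorem pair_6_9 : pairC 6 9 = true := by decide +kernel
theorem pair_6_10 : pairC 6 10 = true := by decide +kernel
theorem pair_6_11 : pairC 6 11 = true := by decide +kernel
theorem pair_6_12 : pairC 6 12 = true := by decide +kernel
theorem pair_6_13 : pairC 6 13 = true := by decide +kernel
theorem pair_6_14 : pairC 6 14 = true := by decide +kernel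
theorem pair_6_15 : pairC 6 15 = true := by decide +kernel
theorem pair_6_16 : pairC 6 16 = true := by decide +kernel
theorem pair_6_17 : pairC 6 17 = true := by decide +kernel
theorem pair_6_18 : pairC 6 18 = true := by decide +kernel
theorem pair_6_19 : pairC 6 19 = true := by decide +kernel
theorem pair_6_20 : pairC 6 20 = true := by decide +kernel
theorem pair_6_21 : pairC 6 21 = true := by decide +kernel
theorem pair_6_22 : pairC 6 22 = true := by decide +kernel
theorem pair_6_23 : pairC 6 23 = true := by decide +kernel
theorem pair_6_24 : pairC 6 24 = true := by decide +kernel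
theorem pair_6_25 : pairC 6 25 = true := by decide +kernel
theorem pair_6_26 : pairC 6 26 = true := by decide +kernel
theorem pair_6_27 : pairC 6 27 = true := by decide +kernel
theorem pair_6_28 : pairC 6 28 = true := by decide +kernel
theorem pair_6_29 : pairC 6 29 = true := by decide +kernel
theorem pair_6_30 : pairC 6 30 = true := by decide +kernel
theorem pair_6_31 : pairC 6 31 = true := by decide +kernel
theorem pair_6_32 : pairC 6 32 = true := by decide +kernel
theorem pair_6_33 : pairC 6 33 = true := by decide +kernel
theorem pair_6_34 : pairC 6 34 = true := by decide +kernel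
theorem pair_6_35 : pairC 6 35 = true := by decide +kernel
theorem pair_6_36 : pairC 6 36 = true := by decide +kernel
theorem pair_6_37 : pairC 6 37 = true := by decide +kernel
theorem pair_6_38 : pairC 6 38 = true := by decide +kernel
theorem pair_6_39 : pairC 6 39 = true := by decide +kernel
theorem pair_6_40 : pairC 6 40 = true := by decide +kernel
theorem pair_6_41 : pairC 6 41 = true := by decide +kernel
theorem pair_6_42 : pairC 6 42 = true := by decide +kernel
theorem pair_6_43 : pairC 6 43 = true := by decide +kernel
theorem pair_6_44 : pairC 6 44 = true := by decide +kernel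
theorem pair_6_45 : pairC 6 45 = true := by decide +kernel
theorem pair_6_46 : pairC 6 46 = true := by decide +kernel
theorem pair_6_47 : pairC 6 47 = true := by decide +kernel
theorem chunk_6_0 : chunkB 6 0 = true :=
  chunk_of pair_6_0 pair_6_1 pair_6_2 pair_6_3 pair_6_4 pair_6_5 pair_6_6 pair_6_7
theorem chunk_6_1 : chunkB 6 1 = true :=
  chunk_of pair_6_8 pair_6_9 pair_6_10 pair_6_11 pair_6_12 pair_6_13 pair_6_14 pair_6_15
theorem chunk_6_2 : chunkB 6 2 = true :=
  chunk_of pair_6_16 pair_6_17 pair_6_18 pair_6_19 pair_6_20 pair_6_21 pair_6_22 pair_6_23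
theorem chunk_6_3 : chunkB 6 3 = true :=
  chunk_of pair_6_24 pair_6_25 pair_6_26 pair_6_27 pair_6_28 pair_6_29 pair_6_30 pair_6_31
theorem chunk_6_4 : chunkB 6 4 = true :=
  chunk_of pair_6_32 pair_6_33 pair_6_34 pair_6_35 pair_6_36 pair_6_37 pair_6_38 pair_6_39
theorem chunk_6_5 : chunkB 6 5 = true :=
  chunk_of pair_6_40 pair_6_41 pair_6_42 pair_6_43 pair_6_44 pair_6_45 pair_6_46 pair_6_47

theorem head_7 : headB 7 = true := by decide +kernel
theorem pair_7_0 : pairC 7 0 = true := by decide +kernel
theorem pair_7_1 : pairC 7 1 = true := by decide +kernel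
theorem pair_7_2 : pairC 7 2 = true := by decide +kernel
theorem pair_7_3 : pairC 7 3 = true := by decide +kernel
theorem pair_7_4 : pairC 7 4 = true := by decide +kernel
theorem pair_7_5 : pairC 7 5 = true := by decide +kernel
theorem pair_7_6 : pairC 7 6 = true := by decide +kernel
theorem pair_7_7 : pairC 7 7 = true := by decide +kernel
theorem pair_7_8 : pairC 7 8 = true := by decide +kernel
theorem pair_7_9 : pairC 7 9 = true := by decide +kernel
theorem pair_7_10 : pairC 7 10 = true := by decide +kernel
theorem pair_7_11 : pairC 7 11 = true := by decide +kernel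
theorem pair_7_12 : pairC 7 12 = true := by decide +kernel
theorem pair_7_13 : pairC 7 13 = true := by decide +kernel
theorem pair_7_14 : pairC 7 14 = true := by decide +kernel
theorem pair_7_15 : pairC 7 15 = true := by decide +kernel
theorem pair_7_16 : pairC 7 16 = true := by decide +kernel
theorem pair_7_17 : pairC 7 17 = true := by decide +kernel
theorem pair_7_18 : pairC 7 18 = true := by decide +kernel
theorem pair_7_19 : pairC 7 19 = true := by decide +kernel
theorem pair_7_20 : pairC 7 20 = true := by decide +kernel
theorem pair_7_21 : pairC 7 21 = true := by decide +kernel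
theorem pair_7_22 : pairC 7 22 = true := by decide +kernel
theorem pair_7_23 : pairC 7 23 = true := by decide +kernel
theorem pair_7_24 : pairC 7 24 = true := by decide +kernel
theorem pair_7_25 : pairC 7 25 = true := by decide +kernel
theorem pair_7_26 : pairC 7 26 = true := by decide +kernel
theorem pair_7_27 : pairC 7 27 = true := by decide +kernel
theorem pair_7_28 : pairC 7 28 = true := by decide +kernel
theorem pair_7_29 : pairC 7 29 = true := by decide +kernel
theorem pair_7_30 : pairC 7 30 = true := by decide +kernel
theorem pair_7_31 : pairC 7 31 = true := by decide +kernel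
theorem pair_7_32 : pairC 7 32 = true := by decide +kernel
theorem pair_7_33 : pairC 7 33 = true := by decide +kernel
theorem pair_7_34 : pairC 7 34 = true := by decide +kernel
theorem pair_7_35 : pairC 7 35 = true := by decide +kernel
theorem pair_7_36 : pairC 7 36 = true := by decide +kernel
theorem pair_7_37 : pairC 7 37 = true := by decide +kernel
theorem pair_7_38 : pairC 7 38 = true := by decide +kernel
theorem pair_7_39 : pairC 7 39 = true := by decide +kernel
theorem pair_7_40 : pairC 7 40 = true := by decide +kernel
theorem pair_7_41 : pairC 7 41 = true := by decide +kernel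
theorem pair_7_42 : pairC 7 42 = true := by decide +kernel
theorem pair_7_43 : pairC 7 43 = true := by decide +kernel
theorem pair_7_44 : pairC 7 44 = true := by decide +kernel
theorem pair_7_45 : pairC 7 45 = true := by decide +kernel
theorem pair_7_46 : pairC 7 46 = true := by decide +kernel
theorem pair_7_47 : pairC 7 47 = true := by decide +kernel
theorem chunk_7_0 : chunkB 7 0 = true :=
  chunk_of pair_7_0 pair_7_1 pair_7_2 pair_7_3 pair_7_4 pair_7_5 pair_7_6 pair_7_7
theorem chunk_7_1 : chunkB 7 1 = true :=
  chunk_of pair_7_8 pair_7_9 pair_7_10 pair_7_11 pair_7_12 pair_7_13 pair_7_14 pair_7_15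
theorem chunk_7_2 : chunkB 7 2 = true :=
  chunk_of pair_7_16 pair_7_17 pair_7_18 pair_7_19 pair_7_20 pair_7_21 pair_7_22 pair_7_23
theorem chunk_7_3 : chunkB 7 3 = true :=
  chunk_of pair_7_24 pair_7_25 pair_7_26 pair_7_27 pair_7_28 pair_7_29 pair_7_30 pair_7_31
theorem chunk_7_4 : chunkB 7 4 = true :=
  chunk_of pair_7_32 pair_7_33 pair_7_34 pair_7_35 pair_7_36 pair_7_37 pair_7_38 pair_7_39
theorem chunk_7_5 : chunkB 7 5 = true :=
  chunk_of pair_7_40 pair_7_41 pair_7_42 pair_7_43 pair_7_44 pair_7_45 pair_7_46 pair_7_47

theorem head_8 : headB 8 = true := by decide +kernel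
theorem pair_8_0 : pairC 8 0 = true := by decide +kernel
theorem pair_8_1 : pairC 8 1 = true := by decide +kernel
theorem pair_8_2 : pairC 8 2 = true := by decide +kernel
theorem pair_8_3 : pairC 8 3 = true := by decide +kernel
theorem pair_8_4 : pairC 8 4 = true := by decide +kernel
theorem pair_8_5 : pairC 8 5 = true := by decide +kernel
theorem pair_8_6 : pairC 8 6 = true := by decide +kernel
theorem pair_8_7 : pairC 8 7 = true := by decide +kernel
theorem pair_8_8 : pairC 8 8 = true := by decide +kernel
theorem pair_8_9 : pairC 8 9 = true := by decide +kernel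
theorem pair_8_10 : pairC 8 10 = true := by decide +kernel
theorem pair_8_11 : pairC 8 11 = true := by decide +kernel
theorem pair_8_12 : pairC 8 12 = true := by decide +kernel
theorem pair_8_13 : pairC 8 13 = true := by decide +kernel
theorem pair_8_14 : pairC 8 14 = true := by decide +kernel
theorem pair_8_15 : pairC 8 15 = true := by decide +kernel
theorem pair_8_16 : pairC 8 16 = true := by decide +kernel
theorem pair_8_17 : pairC 8 17 = true := by decide +kernel
theorem pair_8_18 : pairC 8 18 = true := by decide +kernel
theorem pair_8_19 : pairC 8 19 = true := by decide +kernel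
theorem pair_8_20 : pairC 8 20 = true := by decide +kernel
theorem pair_8_21 : pairC 8 21 = true := by decide +kernel
theorem pair_8_22 : pairC 8 22 = true := by decide +kernel
theorem pair_8_23 : pairC 8 23 = true := by decide +kernel
theorem pair_8_24 : pairC 8 24 = true := by decide +kernel
theorem pair_8_25 : pairC 8 25 = true := by decide +kernel
theorem pair_8_26 : pairC 8 26 = true := by decide +kernel
theorem pair_8_27 : pairC 8 27 = true := by decide +kernel
theorem pair_8_28 : pairC 8 28 = true := by decide +kernel
theorem pair_8_29 : pairC 8 29 = true := by decide +kernel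
theorem pair_8_30 : pairC 8 30 = true := by decide +kernel
theorem pair_8_31 : pairC 8 31 = true := by decide +kernel
theorem pair_8_32 : pairC 8 32 = true := by decide +kernel
theorem pair_8_33 : pairC 8 33 = true := by decide +kernel
theorem pair_8_34 : pairC 8 34 = true := by decide +kernel
theorem pair_8_35 : pairC 8 35 = true := by decide +kernel
theorem pair_8_36 : pairC 8 36 = true := by decide +kernel
theorem pair_8_37 : pairC 8 37 = true := by decide +kernel
theorem pair_8_38 : pairC 8 38 = true := by decide +kernel
theorem pair_8_39 : pairC 8 39 = true := by decide +kernel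
theorem pair_8_40 : pairC 8 40 = true := by decide +kernel
theorem pair_8_41 : pairC 8 41 = true := by decide +kernel
theorem pair_8_42 : pairC 8 42 = true := by decide +kernel
theorem pair_8_43 : pairC 8 43 = true := by decide +kernel
theorem pair_8_44 : pairC 8 44 = true := by decide +kernel
theorem pair_8_45 : pairC 8 45 = true := by decide +kernel
theorem pair_8_46 : pairC 8 46 = true := by decide +kernel
theorem pair_8_47 : pairC 8 47 = true := by decide +kernel
theorem chunk_8_0 : chunkB 8 0 = true :=
  chunk_of pair_8_0 pair_8_1 pair_8_2 pair_8_3 pair_8_4 pair_8_5 pair_8_6 pair_8_7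
theorem chunk_8_1 : chunkB 8 1 = true :=
  chunk_of pair_8_8 pair_8_9 pair_8_10 pair_8_11 pair_8_12 pair_8_13 pair_8_14 pair_8_15
theorem chunk_8_2 : chunkB 8 2 = true :=
  chunk_of pair_8_16 pair_8_17 pair_8_18 pair_8_19 pair_8_20 pair_8_21 pair_8_22 pair_8_23
theorem chunk_8_3 : chunkB 8 3 = true :=
  chunk_of pair_8_24 pair_8_25 pair_8_26 pair_8_27 pair_8_28 pair_8_29 pair_8_30 pair_8_31
theorem chunk_8_4 : chunkB 8 4 = true :=
  chunk_of pair_8_32 pair_8_33 pair_8_34 pair_8_35 pair_8_36 pair_8_37 pair_8_38 pair_8_39
theorem chunk_8_5 : chunkB 8 5 = true :=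
  chunk_of pair_8_40 pair_8_41 pair_8_42 pair_8_43 pair_8_44 pair_8_45 pair_8_46 pair_8_47

theorem head_9 : headB 9 = true := by decide +kernel
theorem pair_9_0 : pairC 9 0 = true := by decide +kernel
theorem pair_9_1 : pairC 9 1 = true := by decide +kernel
theorem pair_9_2 : pairC 9 2 = true := by decide +kernel
theorem pair_9_3 : pairC 9 3 = true := by decide +kernel
theorem pair_9_4 : pairC 9 4 = true := by decide +kernel
theorem pair_9_5 : pairC 9 5 = true := by decide +kernel
theorem pair_9_6 : pairC 9 6 = true := by decide +kernel
theorem pair_9_7 : pairC 9 7 = true := by decide +kernel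
theorem pair_9_8 : pairC 9 8 = true := by decide +kernel
theorem pair_9_9 : pairC 9 9 = true := by decide +kernel
theorem pair_9_10 : pairC 9 10 = true := by decide +kernel
theorem pair_9_11 : pairC 9 11 = true := by decide +kernel
theorem pair_9_12 : pairC 9 12 = true := by decide +kernel
theorem pair_9_13 : pairC 9 13 = true := by decide +kernel
theorem pair_9_14 : pairC 9 14 = true := by decide +kernel
theorem pair_9_15 : pairC 9 15 = true := by decide +kernel
theorem pair_9_16 : pairC 9 16 = true := by decide +kernel
theorem pair_9_17 : pairC 9 17 = true := by decide +kernel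
theorem pair_9_18 : pairC 9 18 = true := by decide +kernel
theorem pair_9_19 : pairC 9 19 = true := by decide +kernel
theorem pair_9_20 : pairC 9 20 = true := by decide +kernel
theorem pair_9_21 : pairC 9 21 = true := by decide +kernel
theorem pair_9_22 : pairC 9 22 = true := by decide +kernel
theorem pair_9_23 : pairC 9 23 = true := by decide +kernel
theorem pair_9_24 : pairC 9 24 = true := by decide +kernel
theorem pair_9_25 : pairC 9 25 = true := by decide +kernel
theorem pair_9_26 : pairC 9 26 = true := by decide +kernel
theorem pair_9_27 : pairC 9 27 = true := by decide +kernel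
theorem pair_9_28 : pairC 9 28 = true := by decide +kernel
theorem pair_9_29 : pairC 9 29 = true := by decide +kernel
theorem pair_9_30 : pairC 9 30 = true := by decide +kernel
theorem pair_9_31 : pairC 9 31 = true := by decide +kernel
theorem pair_9_32 : pairC 9 32 = true := by decide +kernel
theorem pair_9_33 : pairC 9 33 = true := by decide +kernel
theorem pair_9_34 : pairC 9 34 = true := by decide +kernel
theorem pair_9_35 : pairC 9 35 = true := by decide +kernel
theorem pair_9_36 : pairC 9 36 = true := by decide +kernel
theorem pair_9_37 : pairC 9 37 = true := by decide +kernel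
theorem pair_9_38 : pairC 9 38 = true := by decide +kernel
theorem pair_9_39 : pairC 9 39 = true := by decide +kernel
theorem pair_9_40 : pairC 9 40 = true := by decide +kernel
theorem pair_9_41 : pairC 9 41 = true := by decide +kernel
theorem pair_9_42 : pairC 9 42 = true := by decide +kernel
theorem pair_9_43 : pairC 9 43 = true := by decide +kernel
theorem pair_9_44 : pairC 9 44 = true := by decide +kernel
theorem pair_9_45 : pairC 9 45 = true := by decide +kernel
theorem pair_9_46 : pairC 9 46 = true := by decide +kernel
theorem pair_9_47 : pairC 9 47 = true := by decide +kernel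
theorem chunk_9_0 : chunkB 9 0 = true :=
  chunk_of pair_9_0 pair_9_1 pair_9_2 pair_9_3 pair_9_4 pair_9_5 pair_9_6 pair_9_7
theorem chunk_9_1 : chunkB 9 1 = true :=
  chunk_of pair_9_8 pair_9_9 pair_9_10 pair_9_11 pair_9_12 pair_9_13 pair_9_14 pair_9_15
theorem chunk_9_2 : chunkB 9 2 = true :=
  chunk_of pair_9_16 pair_9_17 pair_9_18 pair_9_19 pair_9_20 pair_9_21 pair_9_22 pair_9_23
theorem chunk_9_3 : chunkB 9 3 = true :=
  chunk_of pair_9_24 pair_9_25 pair_9_26 pair_9_27 pair_9_28 pair_9_29 pair_9_30 pair_9_31
theorem chunk_9_4 : chunkB 9 4 = true :=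
  chunk_of pair_9_32 pair_9_33 pair_9_34 pair_9_35 pair_9_36 pair_9_37 pair_9_38 pair_9_39
theorem chunk_9_5 : chunkB 9 5 = true :=
  chunk_of pair_9_40 pair_9_41 pair_9_42 pair_9_43 pair_9_44 pair_9_45 pair_9_46 pair_9_47

theorem head_10 : headB 10 = true := by decide +kernel
theorem pair_10_0 : pairC 10 0 = true := by decide +kernel
theorem pair_10_1 : pairC 10 1 = true := by decide +kernel
theorem pair_10_2 : pairC 10 2 = true := by decide +kernel
theorem pair_10_3 : pairC 10 3 = true := by decide +kernel
theorem pair_10_4 : pairC 10 4 = true := by decide +kernel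
theorem pair_10_5 : pairC 10 5 = true := by decide +kernel
theorem pair_10_6 : pairC 10 6 = true := by decide +kernel
theorem pair_10_7 : pairC 10 7 = true := by decide +kernel
theorem pair_10_8 : pairC 10 8 = true := by decide +kernel
theorem pair_10_9 : pairC 10 9 = true := by decide +kernel
theorem pair_10_10 : pairC 10 10 = true := by decide +kernel
theorem pair_10_11 : pairC 10 11 = true := by decide +kernel
theorem pair_10_12 : pairC 10 12 = true := by decide +kernel
theorem pair_10_13 : pairC 10 13 = true := by decide +kernel
theorem pair_10_14 : pairC 10 14 = true := by decide +kernel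
theorem pair_10_15 : pairC 10 15 = true := by decide +kernel
theorem pair_10_16 : pairC 10 16 = true := by decide +kernel
theorem pair_10_17 : pairC 10 17 = true := by decide +kernel
theorem pair_10_18 : pairC 10 18 = true := by decide +kernel
theorem pair_10_19 : pairC 10 19 = true := by decide +kernel
theorem pair_10_20 : pairC 10 20 = true := by decide +kernel
theorem pair_10_21 : pairC 10 21 = true := by decide +kernel
theorem pair_10_22 : pairC 10 22 = true := by decide +kernel
theorem pair_10_23 : pairC 10 23 = true := by decide +kernel
theorem pair_10_24 : pairC 10 24 = true := by decide +kernel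
theorem pair_10_25 : pairC 10 25 = true := by decide +kernel
theorem pair_10_26 : pairC 10 26 = true := by decide +kernel
theorem pair_10_27 : pairC 10 27 = true := by decide +kernel
theorem pair_10_28 : pairC 10 28 = true := by decide +kernel
theorem pair_10_29 : pairC 10 29 = true := by decide +kernel
theorem pair_10_30 : pairC 10 30 = true := by decide +kernel
theorem pair_10_31 : pairC 10 31 = true := by decide +kernel
theorem pair_10_32 : pairC 10 32 = true := by decide +kernel
theorem pair_10_33 : pairC 10 33 = true := by decide +kernel
theorem pair_10_34 : pairC 10 34 = true := by decide +kernel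
theorem pair_10_35 : pairC 10 35 = true := by decide +kernel
theorem pair_10_36 : pairC 10 36 = true := by decide +kernel
theorem pair_10_37 : pairC 10 37 = true := by decide +kernel
theorem pair_10_38 : pairC 10 38 = true := by decide +kernel
theorem pair_10_39 : pairC 10 39 = true := by decide +kernel
theorem pair_10_40 : pairC 10 40 = true := by decide +kernel
theorem pair_10_41 : pairC 10 41 = true := by decide +kernel
theorem pair_10_42 : pairC 10 42 = true := by decide +kernel
theorem pair_10_43 : pairC 10 43 = true := by decide +kernel
theorem pair_10_44 : pairC 10 44 = true := by decide +kernel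
theorem pair_10_45 : pairC 10 45 = true := by decide +kernel
theorem pair_10_46 : pairC 10 46 = true := by decide +kernel
theorem pair_10_47 : pairC 10 47 = true := by decide +kernel
theorem chunk_10_0 : chunkB 10 0 = true :=
  chunk_of pair_10_0 pair_10_1 pair_10_2 pair_10_3 pair_10_4 pair_10_5 pair_10_6 pair_10_7
theorem chunk_10_1 : chunkB 10 1 = true :=
  chunk_of pair_10_8 pair_10_9 pair_10_10 pair_10_11 pair_10_12 pair_10_13 pair_10_14 pair_10_15
theorem chunk_10_2 : chunkB 10 2 = true :=
  chunk_of pair_10_16 pair_10_17 pair_10_18 pair_10_19 pair_10_20 pair_10_21 pair_10_22 pair_10_23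
theorem chunk_10_3 : chunkB 10 3 = true :=
  chunk_of pair_10_24 pair_10_25 pair_10_26 pair_10_27 pair_10_28 pair_10_29 pair_10_30 pair_10_31
theorem chunk_10_4 : chunkB 10 4 = true :=
  chunk_of pair_10_32 pair_10_33 pair_10_34 pair_10_35 pair_10_36 pair_10_37 pair_10_38 pair_10_39
theorem chunk_10_5 : chunkB 10 5 = true :=
  chunk_of pair_10_40 pair_10_41 pair_10_42 pair_10_43 pair_10_44 pair_10_45 pair_10_46 pair_10_47

theorem head_11 : headB 11 = true := by decide +kernel
theorem pair_11_0 : pairC 11 0 = true := by decide +kernel
theorem pair_11_1 : pairC 11 1 = true := by decide +kernel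
theorem pair_11_2 : pairC 11 2 = true := by decide +kernel
theorem pair_11_3 : pairC 11 3 = true := by decide +kernel
theorem pair_11_4 : pairC 11 4 = true := by decide +kernel
theorem pair_11_5 : pairC 11 5 = true := by decide +kernel
theorem pair_11_6 : pairC 11 6 = true := by decide +kernel
theorem pair_11_7 : pairC 11 7 = true := by decide +kernel
theorem pair_11_8 : pairC 11 8 = true := by decide +kernel
theorem pair_11_9 : pairC 11 9 = true := by decide +kernel
theorem pair_11_10 : pairC 11 10 = true := by decide +kernel
theorem pair_11_11 : pairC 11 11 = true := by decide +kernel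
theorem pair_11_12 : pairC 11 12 = true := by decide +kernel
theorem pair_11_13 : pairC 11 13 = true := by decide +kernel
theorem pair_11_14 : pairC 11 14 = true := by decide +kernel
theorem pair_11_15 : pairC 11 15 = true := by decide +kernel
theorem pair_11_16 : pairC 11 16 = true := by decide +kernel
theorem pair_11_17 : pairC 11 17 = true := by decide +kernel
theorem pair_11_18 : pairC 11 18 = true := by decide +kernel
theorem pair_11_19 : pairC 11 19 = true := by decide +kernel
theorem pair_11_20 : pairC 11 20 = true := by decide +kernel
theorem pair_11_21 : pairC 11 21 = true := by decide +kernel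
theorem pair_11_22 : pairC 11 22 = true := by decide +kernel
theorem pair_11_23 : pairC 11 23 = true := by decide +kernel
theorem pair_11_24 : pairC 11 24 = true := by decide +kernel
theorem pair_11_25 : pairC 11 25 = true := by decide +kernel
theorem pair_11_26 : pairC 11 26 = true := by decide +kernel
theorem pair_11_27 : pairC 11 27 = true := by decide +kernel
theorem pair_11_28 : pairC 11 28 = true := by decide +kernel
theorem pair_11_29 : pairC 11 29 = true := by decide +kernel
theorem pair_11_30 : pairC 11 30 = true := by decide +kernel
theorem pair_11_31 : pairC 11 31 = true := by decide +kernel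
theorem pair_11_32 : pairC 11 32 = true := by decide +kernel
theorem pair_11_33 : pairC 11 33 = true := by decide +kernel
theorem pair_11_34 : pairC 11 34 = true := by decide +kernel
theorem pair_11_35 : pairC 11 35 = true := by decide +kernel
theorem pair_11_36 : pairC 11 36 = true := by decide +kernel
theorem pair_11_37 : pairC 11 37 = true := by decide +kernel
theorem pair_11_38 : pairC 11 38 = true := by decide +kernel
theorem pair_11_39 : pairC 11 39 = true := by decide +kernel
theorem pair_11_40 : pairC 11 40 = true := by decide +kernel
theorem pair_11_41 : pairC 11 41 = true := by decide +kernel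
theorem pair_11_42 : pairC 11 42 = true := by decide +kernel
theorem pair_11_43 : pairC 11 43 = true := by decide +kernel
theorem pair_11_44 : pairC 11 44 = true := by decide +kernel
theorem pair_11_45 : pairC 11 45 = true := by decide +kernel
theorem pair_11_46 : pairC 11 46 = true := by decide +kernel
theorem pair_11_47 : pairC 11 47 = true := by decide +kernel
theorem chunk_11_0 : chunkB 11 0 = true :=
  chunk_of pair_11_0 pair_11_1 pair_11_2 pair_11_3 pair_11_4 pair_11_5 pair_11_6 pair_11_7
theorem chunk_11_1 : chunkB 11 1 = true :=
  chunk_of pair_11_8 pair_11_9 pair_11_10 pair_11_11 pair_11_12 pair_11_13 pair_11_14 pair_11_15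
theorem chunk_11_2 : chunkB 11 2 = true :=
  chunk_of pair_11_16 pair_11_17 pair_11_18 pair_11_19 pair_11_20 pair_11_21 pair_11_22 pair_11_23
theorem chunk_11_3 : chunkB 11 3 = true :=
  chunk_of pair_11_24 pair_11_25 pair_11_26 pair_11_27 pair_11_28 pair_11_29 pair_11_30 pair_11_31
theorem chunk_11_4 : chunkB 11 4 = true :=
  chunk_of pair_11_32 pair_11_33 pair_11_34 pair_11_35 pair_11_36 pair_11_37 pair_11_38 pair_11_39
theorem chunk_11_5 : chunkB 11 5 = true :=
  chunk_of pair_11_40 pair_11_41 pair_11_42 pair_11_43 pair_11_44 pair_11_45 pair_11_46 pair_11_47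

end Cfsg.Agent.F4TwoMult
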