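import Cfsg.Agent.F4TwoMult.Rep

/-!
The relations of the representation for the roots 12 to 17.
-/

set_option autoImplicit false
set_option maxRecDepth 100000
set_option Elab.async false

namespace Cfsg.Agent.F4TwoMult

theorem head_12 : headB 12 = true := by decide +kernel
theorem pair_12_0 : pairC 12 0 = true := by decide +kernel
theorem pair_12_1 : pairC 12 1 = true := by decide +kernel
theorem pair_12_2 : pairC 12 2 = true := by decide +kernel
theorem pair_12_3 : pairC 12 3 = true := by decide +kernel
theorem pair_12_4 : pairC 12 4 = true := by decide +kernel
theorem pair_12_5 : pairC 12 5 = true := by decide +kernel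
theorem pair_12_6 : pairC 12 6 = true := by decide +kernel
theorem pair_12_7 : pairC 12 7 = true := by decide +kernel
theorem pair_12_8 : pairC 12 8 = true := by decide +kernel
theorem pair_12_9 : pairC 12 9 = true := by decide +kernel
theorem pair_12_10 : pairC 12 10 = true := by decide +kernel
theorem pair_12_11 : pairC 12 11 = true := by decide +kernel
theorem pair_12_12 : pairC 12 12 = true := by decide +kernel
theorem pair_12_13 : pairC 12 13 = true := by decide +kernel
theorem pair_12_14 : pairC 12 14 = true := by decide +kernel
theorem pair_12_15 : pairC 12 15 = true := by decide +kernel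
theorem pair_12_16 : pairC 12 16 = true := by decide +kernel
theorem pair_12_17 : pairC 12 17 = true := by decide +kernel
theorem pair_12_18 : pairC 12 18 = true := by decide +kernel
theorem pair_12_19 : pairC 12 19 = true := by decide +kernel
theorem pair_12_20 : pairC 12 20 = true := by decide +kernel
theorem pair_12_21 : pairC 12 21 = true := by decide +kernel
theorem pair_12_22 : pairC 12 22 = true := by decide +kernel
theorem pair_12_23 : pairC 12 23 = true := by decide +kernel
theorem pair_12_24 : pairC 12 24 = true := by decide +kernel
theorem pair_12_25 : pairC 12 25 = true := by decide +kernel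
theorem pair_12_26 : pairC 12 26 = true := by decide +kernel
theorem pair_12_27 : pairC 12 27 = true := by decide +kernel
theorem pair_12_28 : pairC 12 28 = true := by decide +kernel
theorem pair_12_29 : pairC 12 29 = true := by decide +kernel
theorem pair_12_30 : pairC 12 30 = true := by decide +kernel
theorem pair_12_31 : pairC 12 31 = true := by decide +kernel
theorem pair_12_32 : pairC 12 32 = true := by decide +kernel
theorem pair_12_33 : pairC 12 33 = true := by decide +kernel
theorem pair_12_34 : pairC 12 34 = true := by decide +kernel
theorem pair_12_35 : pairC 12 35 = true := by decide +kernel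
theorem pair_12_36 : pairC 12 36 = true := by decide +kernel
theorem pair_12_37 : pairC 12 37 = true := by decide +kernel
theorem pair_12_38 : pairC 12 38 = true := by decide +kernel
theorem pair_12_39 : pairC 12 39 = true := by decide +kernel
theorem pair_12_40 : pairC 12 40 = true := by decide +kernel
theorem pair_12_41 : pairC 12 41 = true := by decide +kernel
theorem pair_12_42 : pairC 12 42 = true := by decide +kernel
theorem pair_12_43 : pairC 12 43 = true := by decide +kernel
theorem pair_12_44 : pairC 12 44 = true := by decide +kernel
theorem pair_12_45 : pairC 12 45 = true := by decide +kernel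
theorem pair_12_46 : pairC 12 46 = true := by decide +kernel
theorem pair_12_47 : pairC 12 47 = true := by decide +kernel
theorem chunk_12_0 : chunkB 12 0 = true :=
  chunk_of pair_12_0 pair_12_1 pair_12_2 pair_12_3 pair_12_4 pair_12_5 pair_12_6 pair_12_7
theorem chunk_12_1 : chunkB 12 1 = true :=
  chunk_of pair_12_8 pair_12_9 pair_12_10 pair_12_11 pair_12_12 pair_12_13 pair_12_14 pair_12_15
theorem chunk_12_2 : chunkB 12 2 = true :=
  chunk_of pair_12_16 pair_12_17 pair_12_18 pair_12_19 pair_12_20 pair_12_21 pair_12_22 pair_12_23
theorem chunk_12_3 : chunkB 12 3 = true :=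
  chunk_of pair_12_24 pair_12_25 pair_12_26 pair_12_27 pair_12_28 pair_12_29 pair_12_30 pair_12_31
theorem chunk_12_4 : chunkB 12 4 = true :=
  chunk_of pair_12_32 pair_12_33 pair_12_34 pair_12_35 pair_12_36 pair_12_37 pair_12_38 pair_12_39
theorem chunk_12_5 : chunkB 12 5 = true :=
  chunk_of pair_12_40 pair_12_41 pair_12_42 pair_12_43 pair_12_44 pair_12_45 pair_12_46 pair_12_47

theorem head_13 : headB 13 = true := by decide +kernel
theorem pair_13_0 : pairC 13 0 = true := by decide +kernel
theorem pair_13_1 : pairC 13 1 = true := by decide +kernel
theorem pair_13_2 : pairC 13 2 = true := by decide +kernel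
theorem pair_13_3 : pairC 13 3 = true := by decide +kernel
theorem pair_13_4 : pairC 13 4 = true := by decide +kernel
theorem pair_13_5 : pairC 13 5 = true := by decide +kernel
theorem pair_13_6 : pairC 13 6 = true := by decide +kernel
theorem pair_13_7 : pairC 13 7 = true := by decide +kernel
theorem pair_13_8 : pairC 13 8 = true := by decide +kernel
theorem pair_13_9 : pairC 13 9 = true := by decide +kernel
theorem pair_13_10 : pairC 13 10 = true := by decide +kernel
theorem pair_13_11 : pairC 13 11 = true := by decide +kernel
theorem pair_13_12 : pairC 13 12 = true := by decide +kernel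
theorem pair_13_13 : pairC 13 13 = true := by decide +kernel
theorem pair_13_14 : pairC 13 14 = true := by decide +kernel
theorem pair_13_15 : pairC 13 15 = true := by decide +kernel
theorem pair_13_16 : pairC 13 16 = true := by decide +kernel
theorem pair_13_17 : pairC 13 17 = true := by decide +kernel
theorem pair_13_18 : pairC 13 18 = true := by decide +kernel
theorem pair_13_19 : pairC 13 19 = true := by decide +kernel
theorem pair_13_20 : pairC 13 20 = true := by decide +kernel
theorem pair_13_21 : pairC 13 21 = true := by decide +kernel
theorem pair_13_22 : pairC 13 22 = true := by decide +kernel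
theorem pair_13_23 : pairC 13 23 = true := by decide +kernel
theorem pair_13_24 : pairC 13 24 = true := by decide +kernel
theorem pair_13_25 : pairC 13 25 = true := by decide +kernel
theorem pair_13_26 : pairC 13 26 = true := by decide +kernel
theorem pair_13_27 : pairC 13 27 = true := by decide +kernel
theorem pair_13_28 : pairC 13 28 = true := by decide +kernel
theorem pair_13_29 : pairC 13 29 = true := by decide +kernel
theorem pair_13_30 : pairC 13 30 = true := by decide +kernel
theorem pair_13_31 : pairC 13 31 = true := by decide +kernel
theorem pair_13_32 : pairC 13 32 = true := by decide +kernel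
theorem pair_13_33 : pairC 13 33 = true := by decide +kernel
theorem pair_13_34 : pairC 13 34 = true := by decide +kernel
theorem pair_13_35 : pairC 13 35 = true := by decide +kernel
theorem pair_13_36 : pairC 13 36 = true := by decide +kernel
theorem pair_13_37 : pairC 13 37 = true := by decide +kernel
theorem pair_13_38 : pairC 13 38 = true := by decide +kernel
theorem pair_13_39 : pairC 13 39 = true := by decide +kernel
theorem pair_13_40 : pairC 13 40 = true := by decide +kernel
theorem pair_13_41 : pairC 13 41 = true := by decide +kernel
theorem pair_13_42 : pairC 13 42 = true := by decide +kernel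
theorem pair_13_43 : pairC 13 43 = true := by decide +kernel
theorem pair_13_44 : pairC 13 44 = true := by decide +kernel
theorem pair_13_45 : pairC 13 45 = true := by decide +kernel
theorem pair_13_46 : pairC 13 46 = true := by decide +kernel
theorem pair_13_47 : pairC 13 47 = true := by decide +kernel
theorem chunk_13_0 : chunkB 13 0 = true :=
  chunk_of pair_13_0 pair_13_1 pair_13_2 pair_13_3 pair_13_4 pair_13_5 pair_13_6 pair_13_7
theorem chunk_13_1 : chunkB 13 1 = true :=
  chunk_of pair_13_8 pair_13_9 pair_13_10 pair_13_11 pair_13_12 pair_13_13 pair_13_14 pair_13_15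
theorem chunk_13_2 : chunkB 13 2 = true :=
  chunk_of pair_13_16 pair_13_17 pair_13_18 pair_13_19 pair_13_20 pair_13_21 pair_13_22 pair_13_23
theorem chunk_13_3 : chunkB 13 3 = true :=
  chunk_of pair_13_24 pair_13_25 pair_13_26 pair_13_27 pair_13_28 pair_13_29 pair_13_30 pair_13_31
theorem chunk_13_4 : chunkB 13 4 = true :=
  chunk_of pair_13_32 pair_13_33 pair_13_34 pair_13_35 pair_13_36 pair_13_37 pair_13_38 pair_13_39
theorem chunk_13_5 : chunkB 13 5 = true :=
  chunk_of pair_13_40 pair_13_41 pair_13_42 pair_13_43 pair_13_44 pair_13_45 pair_13_46 pair_13_47

theorem head_14 : headB 14 = true := by decide +kernel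
theorem pair_14_0 : pairC 14 0 = true := by decide +kernel
theorem pair_14_1 : pairC 14 1 = true := by decide +kernel
theorem pair_14_2 : pairC 14 2 = true := by decide +kernel
theorem pair_14_3 : pairC 14 3 = true := by decide +kernel
theorem pair_14_4 : pairC 14 4 = true := by decide +kernel
theorem pair_14_5 : pairC 14 5 = true := by decide +kernel
theorem pair_14_6 : pairC 14 6 = true := by decide +kernel
theorem pair_14_7 : pairC 14 7 = true := by decide +kernel
theorem pair_14_8 : pairC 14 8 = true := by decide +kernel
theorem pair_14_9 : pairC 14 9 = true := by decide +kernel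
theorem pair_14_10 : pairC 14 10 = true := by decide +kernel
theorem pair_14_11 : pairC 14 11 = true := by decide +kernel
theorem pair_14_12 : pairC 14 12 = true := by decide +kernel
theorem pair_14_13 : pairC 14 13 = true := by decide +kernel
theorem pair_14_14 : pairC 14 14 = true := by decide +kernel
theorem pair_14_15 : pairC 14 15 = true := by decide +kernel
theorem pair_14_16 : pairC 14 16 = true := by decide +kernel
theorem pair_14_17 : pairC 14 17 = true := by decide +kernel
theorem pair_14_18 : pairC 14 18 = true := by decide +kernel
theorem pair_14_19 : pairC 14 19 = true := by decide +kernel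
theorem pair_14_20 : pairC 14 20 = true := by decide +kernel
theorem pair_14_21 : pairC 14 21 = true := by decide +kernel
theorem pair_14_22 : pairC 14 22 = true := by decide +kernel
theorem pair_14_23 : pairC 14 23 = true := by decide +kernel
theorem pair_14_24 : pairC 14 24 = true := by decide +kernel
theorem pair_14_25 : pairC 14 25 = true := by decide +kernel
theorem pair_14_26 : pairC 14 26 = true := by decide +kernel
theorem pair_14_27 : pairC 14 27 = true := by decide +kernel
theorem pair_14_28 : pairC 14 28 = true := by decide +kernel
theorem pair_14_29 : pairC 14 29 = true := by decide +kernel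
theorem pair_14_30 : pairC 14 30 = true := by decide +kernel
theorem pair_14_31 : pairC 14 31 = true := by decide +kernel
theorem pair_14_32 : pairC 14 32 = true := by decide +kernel
theorem pair_14_33 : pairC 14 33 = true := by decide +kernel
theorem pair_14_34 : pairC 14 34 = true := by decide +kernel
theorem pair_14_35 : pairC 14 35 = true := by decide +kernel
theorem pair_14_36 : pairC 14 36 = true := by decide +kernel
theorem pair_14_37 : pairC 14 37 = true := by decide +kernel
theorem pair_14_38 : pairC 14 38 = true := by decide +kernel
theorem pair_14_39 : pairC 14 39 = true := by decide +kernel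
theorem pair_14_40 : pairC 14 40 = true := by decide +kernel
theorem pair_14_41 : pairC 14 41 = true := by decide +kernel
theorem pair_14_42 : pairC 14 42 = true := by decide +kernel
theorem pair_14_43 : pairC 14 43 = true := by decide +kernel
theorem pair_14_44 : pairC 14 44 = true := by decide +kernel
theorem pair_14_45 : pairC 14 45 = true := by decide +kernel
theorem pair_14_46 : pairC 14 46 = true := by decide +kernel
theorem pair_14_47 : pairC 14 47 = true := by decide +kernel
theorem chunk_14_0 : chunkB 14 0 = true :=
  chunk_of pair_14_0 pair_14_1 pair_14_2 pair_14_3 pair_14_4 pair_14_5 pair_14_6 pair_14_7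
theorem chunk_14_1 : chunkB 14 1 = true :=
  chunk_of pair_14_8 pair_14_9 pair_14_10 pair_14_11 pair_14_12 pair_14_13 pair_14_14 pair_14_15
theorem chunk_14_2 : chunkB 14 2 = true :=
  chunk_of pair_14_16 pair_14_17 pair_14_18 pair_14_19 pair_14_20 pair_14_21 pair_14_22 pair_14_23
theorem chunk_14_3 : chunkB 14 3 = true :=
  chunk_of pair_14_24 pair_14_25 pair_14_26 pair_14_27 pair_14_28 pair_14_29 pair_14_30 pair_14_31
theorem chunk_14_4 : chunkB 14 4 = true :=
  chunk_of pair_14_32 pair_14_33 pair_14_34 pair_14_35 pair_14_36 pair_14_37 pair_14_38 pair_14_39
theorem chunk_14_5 : chunkB 14 5 = true :=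
  chunk_of pair_14_40 pair_14_41 pair_14_42 pair_14_43 pair_14_44 pair_14_45 pair_14_46 pair_14_47

theorem head_15 : headB 15 = true := by decide +kernel
theorem pair_15_0 : pairC 15 0 = true := by decide +kernel
theorem pair_15_1 : pairC 15 1 = true := by decide +kernel
theorem pair_15_2 : pairC 15 2 = true := by decide +kernel
theorem pair_15_3 : pairC 15 3 = true := by decide +kernel
theorem pair_15_4 : pairC 15 4 = true := by decide +kernel
theorem pair_15_5 : pairC 15 5 = true := by decide +kernel
theorem pair_15_6 : pairC 15 6 = true := by decide +kernel
theorem pair_15_7 : pairC 15 7 = true := by decide +kernel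
theorem pair_15_8 : pairC 15 8 = true := by decide +kernel
theorem pair_15_9 : pairC 15 9 = true := by decide +kernel
theorem pair_15_10 : pairC 15 10 = true := by decide +kernel
theorem pair_15_11 : pairC 15 11 = true := by decide +kernel
theorem pair_15_12 : pairC 15 12 = true := by decide +kernel
theorem pair_15_13 : pairC 15 13 = true := by decide +kernel
theorem pair_15_14 : pairC 15 14 = true := by decide +kernel
theorem pair_15_15 : pairC 15 15 = true := by decide +kernel
theorem pair_15_16 : pairC 15 16 = true := by decide +kernel
theorem pair_15_17 : pairC 15 17 = true := by decide +kernel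
theorem pair_15_18 : pairC 15 18 = true := by decide +kernel
theorem pair_15_19 : pairC 15 19 = true := by decide +kernel
theorem pair_15_20 : pairC 15 20 = true := by decide +kernel
theorem pair_15_21 : pairC 15 21 = true := by decide +kernel
theorem pair_15_22 : pairC 15 22 = true := by decide +kernel
theorem pair_15_23 : pairC 15 23 = true := by decide +kernel
theorem pair_15_24 : pairC 15 24 = true := by decide +kernel
theorem pair_15_25 : pairC 15 25 = true := by decide +kernel
theorem pair_15_26 : pairC 15 26 = true := by decide +kernel
theorem pair_15_27 : pairC 15 27 = true := by decide +kernel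
theorem pair_15_28 : pairC 15 28 = true := by decide +kernel
theorem pair_15_29 : pairC 15 29 = true := by decide +kernel
theorem pair_15_30 : pairC 15 30 = true := by decide +kernel
theorem pair_15_31 : pairC 15 31 = true := by decide +kernel
theorem pair_15_32 : pairC 15 32 = true := by decide +kernel
theorem pair_15_33 : pairC 15 33 = true := by decide +kernel
theorem pair_15_34 : pairC 15 34 = true := by decide +kernel
theorem pair_15_35 : pairC 15 35 = true := by decide +kernel
theorem pair_15_36 : pairC 15 36 = true := by decide +kernel
theorem pair_15_37 : pairC 15 37 = true := by decide +kernel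
theorem pair_15_38 : pairC 15 38 = true := by decide +kernel
theorem pair_15_39 : pairC 15 39 = true := by decide +kernel
theorem pair_15_40 : pairC 15 40 = true := by decide +kernel
theorem pair_15_41 : pairC 15 41 = true := by decide +kernel
theorem pair_15_42 : pairC 15 42 = true := by decide +kernel
theorem pair_15_43 : pairC 15 43 = true := by decide +kernel
theorem pair_15_44 : pairC 15 44 = true := by decide +kernel
theorem pair_15_45 : pairC 15 45 = true := by decide +kernel
theorem pair_15_46 : pairC 15 46 = true := by decide +kernel
theorem pair_15_47 : pairC 15 47 = true := by decide +kernel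
theorem chunk_15_0 : chunkB 15 0 = true :=
  chunk_of pair_15_0 pair_15_1 pair_15_2 pair_15_3 pair_15_4 pair_15_5 pair_15_6 pair_15_7
theorem chunk_15_1 : chunkB 15 1 = true :=
  chunk_of pair_15_8 pair_15_9 pair_15_10 pair_15_11 pair_15_12 pair_15_13 pair_15_14 pair_15_15
theorem chunk_15_2 : chunkB 15 2 = true :=
  chunk_of pair_15_16 pair_15_17 pair_15_18 pair_15_19 pair_15_20 pair_15_21 pair_15_22 pair_15_23
theorem chunk_15_3 : chunkB 15 3 = true :=
  chunk_of pair_15_24 pair_15_25 pair_15_26 pair_15_27 pair_15_28 pair_15_29 pair_15_30 pair_15_31
theorem chunk_15_4 : chunkB 15 4 = true :=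
  chunk_of pair_15_32 pair_15_33 pair_15_34 pair_15_35 pair_15_36 pair_15_37 pair_15_38 pair_15_39
theorem chunk_15_5 : chunkB 15 5 = true :=
  chunk_of pair_15_40 pair_15_41 pair_15_42 pair_15_43 pair_15_44 pair_15_45 pair_15_46 pair_15_47

theorem head_16 : headB 16 = true := by decide +kernel
theorem pair_16_0 : pairC 16 0 = true := by decide +kernel
theorem pair_16_1 : pairC 16 1 = true := by decide +kernel
theorem pair_16_2 : pairC 16 2 = true := by decide +kernel
theorem pair_16_3 : pairC 16 3 = true := by decide +kernel
theorem pair_16_4 : pairC 16 4 = true := by decide +kernel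
theorem pair_16_5 : pairC 16 5 = true := by decide +kernel
theorem pair_16_6 : pairC 16 6 = true := by decide +kernel
theorem pair_16_7 : pairC 16 7 = true := by decide +kernel
theorem pair_16_8 : pairC 16 8 = true := by decide +kernel
theorem pair_16_9 : pairC 16 9 = true := by decide +kernel
theorem pair_16_10 : pairC 16 10 = true := by decide +kernel
theorem pair_16_11 : pairC 16 11 = true := by decide +kernel
theorem pair_16_12 : pairC 16 12 = true := by decide +kernel
theorem pair_16_13 : pairC 16 13 = true := by decide +kernel
theorem pair_16_14 : pairC 16 14 = true := by decide +kernel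
theorem pair_16_15 : pairC 16 15 = true := by decide +kernel
theorem pair_16_16 : pairC 16 16 = true := by decide +kernel
theorem pair_16_17 : pairC 16 17 = true := by decide +kernel
theorem pair_16_18 : pairC 16 18 = true := by decide +kernel
theorem pair_16_19 : pairC 16 19 = true := by decide +kernel
theorem pair_16_20 : pairC 16 20 = true := by decide +kernel
theorem pair_16_21 : pairC 16 21 = true := by decide +kernel
theorem pair_16_22 : pairC 16 22 = true := by decide +kernel
theorem pair_16_23 : pairC 16 23 = true := by decide +kernel
theorem pair_16_24 : pairC 16 24 = true := by decide +kernel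
theorem pair_16_25 : pairC 16 25 = true := by decide +kernel
theorem pair_16_26 : pairC 16 26 = true := by decide +kernel
theorem pair_16_27 : pairC 16 27 = true := by decide +kernel
theorem pair_16_28 : pairC 16 28 = true := by decide +kernel
theorem pair_16_29 : pairC 16 29 = true := by decide +kernel
theorem pair_16_30 : pairC 16 30 = true := by decide +kernel
theorem pair_16_31 : pairC 16 31 = true := by decide +kernel
theorem pair_16_32 : pairC 16 32 = true := by decide +kernel
theorem pair_16_33 : pairC 16 33 = true := by decide +kernel
theorem pair_16_34 : pairC 16 34 = true := by decide +kernel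
theorem pair_16_35 : pairC 16 35 = true := by decide +kernel
theorem pair_16_36 : pairC 16 36 = true := by decide +kernel
theorem pair_16_37 : pairC 16 37 = true := by decide +kernel
theorem pair_16_38 : pairC 16 38 = true := by decide +kernel
theorem pair_16_39 : pairC 16 39 = true := by decide +kernel
theorem pair_16_40 : pairC 16 40 = true := by decide +kernel
theorem pair_16_41 : pairC 16 41 = true := by decide +kernel
theorem pair_16_42 : pairC 16 42 = true := by decide +kernel
theorem pair_16_43 : pairC 16 43 = true := by decide +kernel
theorem pair_16_44 : pairC 16 44 = true := by decide +kernel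
theorem pair_16_45 : pairC 16 45 = true := by decide +kernel
theorem pair_16_46 : pairC 16 46 = true := by decide +kernel
theorem pair_16_47 : pairC 16 47 = true := by decide +kernel
theorem chunk_16_0 : chunkB 16 0 = true :=
  chunk_of pair_16_0 pair_16_1 pair_16_2 pair_16_3 pair_16_4 pair_16_5 pair_16_6 pair_16_7
theorem chunk_16_1 : chunkB 16 1 = true :=
  chunk_of pair_16_8 pair_16_9 pair_16_10 pair_16_11 pair_16_12 pair_16_13 pair_16_14 pair_16_15
theorem chunk_16_2 : chunkB 16 2 = true :=
  chunk_of pair_16_16 pair_16_17 pair_16_18 pair_16_19 pair_16_20 pair_16_21 pair_16_22 pair_16_23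
theorem chunk_16_3 : chunkB 16 3 = true :=
  chunk_of pair_16_24 pair_16_25 pair_16_26 pair_16_27 pair_16_28 pair_16_29 pair_16_30 pair_16_31
theorem chunk_16_4 : chunkB 16 4 = true :=
  chunk_of pair_16_32 pair_16_33 pair_16_34 pair_16_35 pair_16_36 pair_16_37 pair_16_38 pair_16_39
theorem chunk_16_5 : chunkB 16 5 = true :=
  chunk_of pair_16_40 pair_16_41 pair_16_42 pair_16_43 pair_16_44 pair_16_45 pair_16_46 pair_16_47

theorem head_17 : headB 17 = true := by decide +kernel
theorem pair_17_0 : pairC 17 0 = true := by decide +kernel
theorem pair_17_1 : pairC 17 1 = true := by decide +kernel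
theorem pair_17_2 : pairC 17 2 = true := by decide +kernel
theorem pair_17_3 : pairC 17 3 = true := by decide +kernel
theorem pair_17_4 : pairC 17 4 = true := by decide +kernel
theorem pair_17_5 : pairC 17 5 = true := by decide +kernel
theorem pair_17_6 : pairC 17 6 = true := by decide +kernel
theorem pair_17_7 : pairC 17 7 = true := by decide +kernel
theorem pair_17_8 : pairC 17 8 = true := by decide +kernel
theorem pair_17_9 : pairC 17 9 = true := by decide +kernel
theorem pair_17_10 : pairC 17 10 = true := by decide +kernel
theorem pair_17_11 : pairC 17 11 = true := by decide +kernel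
theorem pair_17_12 : pairC 17 12 = true := by decide +kernel
theorem pair_17_13 : pairC 17 13 = true := by decide +kernel
theorem pair_17_14 : pairC 17 14 = true := by decide +kernel
theorem pair_17_15 : pairC 17 15 = true := by decide +kernel
theorem pair_17_16 : pairC 17 16 = true := by decide +kernel
theorem pair_17_17 : pairC 17 17 = true := by decide +kernel
theorem pair_17_18 : pairC 17 18 = true := by decide +kernel
theorem pair_17_19 : pairC 17 19 = true := by decide +kernel
theorem pair_17_20 : pairC 17 20 = true := by decide +kernel
theorem pair_17_21 : pairC 17 21 = true := by decide +kernel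
theorem pair_17_22 : pairC 17 22 = true := by decide +kernel
theorem pair_17_23 : pairC 17 23 = true := by decide +kernel
theorem pair_17_24 : pairC 17 24 = true := by decide +kernel
theorem pair_17_25 : pairC 17 25 = true := by decide +kernel
theorem pair_17_26 : pairC 17 26 = true := by decide +kernel
theorem pair_17_27 : pairC 17 27 = true := by decide +kernel
theorem pair_17_28 : pairC 17 28 = true := by decide +kernel
theorem pair_17_29 : pairC 17 29 = true := by decide +kernel
theorem pair_17_30 : pairC 17 30 = true := by decide +kernel
theorem pair_17_31 : pairC 17 31 = true := by decide +kernel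
theorem pair_17_32 : pairC 17 32 = true := by decide +kernel
theorem pair_17_33 : pairC 17 33 = true := by decide +kernel
theorem pair_17_34 : pairC 17 34 = true := by decide +kernel
theorem pair_17_35 : pairC 17 35 = true := by decide +kernel
theorem pair_17_36 : pairC 17 36 = true := by decide +kernel
theorem pair_17_37 : pairC 17 37 = true := by decide +kernel
theorem pair_17_38 : pairC 17 38 = true := by decide +kernel
theorem pair_17_39 : pairC 17 39 = true := by decide +kernel
theorem pair_17_40 : pairC 17 40 = true := by decide +kernel
theorem pair_17_41 : pairC 17 41 = true := by decide +kernel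
theorem pair_17_42 : pairC 17 42 = true := by decide +kernel
theorem pair_17_43 : pairC 17 43 = true := by decide +kernel
theorem pair_17_44 : pairC 17 44 = true := by decide +kernel
theorem pair_17_45 : pairC 17 45 = true := by decide +kernel
theorem pair_17_46 : pairC 17 46 = true := by decide +kernel
theorem pair_17_47 : pairC 17 47 = true := by decide +kernel
theorem chunk_17_0 : chunkB 17 0 = true :=
  chunk_of pair_17_0 pair_17_1 pair_17_2 pair_17_3 pair_17_4 pair_17_5 pair_17_6 pair_17_7
theorem chunk_17_1 : chunkB 17 1 = true :=
  chunk_of pair_17_8 pair_17_9 pair_17_10 pair_17_11 pair_17_12 pair_17_13 pair_17_14 pair_17_15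
theorem chunk_17_2 : chunkB 17 2 = true :=
  chunk_of pair_17_16 pair_17_17 pair_17_18 pair_17_19 pair_17_20 pair_17_21 pair_17_22 pair_17_23
theorem chunk_17_3 : chunkB 17 3 = true :=
  chunk_of pair_17_24 pair_17_25 pair_17_26 pair_17_27 pair_17_28 pair_17_29 pair_17_30 pair_17_31
theorem chunk_17_4 : chunkB 17 4 = true :=
  chunk_of pair_17_32 pair_17_33 pair_17_34 pair_17_35 pair_17_36 pair_17_37 pair_17_38 pair_17_39
theorem chunk_17_5 : chunkB 17 5 = true :=
  chunk_of pair_17_40 pair_17_41 pair_17_42 pair_17_43 pair_17_44 pair_17_45 pair_17_46 pair_17_47

end Cfsg.Agent.F4TwoMult
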