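import Cfsg.Agent.F4TwoMult.Rep

/-!
The relations of the representation for the roots 18 to 23.
-/

set_option autoImplicit false
set_option maxRecDepth 100000
set_option Elab.async false

namespace Cfsg.Agent.F4TwoMult

theorem head_18 : headB 18 = true := by decide +kernel
theorem pair_18_0 : pairC 18 0 = true := by decide +kernel
theorem pair_18_1 : pairC 18 1 = true := by decide +kernel
theorem pair_18_2 : pairC 18 2 = true := by decide +kernel
theorem pair_18_3 : pairC 18 3 = true := by decide +kernel
theorem pair_18_4 : pairC 18 4 = true := by decide +kernel
theorem pair_18_5 : pairC 18 5 = true := by decide +kernel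
theorem pair_18_6 : pairC 18 6 = true := by decide +kernel
theorem pair_18_7 : pairC 18 7 = true := by decide +kernel
theorem pair_18_8 : pairC 18 8 = true := by decide +kernel
theorem pair_18_9 : pairC 18 9 = true := by decide +kernel
theorem pair_18_10 : pairC 18 10 = true := by decide +kernel
theorem pair_18_11 : pairC 18 11 = true := by decide +kernel
theorem pair_18_12 : pairC 18 12 = true := by decide +kernel
theorem pair_18_13 : pairC 18 13 = true := by decide +kernel
theorem pair_18_14 : pairC 18 14 = true := by decide +kernel
theorem pair_18_15 : pairC 18 15 = true := by decide +kernel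
theorem pair_18_16 : pairC 18 16 = true := by decide +kernel
theorem pair_18_17 : pairC 18 17 = true := by decide +kernel
theorem pair_18_18 : pairC 18 18 = true := by decide +kernel
theorem pair_18_19 : pairC 18 19 = true := by decide +kernel
theorem pair_18_20 : pairC 18 20 = true := by decide +kernel
theorem pair_18_21 : pairC 18 21 = true := by decide +kernel
theorem pair_18_22 : pairC 18 22 = true := by decide +kernel
theorem pair_18_23 : pairC 18 23 = true := by decide +kernel
theorem pair_18_24 : pairC 18 24 = true := by decide +kernel
theorem pair_18_25 : pairC 18 25 = true := by decide +kernel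
theorem pair_18_26 : pairC 18 26 = true := by decide +kernel
theorem pair_18_27 : pairC 18 27 = true := by decide +kernel
theorem pair_18_28 : pairC 18 28 = true := by decide +kernel
theorem pair_18_29 : pairC 18 29 = true := by decide +kernel
theorem pair_18_30 : pairC 18 30 = true := by decide +kernel
theorem pair_18_31 : pairC 18 31 = true := by decide +kernel
theorem pair_18_32 : pairC 18 32 = true := by decide +kernel
theorem pair_18_33 : pairC 18 33 = true := by decide +kernel
theorem pair_18_34 : pairC 18 34 = true := by decide +kernel
theorem pair_18_35 : pairC 18 35 = true := by decide +kernel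
theorem pair_18_36 : pairC 18 36 = true := by decide +kernel
theorem pair_18_37 : pairC 18 37 = true := by decide +kernel
theorem pair_18_38 : pairC 18 38 = true := by decide +kernel
theorem pair_18_39 : pairC 18 39 = true := by decide +kernel
theorem pair_18_40 : pairC 18 40 = true := by decide +kernel
theorem pair_18_41 : pairC 18 41 = true := by decide +kernel
theorem pair_18_42 : pairC 18 42 = true := by decide +kernel
theorem pair_18_43 : pairC 18 43 = true := by decide +kernel
theorem pair_18_44 : pairC 18 44 = true := by decide +kernel
theorem pair_18_45 : pairC 18 45 = true := by decide +kernel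
theorem pair_18_46 : pairC 18 46 = true := by decide +kernel
theorem pair_18_47 : pairC 18 47 = true := by decide +kernel
theorem chunk_18_0 : chunkB 18 0 = true :=
  chunk_of pair_18_0 pair_18_1 pair_18_2 pair_18_3 pair_18_4 pair_18_5 pair_18_6 pair_18_7
theorem chunk_18_1 : chunkB 18 1 = true :=
  chunk_of pair_18_8 pair_18_9 pair_18_10 pair_18_11 pair_18_12 pair_18_13 pair_18_14 pair_18_15
theorem chunk_18_2 : chunkB 18 2 = true :=
  chunk_of pair_18_16 pair_18_17 pair_18_18 pair_18_19 pair_18_20 pair_18_21 pair_18_22 pair_18_23
theorem chunk_18_3 : chunkB 18 3 = true :=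
  chunk_of pair_18_24 pair_18_25 pair_18_26 pair_18_27 pair_18_28 pair_18_29 pair_18_30 pair_18_31
theorem chunk_18_4 : chunkB 18 4 = true :=
  chunk_of pair_18_32 pair_18_33 pair_18_34 pair_18_35 pair_18_36 pair_18_37 pair_18_38 pair_18_39
theorem chunk_18_5 : chunkB 18 5 = true :=
  chunk_of pair_18_40 pair_18_41 pair_18_42 pair_18_43 pair_18_44 pair_18_45 pair_18_46 pair_18_47

theorem head_19 : headB 19 = true := by decide +kernel
theorem pair_19_0 : pairC 19 0 = true := by decide +kernel
theorem pair_19_1 : pairC 19 1 = true := by decide +kernel
theorem pair_19_2 : pairC 19 2 = true := by decide +kernel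
theorem pair_19_3 : pairC 19 3 = true := by decide +kernel
theorem pair_19_4 : pairC 19 4 = true := by decide +kernel
theorem pair_19_5 : pairC 19 5 = true := by decide +kernel
theorem pair_19_6 : pairC 19 6 = true := by decide +kernel
theorem pair_19_7 : pairC 19 7 = true := by decide +kernel
theorem pair_19_8 : pairC 19 8 = true := by decide +kernel
theorem pair_19_9 : pairC 19 9 = true := by decide +kernel
theorem pair_19_10 : pairC 19 10 = true := by decide +kernel
theorem pair_19_11 : pairC 19 11 = true := by decide +kernel
theorem pair_19_12 : pairC 19 12 = true := by decide +kernel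
theorem pair_19_13 : pairC 19 13 = true := by decide +kernel
theorem pair_19_14 : pairC 19 14 = true := by decide +kernel
theorem pair_19_15 : pairC 19 15 = true := by decide +kernel
theorem pair_19_16 : pairC 19 16 = true := by decide +kernel
theorem pair_19_17 : pairC 19 17 = true := by decide +kernel
theorem pair_19_18 : pairC 19 18 = true := by decide +kernel
theorem pair_19_19 : pairC 19 19 = true := by decide +kernel
theorem pair_19_20 : pairC 19 20 = true := by decide +kernel
theorem pair_19_21 : pairC 19 21 = true := by decide +kernel
theorem pair_19_22 : pairC 19 22 = true := by decide +kernel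
theorem pair_19_23 : pairC 19 23 = true := by decide +kernel
theorem pair_19_24 : pairC 19 24 = true := by decide +kernel
theorem pair_19_25 : pairC 19 25 = true := by decide +kernel
theorem pair_19_26 : pairC 19 26 = true := by decide +kernel
theorem pair_19_27 : pairC 19 27 = true := by decide +kernel
theorem pair_19_28 : pairC 19 28 = true := by decide +kernel
theorem pair_19_29 : pairC 19 29 = true := by decide +kernel
theorem pair_19_30 : pairC 19 30 = true := by decide +kernel
theorem pair_19_31 : pairC 19 31 = true := by decide +kernel
theorem pair_19_32 : pairC 19 32 = true := by decide +kernel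
theorem pair_19_33 : pairC 19 33 = true := by decide +kernel
theorem pair_19_34 : pairC 19 34 = true := by decide +kernel
theorem pair_19_35 : pairC 19 35 = true := by decide +kernel
theorem pair_19_36 : pairC 19 36 = true := by decide +kernel
theorem pair_19_37 : pairC 19 37 = true := by decide +kernel
theorem pair_19_38 : pairC 19 38 = true := by decide +kernel
theorem pair_19_39 : pairC 19 39 = true := by decide +kernel
theorem pair_19_40 : pairC 19 40 = true := by decide +kernel
theorem pair_19_41 : pairC 19 41 = true := by decide +kernel
theorem pair_19_42 : pairC 19 42 = true := by decide +kernel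
theorem pair_19_43 : pairC 19 43 = true := by decide +kernel
theorem pair_19_44 : pairC 19 44 = true := by decide +kernel
theorem pair_19_45 : pairC 19 45 = true := by decide +kernel
theorem pair_19_46 : pairC 19 46 = true := by decide +kernel
theorem pair_19_47 : pairC 19 47 = true := by decide +kernel
theorem chunk_19_0 : chunkB 19 0 = true :=
  chunk_of pair_19_0 pair_19_1 pair_19_2 pair_19_3 pair_19_4 pair_19_5 pair_19_6 pair_19_7
theorem chunk_19_1 : chunkB 19 1 = true :=
  chunk_of pair_19_8 pair_19_9 pair_19_10 pair_19_11 pair_19_12 pair_19_13 pair_19_14 pair_19_15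
theorem chunk_19_2 : chunkB 19 2 = true :=
  chunk_of pair_19_16 pair_19_17 pair_19_18 pair_19_19 pair_19_20 pair_19_21 pair_19_22 pair_19_23
theorem chunk_19_3 : chunkB 19 3 = true :=
  chunk_of pair_19_24 pair_19_25 pair_19_26 pair_19_27 pair_19_28 pair_19_29 pair_19_30 pair_19_31
theorem chunk_19_4 : chunkB 19 4 = true :=
  chunk_of pair_19_32 pair_19_33 pair_19_34 pair_19_35 pair_19_36 pair_19_37 pair_19_38 pair_19_39
theorem chunk_19_5 : chunkB 19 5 = true :=
  chunk_of pair_19_40 pair_19_41 pair_19_42 pair_19_43 pair_19_44 pair_19_45 pair_19_46 pair_19_47

theorem head_20 : headB 20 = true := by decide +kernel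
theorem pair_20_0 : pairC 20 0 = true := by decide +kernel
theorem pair_20_1 : pairC 20 1 = true := by decide +kernel
theorem pair_20_2 : pairC 20 2 = true := by decide +kernel
theorem pair_20_3 : pairC 20 3 = true := by decide +kernel
theorem pair_20_4 : pairC 20 4 = true := by decide +kernel
theorem pair_20_5 : pairC 20 5 = true := by decide +kernel
theorem pair_20_6 : pairC 20 6 = true := by decide +kernel
theorem pair_20_7 : pairC 20 7 = true := by decide +kernel
theorem pair_20_8 : pairC 20 8 = true := by decide +kernel
theorem pair_20_9 : pairC 20 9 = true := by decide +kernel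
theorem pair_20_10 : pairC 20 10 = true := by decide +kernel
theorem pair_20_11 : pairC 20 11 = true := by decide +kernel
theorem pair_20_12 : pairC 20 12 = true := by decide +kernel
theorem pair_20_13 : pairC 20 13 = true := by decide +kernel
theorem pair_20_14 : pairC 20 14 = true := by decide +kernel
theorem pair_20_15 : pairC 20 15 = true := by decide +kernel
theorem pair_20_16 : pairC 20 16 = true := by decide +kernel
theorem pair_20_17 : pairC 20 17 = true := by decide +kernel
theorem pair_20_18 : pairC 20 18 = true := by decide +kernel
theorem pair_20_19 : pairC 20 19 = true := by decide +kernel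
theorem pair_20_20 : pairC 20 20 = true := by decide +kernel
theorem pair_20_21 : pairC 20 21 = true := by decide +kernel
theorem pair_20_22 : pairC 20 22 = true := by decide +kernel
theorem pair_20_23 : pairC 20 23 = true := by decide +kernel
theorem pair_20_24 : pairC 20 24 = true := by decide +kernel
theorem pair_20_25 : pairC 20 25 = true := by decide +kernel
theorem pair_20_26 : pairC 20 26 = true := by decide +kernel
theorem pair_20_27 : pairC 20 27 = true := by decide +kernel
theorem pair_20_28 : pairC 20 28 = true := by decide +kernel
theorem pair_20_29 : pairC 20 29 = true := by decide +kernel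
theorem pair_20_30 : pairC 20 30 = true := by decide +kernel
theorem pair_20_31 : pairC 20 31 = true := by decide +kernel
theorem pair_20_32 : pairC 20 32 = true := by decide +kernel
theorem pair_20_33 : pairC 20 33 = true := by decide +kernel
theorem pair_20_34 : pairC 20 34 = true := by decide +kernel
theorem pair_20_35 : pairC 20 35 = true := by decide +kernel
theorem pair_20_36 : pairC 20 36 = true := by decide +kernel
theorem pair_20_37 : pairC 20 37 = true := by decide +kernel
theorem pair_20_38 : pairC 20 38 = true := by decide +kernel
theorem pair_20_39 : pairC 20 39 = true := by decide +kernel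
theorem pair_20_40 : pairC 20 40 = true := by decide +kernel
theorem pair_20_41 : pairC 20 41 = true := by decide +kernel
theorem pair_20_42 : pairC 20 42 = true := by decide +kernel
theorem pair_20_43 : pairC 20 43 = true := by decide +kernel
theorem pair_20_44 : pairC 20 44 = true := by decide +kernel
theorem pair_20_45 : pairC 20 45 = true := by decide +kernel
theorem pair_20_46 : pairC 20 46 = true := by decide +kernel
theorem pair_20_47 : pairC 20 47 = true := by decide +kernel
theorem chunk_20_0 : chunkB 20 0 = true :=
  chunk_of pair_20_0 pair_20_1 pair_20_2 pair_20_3 pair_20_4 pair_20_5 pair_20_6 pair_20_7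
theorem chunk_20_1 : chunkB 20 1 = true :=
  chunk_of pair_20_8 pair_20_9 pair_20_10 pair_20_11 pair_20_12 pair_20_13 pair_20_14 pair_20_15
theorem chunk_20_2 : chunkB 20 2 = true :=
  chunk_of pair_20_16 pair_20_17 pair_20_18 pair_20_19 pair_20_20 pair_20_21 pair_20_22 pair_20_23
theorem chunk_20_3 : chunkB 20 3 = true :=
  chunk_of pair_20_24 pair_20_25 pair_20_26 pair_20_27 pair_20_28 pair_20_29 pair_20_30 pair_20_31
theorem chunk_20_4 : chunkB 20 4 = true :=
  chunk_of pair_20_32 pair_20_33 pair_20_34 pair_20_35 pair_20_36 pair_20_37 pair_20_38 pair_20_39
theorem chunk_20_5 : chunkB 20 5 = true :=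
  chunk_of pair_20_40 pair_20_41 pair_20_42 pair_20_43 pair_20_44 pair_20_45 pair_20_46 pair_20_47

theorem head_21 : headB 21 = true := by decide +kernel
theorem pair_21_0 : pairC 21 0 = true := by decide +kernel
theorem pair_21_1 : pairC 21 1 = true := by decide +kernel
theorem pair_21_2 : pairC 21 2 = true := by decide +kernel
theorem pair_21_3 : pairC 21 3 = true := by decide +kernel
theorem pair_21_4 : pairC 21 4 = true := by decide +kernel
theorem pair_21_5 : pairC 21 5 = true := by decide +kernel
theorem pair_21_6 : pairC 21 6 = true := by decide +kernel
theorem pair_21_7 : pairC 21 7 = true := by decide +kernel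
theorem pair_21_8 : pairC 21 8 = true := by decide +kernel
theorem pair_21_9 : pairC 21 9 = true := by decide +kernel
theorem pair_21_10 : pairC 21 10 = true := by decide +kernel
theorem pair_21_11 : pairC 21 11 = true := by decide +kernel
theorem pair_21_12 : pairC 21 12 = true := by decide +kernel
theorem pair_21_13 : pairC 21 13 = true := by decide +kernel
theorem pair_21_14 : pairC 21 14 = true := by decide +kernel
theorem pair_21_15 : pairC 21 15 = true := by decide +kernel
theorem pair_21_16 : pairC 21 16 = true := by decide +kernel
theorem pair_21_17 : pairC 21 17 = true := by decide +kernel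
theorem pair_21_18 : pairC 21 18 = true := by decide +kernel
theorem pair_21_19 : pairC 21 19 = true := by decide +kernel
theorem pair_21_20 : pairC 21 20 = true := by decide +kernel
theorem pair_21_21 : pairC 21 21 = true := by decide +kernel
theorem pair_21_22 : pairC 21 22 = true := by decide +kernel
theorem pair_21_23 : pairC 21 23 = true := by decide +kernel
theorem pair_21_24 : pairC 21 24 = true := by decide +kernel
theorem pair_21_25 : pairC 21 25 = true := by decide +kernel
theorem pair_21_26 : pairC 21 26 = true := by decide +kernel
theorem pair_21_27 : pairC 21 27 = true := by decide +kernel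
theorem pair_21_28 : pairC 21 28 = true := by decide +kernel
theorem pair_21_29 : pairC 21 29 = true := by decide +kernel
theorem pair_21_30 : pairC 21 30 = true := by decide +kernel
theorem pair_21_31 : pairC 21 31 = true := by decide +kernel
theorem pair_21_32 : pairC 21 32 = true := by decide +kernel
theorem pair_21_33 : pairC 21 33 = true := by decide +kernel
theorem pair_21_34 : pairC 21 34 = true := by decide +kernel
theorem pair_21_35 : pairC 21 35 = true := by decide +kernel
theorem pair_21_36 : pairC 21 36 = true := by decide +kernel
theorem pair_21_37 : pairC 21 37 = true := by decide +kernel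
theorem pair_21_38 : pairC 21 38 = true := by decide +kernel
theorem pair_21_39 : pairC 21 39 = true := by decide +kernel
theorem pair_21_40 : pairC 21 40 = true := by decide +kernel
theorem pair_21_41 : pairC 21 41 = true := by decide +kernel
theorem pair_21_42 : pairC 21 42 = true := by decide +kernel
theorem pair_21_43 : pairC 21 43 = true := by decide +kernel
theorem pair_21_44 : pairC 21 44 = true := by decide +kernel
theorem pair_21_45 : pairC 21 45 = true := by decide +kernel
theorem pair_21_46 : pairC 21 46 = true := by decide +kernel
theorem pair_21_47 : pairC 21 47 = true := by decide +kernel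
theorem chunk_21_0 : chunkB 21 0 = true :=
  chunk_of pair_21_0 pair_21_1 pair_21_2 pair_21_3 pair_21_4 pair_21_5 pair_21_6 pair_21_7
theorem chunk_21_1 : chunkB 21 1 = true :=
  chunk_of pair_21_8 pair_21_9 pair_21_10 pair_21_11 pair_21_12 pair_21_13 pair_21_14 pair_21_15
theorem chunk_21_2 : chunkB 21 2 = true :=
  chunk_of pair_21_16 pair_21_17 pair_21_18 pair_21_19 pair_21_20 pair_21_21 pair_21_22 pair_21_23
theorem chunk_21_3 : chunkB 21 3 = true :=
  chunk_of pair_21_24 pair_21_25 pair_21_26 pair_21_27 pair_21_28 pair_21_29 pair_21_30 pair_21_31
theorem chunk_21_4 : chunkB 21 4 = true :=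
  chunk_of pair_21_32 pair_21_33 pair_21_34 pair_21_35 pair_21_36 pair_21_37 pair_21_38 pair_21_39
theorem chunk_21_5 : chunkB 21 5 = true :=
  chunk_of pair_21_40 pair_21_41 pair_21_42 pair_21_43 pair_21_44 pair_21_45 pair_21_46 pair_21_47

theorem head_22 : headB 22 = true := by decide +kernel
theorem pair_22_0 : pairC 22 0 = true := by decide +kernel
theorem pair_22_1 : pairC 22 1 = true := by decide +kernel
theorem pair_22_2 : pairC 22 2 = true := by decide +kernel
theorem pair_22_3 : pairC 22 3 = true := by decide +kernel
theorem pair_22_4 : pairC 22 4 = true := by decide +kernel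
theorem pair_22_5 : pairC 22 5 = true := by decide +kernel
theorem pair_22_6 : pairC 22 6 = true := by decide +kernel
theorem pair_22_7 : pairC 22 7 = true := by decide +kernel
theorem pair_22_8 : pairC 22 8 = true := by decide +kernel
theorem pair_22_9 : pairC 22 9 = true := by decide +kernel
theorem pair_22_10 : pairC 22 10 = true := by decide +kernel
theorem pair_22_11 : pairC 22 11 = true := by decide +kernel
theorem pair_22_12 : pairC 22 12 = true := by decide +kernel
theorem pair_22_13 : pairC 22 13 = true := by decide +kernel
theorem pair_22_14 : pairC 22 14 = true := by decide +kernel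
theorem pair_22_15 : pairC 22 15 = true := by decide +kernel
theorem pair_22_16 : pairC 22 16 = true := by decide +kernel
theorem pair_22_17 : pairC 22 17 = true := by decide +kernel
theorem pair_22_18 : pairC 22 18 = true := by decide +kernel
theorem pair_22_19 : pairC 22 19 = true := by decide +kernel
theorem pair_22_20 : pairC 22 20 = true := by decide +kernel
theorem pair_22_21 : pairC 22 21 = true := by decide +kernel
theorem pair_22_22 : pairC 22 22 = true := by decide +kernel
theorem pair_22_23 : pairC 22 23 = true := by decide +kernel
theorem pair_22_24 : pairC 22 24 = true := by decide +kernel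
theorem pair_22_25 : pairC 22 25 = true := by decide +kernel
theorem pair_22_26 : pairC 22 26 = true := by decide +kernel
theorem pair_22_27 : pairC 22 27 = true := by decide +kernel
theorem pair_22_28 : pairC 22 28 = true := by decide +kernel
theorem pair_22_29 : pairC 22 29 = true := by decide +kernel
theorem pair_22_30 : pairC 22 30 = true := by decide +kernel
theorem pair_22_31 : pairC 22 31 = true := by decide +kernel
theorem pair_22_32 : pairC 22 32 = true := by decide +kernel
theorem pair_22_33 : pairC 22 33 = true := by decide +kernel
theorem pair_22_34 : pairC 22 34 = true := by decide +kernel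
theorem pair_22_35 : pairC 22 35 = true := by decide +kernel
theorem pair_22_36 : pairC 22 36 = true := by decide +kernel
theorem pair_22_37 : pairC 22 37 = true := by decide +kernel
theorem pair_22_38 : pairC 22 38 = true := by decide +kernel
theorem pair_22_39 : pairC 22 39 = true := by decide +kernel
theorem pair_22_40 : pairC 22 40 = true := by decide +kernel
theorem pair_22_41 : pairC 22 41 = true := by decide +kernel
theorem pair_22_42 : pairC 22 42 = true := by decide +kernel
theorem pair_22_43 : pairC 22 43 = true := by decide +kernel
theorem pair_22_44 : pairC 22 44 = true := by decide +kernel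
theorem pair_22_45 : pairC 22 45 = true := by decide +kernel
theorem pair_22_46 : pairC 22 46 = true := by decide +kernel
theorem pair_22_47 : pairC 22 47 = true := by decide +kernel
theorem chunk_22_0 : chunkB 22 0 = true :=
  chunk_of pair_22_0 pair_22_1 pair_22_2 pair_22_3 pair_22_4 pair_22_5 pair_22_6 pair_22_7
theorem chunk_22_1 : chunkB 22 1 = true :=
  chunk_of pair_22_8 pair_22_9 pair_22_10 pair_22_11 pair_22_12 pair_22_13 pair_22_14 pair_22_15
theorem chunk_22_2 : chunkB 22 2 = true :=
  chunk_of pair_22_16 pair_22_17 pair_22_18 pair_22_19 pair_22_20 pair_22_21 pair_22_22 pair_22_23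
theorem chunk_22_3 : chunkB 22 3 = true :=
  chunk_of pair_22_24 pair_22_25 pair_22_26 pair_22_27 pair_22_28 pair_22_29 pair_22_30 pair_22_31
theorem chunk_22_4 : chunkB 22 4 = true :=
  chunk_of pair_22_32 pair_22_33 pair_22_34 pair_22_35 pair_22_36 pair_22_37 pair_22_38 pair_22_39
theorem chunk_22_5 : chunkB 22 5 = true :=
  chunk_of pair_22_40 pair_22_41 pair_22_42 pair_22_43 pair_22_44 pair_22_45 pair_22_46 pair_22_47

theorem head_23 : headB 23 = true := by decide +kernel
theorem pair_23_0 : pairC 23 0 = true := by decide +kernel
theorem pair_23_1 : pairC 23 1 = true := by decide +kernel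
theorem pair_23_2 : pairC 23 2 = true := by decide +kernel
theorem pair_23_3 : pairC 23 3 = true := by decide +kernel
theorem pair_23_4 : pairC 23 4 = true := by decide +kernel
theorem pair_23_5 : pairC 23 5 = true := by decide +kernel
theorem pair_23_6 : pairC 23 6 = true := by decide +kernel
theorem pair_23_7 : pairC 23 7 = true := by decide +kernel
theorem pair_23_8 : pairC 23 8 = true := by decide +kernel
theorem pair_23_9 : pairC 23 9 = true := by decide +kernel
theorem pair_23_10 : pairC 23 10 = true := by decide +kernel
theorem pair_23_11 : pairC 23 11 = true := by decide +kernel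
theorem pair_23_12 : pairC 23 12 = true := by decide +kernel
theorem pair_23_13 : pairC 23 13 = true := by decide +kernel
theorem pair_23_14 : pairC 23 14 = true := by decide +kernel
theorem pair_23_15 : pairC 23 15 = true := by decide +kernel
theorem pair_23_16 : pairC 23 16 = true := by decide +kernel
theorem pair_23_17 : pairC 23 17 = true := by decide +kernel
theorem pair_23_18 : pairC 23 18 = true := by decide +kernel
theorem pair_23_19 : pairC 23 19 = true := by decide +kernel
theorem pair_23_20 : pairC 23 20 = true := by decide +kernel
theorem pair_23_21 : pairC 23 21 = true := by decide +kernel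
theorem pair_23_22 : pairC 23 22 = true := by decide +kernel
theorem pair_23_23 : pairC 23 23 = true := by decide +kernel
theorem pair_23_24 : pairC 23 24 = true := by decide +kernel
theorem pair_23_25 : pairC 23 25 = true := by decide +kernel
theorem pair_23_26 : pairC 23 26 = true := by decide +kernel
theorem pair_23_27 : pairC 23 27 = true := by decide +kernel
theorem pair_23_28 : pairC 23 28 = true := by decide +kernel
theorem pair_23_29 : pairC 23 29 = true := by decide +kernel
theorem pair_23_30 : pairC 23 30 = true := by decide +kernel
theorem pair_23_31 : pairC 23 31 = true := by decide +kernel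
theorem pair_23_32 : pairC 23 32 = true := by decide +kernel
theorem pair_23_33 : pairC 23 33 = true := by decide +kernel
theorem pair_23_34 : pairC 23 34 = true := by decide +kernel
theorem pair_23_35 : pairC 23 35 = true := by decide +kernel
theorem pair_23_36 : pairC 23 36 = true := by decide +kernel
theorem pair_23_37 : pairC 23 37 = true := by decide +kernel
theorem pair_23_38 : pairC 23 38 = true := by decide +kernel
theorem pair_23_39 : pairC 23 39 = true := by decide +kernel
theorem pair_23_40 : pairC 23 40 = true := by decide +kernel
theorem pair_23_41 : pairC 23 41 = true := by decide +kernel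
theorem pair_23_42 : pairC 23 42 = true := by decide +kernel
theorem pair_23_43 : pairC 23 43 = true := by decide +kernel
theorem pair_23_44 : pairC 23 44 = true := by decide +kernel
theorem pair_23_45 : pairC 23 45 = true := by decide +kernel
theorem pair_23_46 : pairC 23 46 = true := by decide +kernel
theorem pair_23_47 : pairC 23 47 = true := by decide +kernel
theorem chunk_23_0 : chunkB 23 0 = true :=
  chunk_of pair_23_0 pair_23_1 pair_23_2 pair_23_3 pair_23_4 pair_23_5 pair_23_6 pair_23_7
theorem chunk_23_1 : chunkB 23 1 = true :=
  chunk_of pair_23_8 pair_23_9 pair_23_10 pair_23_11 pair_23_12 pair_23_13 pair_23_14 pair_23_15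
theorem chunk_23_2 : chunkB 23 2 = true :=
  chunk_of pair_23_16 pair_23_17 pair_23_18 pair_23_19 pair_23_20 pair_23_21 pair_23_22 pair_23_23
theorem chunk_23_3 : chunkB 23 3 = true :=
  chunk_of pair_23_24 pair_23_25 pair_23_26 pair_23_27 pair_23_28 pair_23_29 pair_23_30 pair_23_31
theorem chunk_23_4 : chunkB 23 4 = true :=
  chunk_of pair_23_32 pair_23_33 pair_23_34 pair_23_35 pair_23_36 pair_23_37 pair_23_38 pair_23_39
theorem chunk_23_5 : chunkB 23 5 = true :=
  chunk_of pair_23_40 pair_23_41 pair_23_42 pair_23_43 pair_23_44 pair_23_45 pair_23_46 pair_23_47

end Cfsg.Agent.F4TwoMult
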