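import Cfsg.Agent.F4TwoMult.Rep

/-!
The relations of the representation for the roots 24 to 29.
-/

set_option autoImplicit false
set_option maxRecDepth 100000
set_option Elab.async false

namespace Cfsg.Agent.F4TwoMult

theorem head_24 : headB 24 = true := by decide +kernel
theorem pair_24_0 : pairC 24 0 = true := by decide +kernel
theorem pair_24_1 : pairC 24 1 = true := by decide +kernel
theorem pair_24_2 : pairC 24 2 = true := by decide +kernel
theorem pair_24_3 : pairC 24 3 = true := by decide +kernel
theorem pair_24_4 : pairC 24 4 = true := by decide +kernel
theorem pair_24_5 : pairC 24 5 = true := by decide +kernel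
theorem pair_24_6 : pairC 24 6 = true := by decide +kernel
theorem pair_24_7 : pairC 24 7 = true := by decide +kernel
theorem pair_24_8 : pairC 24 8 = true := by decide +kernel
theorem pair_24_9 : pairC 24 9 = true := by decide +kernel
theorem pair_24_10 : pairC 24 10 = true := by decide +kernel
theorem pair_24_11 : pairC 24 11 = true := by decide +kernel
theorem pair_24_12 : pairC 24 12 = true := by decide +kernel
theorem pair_24_13 : pairC 24 13 = true := by decide +kernel
theorem pair_24_14 : pairC 24 14 = true := by decide +kernel
theorem pair_24_15 : pairC 24 15 = true := by decide +kernel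
theorem pair_24_16 : pairC 24 16 = true := by decide +kernel
theorem pair_24_17 : pairC 24 17 = true := by decide +kernel
theorem pair_24_18 : pairC 24 18 = true := by decide +kernel
theorem pair_24_19 : pairC 24 19 = true := by decide +kernel
theorem pair_24_20 : pairC 24 20 = true := by decide +kernel
theorem pair_24_21 : pairC 24 21 = true := by decide +kernel
theorem pair_24_22 : pairC 24 22 = true := by decide +kernel
theorem pair_24_23 : pairC 24 23 = true := by decide +kernel
theorem pair_24_24 : pairC 24 24 = true := by decide +kernel
theorem pair_24_25 : pairC 24 25 = true := by decide +kernel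
theorem pair_24_26 : pairC 24 26 = true := by decide +kernel
theorem pair_24_27 : pairC 24 27 = true := by decide +kernel
theorem pair_24_28 : pairC 24 28 = true := by decide +kernel
theorem pair_24_29 : pairC 24 29 = true := by decide +kernel
theorem pair_24_30 : pairC 24 30 = true := by decide +kernel
theorem pair_24_31 : pairC 24 31 = true := by decide +kernel
theorem pair_24_32 : pairC 24 32 = true := by decide +kernel
theorem pair_24_33 : pairC 24 33 = true := by decide +kernel
theorem pair_24_34 : pairC 24 34 = true := by decide +kernel
theorem pair_24_35 : pairC 24 35 = true := by decide +kernel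
theorem pair_24_36 : pairC 24 36 = true := by decide +kernel
theorem pair_24_37 : pairC 24 37 = true := by decide +kernel
theorem pair_24_38 : pairC 24 38 = true := by decide +kernel
theorem pair_24_39 : pairC 24 39 = true := by decide +kernel
theorem pair_24_40 : pairC 24 40 = true := by decide +kernel
theorem pair_24_41 : pairC 24 41 = true := by decide +kernel
theorem pair_24_42 : pairC 24 42 = true := by decide +kernel
theorem pair_24_43 : pairC 24 43 = true := by decide +kernel
theorem pair_24_44 : pairC 24 44 = true := by decide +kernel
theorem pair_24_45 : pairC 24 45 = true := by decide +kernel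
theorem pair_24_46 : pairC 24 46 = true := by decide +kernel
theorem pair_24_47 : pairC 24 47 = true := by decide +kernel
theorem chunk_24_0 : chunkB 24 0 = true :=
  chunk_of pair_24_0 pair_24_1 pair_24_2 pair_24_3 pair_24_4 pair_24_5 pair_24_6 pair_24_7
theorem chunk_24_1 : chunkB 24 1 = true :=
  chunk_of pair_24_8 pair_24_9 pair_24_10 pair_24_11 pair_24_12 pair_24_13 pair_24_14 pair_24_15
theorem chunk_24_2 : chunkB 24 2 = true :=
  chunk_of pair_24_16 pair_24_17 pair_24_18 pair_24_19 pair_24_20 pair_24_21 pair_24_22 pair_24_23
theorem chunk_24_3 : chunkB 24 3 = true :=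
  chunk_of pair_24_24 pair_24_25 pair_24_26 pair_24_27 pair_24_28 pair_24_29 pair_24_30 pair_24_31
theorem chunk_24_4 : chunkB 24 4 = true :=
  chunk_of pair_24_32 pair_24_33 pair_24_34 pair_24_35 pair_24_36 pair_24_37 pair_24_38 pair_24_39
theorem chunk_24_5 : chunkB 24 5 = true :=
  chunk_of pair_24_40 pair_24_41 pair_24_42 pair_24_43 pair_24_44 pair_24_45 pair_24_46 pair_24_47

theorem head_25 : headB 25 = true := by decide +kernel
theorem pair_25_0 : pairC 25 0 = true := by decide +kernel
theorem pair_25_1 : pairC 25 1 = true := by decide +kernel
theorem pair_25_2 : pairC 25 2 = true := by decide +kernel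
theorem pair_25_3 : pairC 25 3 = true := by decide +kernel
theorem pair_25_4 : pairC 25 4 = true := by decide +kernel
theorem pair_25_5 : pairC 25 5 = true := by decide +kernel
theorem pair_25_6 : pairC 25 6 = true := by decide +kernel
theorem pair_25_7 : pairC 25 7 = true := by decide +kernel
theorem pair_25_8 : pairC 25 8 = true := by decide +kernel
theorem pair_25_9 : pairC 25 9 = true := by decide +kernel
theorem pair_25_10 : pairC 25 10 = true := by decide +kernel
theorem pair_25_11 : pairC 25 11 = true := by decide +kernel
theorem pair_25_12 : pairC 25 12 = true := by decide +kernel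
theorem pair_25_13 : pairC 25 13 = true := by decide +kernel
theorem pair_25_14 : pairC 25 14 = true := by decide +kernel
theorem pair_25_15 : pairC 25 15 = true := by decide +kernel
theorem pair_25_16 : pairC 25 16 = true := by decide +kernel
theorem pair_25_17 : pairC 25 17 = true := by decide +kernel
theorem pair_25_18 : pairC 25 18 = true := by decide +kernel
theorem pair_25_19 : pairC 25 19 = true := by decide +kernel
theorem pair_25_20 : pairC 25 20 = true := by decide +kernel
theorem pair_25_21 : pairC 25 21 = true := by decide +kernel
theorem pair_25_22 : pairC 25 22 = true := by decide +kernel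
theorem pair_25_23 : pairC 25 23 = true := by decide +kernel
theorem pair_25_24 : pairC 25 24 = true := by decide +kernel
theorem pair_25_25 : pairC 25 25 = true := by decide +kernel
theorem pair_25_26 : pairC 25 26 = true := by decide +kernel
theorem pair_25_27 : pairC 25 27 = true := by decide +kernel
theorem pair_25_28 : pairC 25 28 = true := by decide +kernel
theorem pair_25_29 : pairC 25 29 = true := by decide +kernel
theorem pair_25_30 : pairC 25 30 = true := by decide +kernel
theorem pair_25_31 : pairC 25 31 = true := by decide +kernel
theorem pair_25_32 : pairC 25 32 = true := by decide +kernel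
theorem pair_25_33 : pairC 25 33 = true := by decide +kernel
theorem pair_25_34 : pairC 25 34 = true := by decide +kernel
theorem pair_25_35 : pairC 25 35 = true := by decide +kernel
theorem pair_25_36 : pairC 25 36 = true := by decide +kernel
theorem pair_25_37 : pairC 25 37 = true := by decide +kernel
theorem pair_25_38 : pairC 25 38 = true := by decide +kernel
theorem pair_25_39 : pairC 25 39 = true := by decide +kernel
theorem pair_25_40 : pairC 25 40 = true := by decide +kernel
theorem pair_25_41 : pairC 25 41 = true := by decide +kernel
theorem pair_25_42 : pairC 25 42 = true := by decide +kernel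
theorem pair_25_43 : pairC 25 43 = true := by decide +kernel
theorem pair_25_44 : pairC 25 44 = true := by decide +kernel
theorem pair_25_45 : pairC 25 45 = true := by decide +kernel
theorem pair_25_46 : pairC 25 46 = true := by decide +kernel
theorem pair_25_47 : pairC 25 47 = true := by decide +kernel
theorem chunk_25_0 : chunkB 25 0 = true :=
  chunk_of pair_25_0 pair_25_1 pair_25_2 pair_25_3 pair_25_4 pair_25_5 pair_25_6 pair_25_7
theorem chunk_25_1 : chunkB 25 1 = true :=
  chunk_of pair_25_8 pair_25_9 pair_25_10 pair_25_11 pair_25_12 pair_25_13 pair_25_14 pair_25_15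
theorem chunk_25_2 : chunkB 25 2 = true :=
  chunk_of pair_25_16 pair_25_17 pair_25_18 pair_25_19 pair_25_20 pair_25_21 pair_25_22 pair_25_23
theorem chunk_25_3 : chunkB 25 3 = true :=
  chunk_of pair_25_24 pair_25_25 pair_25_26 pair_25_27 pair_25_28 pair_25_29 pair_25_30 pair_25_31
theorem chunk_25_4 : chunkB 25 4 = true :=
  chunk_of pair_25_32 pair_25_33 pair_25_34 pair_25_35 pair_25_36 pair_25_37 pair_25_38 pair_25_39
theorem chunk_25_5 : chunkB 25 5 = true :=
  chunk_of pair_25_40 pair_25_41 pair_25_42 pair_25_43 pair_25_44 pair_25_45 pair_25_46 pair_25_47

theorem head_26 : headB 26 = true := by decide +kernel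
theorem pair_26_0 : pairC 26 0 = true := by decide +kernel
theorem pair_26_1 : pairC 26 1 = true := by decide +kernel
theorem pair_26_2 : pairC 26 2 = true := by decide +kernel
theorem pair_26_3 : pairC 26 3 = true := by decide +kernel
theorem pair_26_4 : pairC 26 4 = true := by decide +kernel
theorem pair_26_5 : pairC 26 5 = true := by decide +kernel
theorem pair_26_6 : pairC 26 6 = true := by decide +kernel
theorem pair_26_7 : pairC 26 7 = true := by decide +kernel
theorem pair_26_8 : pairC 26 8 = true := by decide +kernel
theorem pair_26_9 : pairC 26 9 = true := by decide +kernel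
theorem pair_26_10 : pairC 26 10 = true := by decide +kernel
theorem pair_26_11 : pairC 26 11 = true := by decide +kernel
theorem pair_26_12 : pairC 26 12 = true := by decide +kernel
theorem pair_26_13 : pairC 26 13 = true := by decide +kernel
theorem pair_26_14 : pairC 26 14 = true := by decide +kernel
theorem pair_26_15 : pairC 26 15 = true := by decide +kernel
theorem pair_26_16 : pairC 26 16 = true := by decide +kernel
theorem pair_26_17 : pairC 26 17 = true := by decide +kernel
theorem pair_26_18 : pairC 26 18 = true := by decide +kernel
theorem pair_26_19 : pairC 26 19 = true := by decide +kernel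
theorem pair_26_20 : pairC 26 20 = true := by decide +kernel
theorem pair_26_21 : pairC 26 21 = true := by decide +kernel
theorem pair_26_22 : pairC 26 22 = true := by decide +kernel
theorem pair_26_23 : pairC 26 23 = true := by decide +kernel
theorem pair_26_24 : pairC 26 24 = true := by decide +kernel
theorem pair_26_25 : pairC 26 25 = true := by decide +kernel
theorem pair_26_26 : pairC 26 26 = true := by decide +kernel
theorem pair_26_27 : pairC 26 27 = true := by decide +kernel
theorem pair_26_28 : pairC 26 28 = true := by decide +kernel
theorem pair_26_29 : pairC 26 29 = true := by decide +kernel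
theorem pair_26_30 : pairC 26 30 = true := by decide +kernel
theorem pair_26_31 : pairC 26 31 = true := by decide +kernel
theorem pair_26_32 : pairC 26 32 = true := by decide +kernel
theorem pair_26_33 : pairC 26 33 = true := by decide +kernel
theorem pair_26_34 : pairC 26 34 = true := by decide +kernel
theorem pair_26_35 : pairC 26 35 = true := by decide +kernel
theorem pair_26_36 : pairC 26 36 = true := by decide +kernel
theorem pair_26_37 : pairC 26 37 = true := by decide +kernel
theorem pair_26_38 : pairC 26 38 = true := by decide +kernel
theorem pair_26_39 : pairC 26 39 = true := by decide +kernel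
theorem pair_26_40 : pairC 26 40 = true := by decide +kernel
theorem pair_26_41 : pairC 26 41 = true := by decide +kernel
theorem pair_26_42 : pairC 26 42 = true := by decide +kernel
theorem pair_26_43 : pairC 26 43 = true := by decide +kernel
theorem pair_26_44 : pairC 26 44 = true := by decide +kernel
theorem pair_26_45 : pairC 26 45 = true := by decide +kernel
theorem pair_26_46 : pairC 26 46 = true := by decide +kernel
theorem pair_26_47 : pairC 26 47 = true := by decide +kernel
theorem chunk_26_0 : chunkB 26 0 = true :=
  chunk_of pair_26_0 pair_26_1 pair_26_2 pair_26_3 pair_26_4 pair_26_5 pair_26_6 pair_26_7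
theorem chunk_26_1 : chunkB 26 1 = true :=
  chunk_of pair_26_8 pair_26_9 pair_26_10 pair_26_11 pair_26_12 pair_26_13 pair_26_14 pair_26_15
theorem chunk_26_2 : chunkB 26 2 = true :=
  chunk_of pair_26_16 pair_26_17 pair_26_18 pair_26_19 pair_26_20 pair_26_21 pair_26_22 pair_26_23
theorem chunk_26_3 : chunkB 26 3 = true :=
  chunk_of pair_26_24 pair_26_25 pair_26_26 pair_26_27 pair_26_28 pair_26_29 pair_26_30 pair_26_31
theorem chunk_26_4 : chunkB 26 4 = true :=
  chunk_of pair_26_32 pair_26_33 pair_26_34 pair_26_35 pair_26_36 pair_26_37 pair_26_38 pair_26_39
theorem chunk_26_5 : chunkB 26 5 = true :=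
  chunk_of pair_26_40 pair_26_41 pair_26_42 pair_26_43 pair_26_44 pair_26_45 pair_26_46 pair_26_47

theorem head_27 : headB 27 = true := by decide +kernel
theorem pair_27_0 : pairC 27 0 = true := by decide +kernel
theorem pair_27_1 : pairC 27 1 = true := by decide +kernel
theorem pair_27_2 : pairC 27 2 = true := by decide +kernel
theorem pair_27_3 : pairC 27 3 = true := by decide +kernel
theorem pair_27_4 : pairC 27 4 = true := by decide +kernel
theorem pair_27_5 : pairC 27 5 = true := by decide +kernel
theorem pair_27_6 : pairC 27 6 = true := by decide +kernel
theorem pair_27_7 : pairC 27 7 = true := by decide +kernel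
theorem pair_27_8 : pairC 27 8 = true := by decide +kernel
theorem pair_27_9 : pairC 27 9 = true := by decide +kernel
theorem pair_27_10 : pairC 27 10 = true := by decide +kernel
theorem pair_27_11 : pairC 27 11 = true := by decide +kernel
theorem pair_27_12 : pairC 27 12 = true := by decide +kernel
theorem pair_27_13 : pairC 27 13 = true := by decide +kernel
theorem pair_27_14 : pairC 27 14 = true := by decide +kernel
theorem pair_27_15 : pairC 27 15 = true := by decide +kernel
theorem pair_27_16 : pairC 27 16 = true := by decide +kernel
theorem pair_27_17 : pairC 27 17 = true := by decide +kernel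
theorem pair_27_18 : pairC 27 18 = true := by decide +kernel
theorem pair_27_19 : pairC 27 19 = true := by decide +kernel
theorem pair_27_20 : pairC 27 20 = true := by decide +kernel
theorem pair_27_21 : pairC 27 21 = true := by decide +kernel
theorem pair_27_22 : pairC 27 22 = true := by decide +kernel
theorem pair_27_23 : pairC 27 23 = true := by decide +kernel
theorem pair_27_24 : pairC 27 24 = true := by decide +kernel
theorem pair_27_25 : pairC 27 25 = true := by decide +kernel
theorem pair_27_26 : pairC 27 26 = true := by decide +kernel
theorem pair_27_27 : pairC 27 27 = true := by decide +kernel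
theorem pair_27_28 : pairC 27 28 = true := by decide +kernel
theorem pair_27_29 : pairC 27 29 = true := by decide +kernel
theorem pair_27_30 : pairC 27 30 = true := by decide +kernel
theorem pair_27_31 : pairC 27 31 = true := by decide +kernel
theorem pair_27_32 : pairC 27 32 = true := by decide +kernel
theorem pair_27_33 : pairC 27 33 = true := by decide +kernel
theorem pair_27_34 : pairC 27 34 = true := by decide +kernel
theorem pair_27_35 : pairC 27 35 = true := by decide +kernel
theorem pair_27_36 : pairC 27 36 = true := by decide +kernel
theorem pair_27_37 : pairC 27 37 = true := by decide +kernel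
theorem pair_27_38 : pairC 27 38 = true := by decide +kernel
theorem pair_27_39 : pairC 27 39 = true := by decide +kernel
theorem pair_27_40 : pairC 27 40 = true := by decide +kernel
theorem pair_27_41 : pairC 27 41 = true := by decide +kernel
theorem pair_27_42 : pairC 27 42 = true := by decide +kernel
theorem pair_27_43 : pairC 27 43 = true := by decide +kernel
theorem pair_27_44 : pairC 27 44 = true := by decide +kernel
theorem pair_27_45 : pairC 27 45 = true := by decide +kernel
theorem pair_27_46 : pairC 27 46 = true := by decide +kernel
theorem pair_27_47 : pairC 27 47 = true := by decide +kernel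
theorem chunk_27_0 : chunkB 27 0 = true :=
  chunk_of pair_27_0 pair_27_1 pair_27_2 pair_27_3 pair_27_4 pair_27_5 pair_27_6 pair_27_7
theorem chunk_27_1 : chunkB 27 1 = true :=
  chunk_of pair_27_8 pair_27_9 pair_27_10 pair_27_11 pair_27_12 pair_27_13 pair_27_14 pair_27_15
theorem chunk_27_2 : chunkB 27 2 = true :=
  chunk_of pair_27_16 pair_27_17 pair_27_18 pair_27_19 pair_27_20 pair_27_21 pair_27_22 pair_27_23
theorem chunk_27_3 : chunkB 27 3 = true :=
  chunk_of pair_27_24 pair_27_25 pair_27_26 pair_27_27 pair_27_28 pair_27_29 pair_27_30 pair_27_31
theorem chunk_27_4 : chunkB 27 4 = true :=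
  chunk_of pair_27_32 pair_27_33 pair_27_34 pair_27_35 pair_27_36 pair_27_37 pair_27_38 pair_27_39
theorem chunk_27_5 : chunkB 27 5 = true :=
  chunk_of pair_27_40 pair_27_41 pair_27_42 pair_27_43 pair_27_44 pair_27_45 pair_27_46 pair_27_47

theorem head_28 : headB 28 = true := by decide +kernel
theorem pair_28_0 : pairC 28 0 = true := by decide +kernel
theorem pair_28_1 : pairC 28 1 = true := by decide +kernel
theorem pair_28_2 : pairC 28 2 = true := by decide +kernel
theorem pair_28_3 : pairC 28 3 = true := by decide +kernel
theorem pair_28_4 : pairC 28 4 = true := by decide +kernel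
theorem pair_28_5 : pairC 28 5 = true := by decide +kernel
theorem pair_28_6 : pairC 28 6 = true := by decide +kernel
theorem pair_28_7 : pairC 28 7 = true := by decide +kernel
theorem pair_28_8 : pairC 28 8 = true := by decide +kernel
theorem pair_28_9 : pairC 28 9 = true := by decide +kernel
theorem pair_28_10 : pairC 28 10 = true := by decide +kernel
theorem pair_28_11 : pairC 28 11 = true := by decide +kernel
theorem pair_28_12 : pairC 28 12 = true := by decide +kernel
theorem pair_28_13 : pairC 28 13 = true := by decide +kernel
theorem pair_28_14 : pairC 28 14 = true := by decide +kernel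
theorem pair_28_15 : pairC 28 15 = true := by decide +kernel
theorem pair_28_16 : pairC 28 16 = true := by decide +kernel
theorem pair_28_17 : pairC 28 17 = true := by decide +kernel
theorem pair_28_18 : pairC 28 18 = true := by decide +kernel
theorem pair_28_19 : pairC 28 19 = true := by decide +kernel
theorem pair_28_20 : pairC 28 20 = true := by decide +kernel
theorem pair_28_21 : pairC 28 21 = true := by decide +kernel
theorem pair_28_22 : pairC 28 22 = true := by decide +kernel
theorem pair_28_23 : pairC 28 23 = true := by decide +kernel
theorem pair_28_24 : pairC 28 24 = true := by decide +kernel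
theorem pair_28_25 : pairC 28 25 = true := by decide +kernel
theorem pair_28_26 : pairC 28 26 = true := by decide +kernel
theorem pair_28_27 : pairC 28 27 = true := by decide +kernel
theorem pair_28_28 : pairC 28 28 = true := by decide +kernel
theorem pair_28_29 : pairC 28 29 = true := by decide +kernel
theorem pair_28_30 : pairC 28 30 = true := by decide +kernel
theorem pair_28_31 : pairC 28 31 = true := by decide +kernel
theorem pair_28_32 : pairC 28 32 = true := by decide +kernel
theorem pair_28_33 : pairC 28 33 = true := by decide +kernel
theorem pair_28_34 : pairC 28 34 = true := by decide +kernel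
theorem pair_28_35 : pairC 28 35 = true := by decide +kernel
theorem pair_28_36 : pairC 28 36 = true := by decide +kernel
theorem pair_28_37 : pairC 28 37 = true := by decide +kernel
theorem pair_28_38 : pairC 28 38 = true := by decide +kernel
theorem pair_28_39 : pairC 28 39 = true := by decide +kernel
theorem pair_28_40 : pairC 28 40 = true := by decide +kernel
theorem pair_28_41 : pairC 28 41 = true := by decide +kernel
theorem pair_28_42 : pairC 28 42 = true := by decide +kernel
theorem pair_28_43 : pairC 28 43 = true := by decide +kernel
theorem pair_28_44 : pairC 28 44 = true := by decide +kernel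
theorem pair_28_45 : pairC 28 45 = true := by decide +kernel
theorem pair_28_46 : pairC 28 46 = true := by decide +kernel
theorem pair_28_47 : pairC 28 47 = true := by decide +kernel
theorem chunk_28_0 : chunkB 28 0 = true :=
  chunk_of pair_28_0 pair_28_1 pair_28_2 pair_28_3 pair_28_4 pair_28_5 pair_28_6 pair_28_7
theorem chunk_28_1 : chunkB 28 1 = true :=
  chunk_of pair_28_8 pair_28_9 pair_28_10 pair_28_11 pair_28_12 pair_28_13 pair_28_14 pair_28_15
theorem chunk_28_2 : chunkB 28 2 = true :=
  chunk_of pair_28_16 pair_28_17 pair_28_18 pair_28_19 pair_28_20 pair_28_21 pair_28_22 pair_28_23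
theorem chunk_28_3 : chunkB 28 3 = true :=
  chunk_of pair_28_24 pair_28_25 pair_28_26 pair_28_27 pair_28_28 pair_28_29 pair_28_30 pair_28_31
theorem chunk_28_4 : chunkB 28 4 = true :=
  chunk_of pair_28_32 pair_28_33 pair_28_34 pair_28_35 pair_28_36 pair_28_37 pair_28_38 pair_28_39
theorem chunk_28_5 : chunkB 28 5 = true :=
  chunk_of pair_28_40 pair_28_41 pair_28_42 pair_28_43 pair_28_44 pair_28_45 pair_28_46 pair_28_47

theorem head_29 : headB 29 = true := by decide +kernel
theorem pair_29_0 : pairC 29 0 = true := by decide +kernel
theorem pair_29_1 : pairC 29 1 = true := by decide +kernel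
theorem pair_29_2 : pairC 29 2 = true := by decide +kernel
theorem pair_29_3 : pairC 29 3 = true := by decide +kernel
theorem pair_29_4 : pairC 29 4 = true := by decide +kernel
theorem pair_29_5 : pairC 29 5 = true := by decide +kernel
theorem pair_29_6 : pairC 29 6 = true := by decide +kernel
theorem pair_29_7 : pairC 29 7 = true := by decide +kernel
theorem pair_29_8 : pairC 29 8 = true := by decide +kernel
theorem pair_29_9 : pairC 29 9 = true := by decide +kernel
theorem pair_29_10 : pairC 29 10 = true := by decide +kernel
theorem pair_29_11 : pairC 29 11 = true := by decide +kernel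
theorem pair_29_12 : pairC 29 12 = true := by decide +kernel
theorem pair_29_13 : pairC 29 13 = true := by decide +kernel
theorem pair_29_14 : pairC 29 14 = true := by decide +kernel
theorem pair_29_15 : pairC 29 15 = true := by decide +kernel
theorem pair_29_16 : pairC 29 16 = true := by decide +kernel
theorem pair_29_17 : pairC 29 17 = true := by decide +kernel
theorem pair_29_18 : pairC 29 18 = true := by decide +kernel
theorem pair_29_19 : pairC 29 19 = true := by decide +kernel
theorem pair_29_20 : pairC 29 20 = true := by decide +kernel
theorem pair_29_21 : pairC 29 21 = true := by decide +kernel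
theorem pair_29_22 : pairC 29 22 = true := by decide +kernel
theorem pair_29_23 : pairC 29 23 = true := by decide +kernel
theorem pair_29_24 : pairC 29 24 = true := by decide +kernel
theorem pair_29_25 : pairC 29 25 = true := by decide +kernel
theorem pair_29_26 : pairC 29 26 = true := by decide +kernel
theorem pair_29_27 : pairC 29 27 = true := by decide +kernel
theorem pair_29_28 : pairC 29 28 = true := by decide +kernel
theorem pair_29_29 : pairC 29 29 = true := by decide +kernel
theorem pair_29_30 : pairC 29 30 = true := by decide +kernel
theorem pair_29_31 : pairC 29 31 = true := by decide +kernel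
theorem pair_29_32 : pairC 29 32 = true := by decide +kernel
theorem pair_29_33 : pairC 29 33 = true := by decide +kernel
theorem pair_29_34 : pairC 29 34 = true := by decide +kernel
theorem pair_29_35 : pairC 29 35 = true := by decide +kernel
theorem pair_29_36 : pairC 29 36 = true := by decide +kernel
theorem pair_29_37 : pairC 29 37 = true := by decide +kernel
theorem pair_29_38 : pairC 29 38 = true := by decide +kernel
theorem pair_29_39 : pairC 29 39 = true := by decide +kernel
theorem pair_29_40 : pairC 29 40 = true := by decide +kernel
theorem pair_29_41 : pairC 29 41 = true := by decide +kernel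
theorem pair_29_42 : pairC 29 42 = true := by decide +kernel
theorem pair_29_43 : pairC 29 43 = true := by decide +kernel
theorem pair_29_44 : pairC 29 44 = true := by decide +kernel
theorem pair_29_45 : pairC 29 45 = true := by decide +kernel
theorem pair_29_46 : pairC 29 46 = true := by decide +kernel
theorem pair_29_47 : pairC 29 47 = true := by decide +kernel
theorem chunk_29_0 : chunkB 29 0 = true :=
  chunk_of pair_29_0 pair_29_1 pair_29_2 pair_29_3 pair_29_4 pair_29_5 pair_29_6 pair_29_7
theorem chunk_29_1 : chunkB 29 1 = true :=
  chunk_of pair_29_8 pair_29_9 pair_29_10 pair_29_11 pair_29_12 pair_29_13 pair_29_14 pair_29_15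
theorem chunk_29_2 : chunkB 29 2 = true :=
  chunk_of pair_29_16 pair_29_17 pair_29_18 pair_29_19 pair_29_20 pair_29_21 pair_29_22 pair_29_23
theorem chunk_29_3 : chunkB 29 3 = true :=
  chunk_of pair_29_24 pair_29_25 pair_29_26 pair_29_27 pair_29_28 pair_29_29 pair_29_30 pair_29_31
theorem chunk_29_4 : chunkB 29 4 = true :=
  chunk_of pair_29_32 pair_29_33 pair_29_34 pair_29_35 pair_29_36 pair_29_37 pair_29_38 pair_29_39
theorem chunk_29_5 : chunkB 29 5 = true :=
  chunk_of pair_29_40 pair_29_41 pair_29_42 pair_29_43 pair_29_44 pair_29_45 pair_29_46 pair_29_47

end Cfsg.Agent.F4TwoMult
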