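import Cfsg.Agent.F4TwoMult.Rep

/-!
The relations of the representation for the roots 30 to 35.
-/

set_option autoImplicit false
set_option maxRecDepth 100000
set_option Elab.async false

namespace Cfsg.Agent.F4TwoMult

theorem head_30 : headB 30 = true := by decide +kernel
theorem pair_30_0 : pairC 30 0 = true := by decide +kernel
theorem pair_30_1 : pairC 30 1 = true := by decide +kernel
theorem pair_30_2 : pairC 30 2 = true := by decide +kernel
theorem pair_30_3 : pairC 30 3 = true := by decide +kernel
theorem pair_30_4 : pairC 30 4 = true := by decide +kernel
theorem pair_30_5 : pairC 30 5 = true := by decide +kernel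
theorem pair_30_6 : pairC 30 6 = true := by decide +kernel
theorem pair_30_7 : pairC 30 7 = true := by decide +kernel
theorem pair_30_8 : pairC 30 8 = true := by decide +kernel
theorem pair_30_9 : pairC 30 9 = true := by decide +kernel
theorem pair_30_10 : pairC 30 10 = true := by decide +kernel
theorem pair_30_11 : pairC 30 11 = true := by decide +kernel
theorem pair_30_12 : pairC 30 12 = true := by decide +kernel
theorem pair_30_13 : pairC 30 13 = true := by decide +kernel
theorem pair_30_14 : pairC 30 14 = true := by decide +kernel
theorem pair_30_15 : pairC 30 15 = true := by decide +kernel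
theorem pair_30_16 : pairC 30 16 = true := by decide +kernel
theorem pair_30_17 : pairC 30 17 = true := by decide +kernel
theorem pair_30_18 : pairC 30 18 = true := by decide +kernel
theorem pair_30_19 : pairC 30 19 = true := by decide +kernel
theorem pair_30_20 : pairC 30 20 = true := by decide +kernel
theorem pair_30_21 : pairC 30 21 = true := by decide +kernel
theorem pair_30_22 : pairC 30 22 = true := by decide +kernel
theorem pair_30_23 : pairC 30 23 = true := by decide +kernel
theorem pair_30_24 : pairC 30 24 = true := by decide +kernel
theorem pair_30_25 : pairC 30 25 = true := by decide +kernel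
theorem pair_30_26 : pairC 30 26 = true := by decide +kernel
theorem pair_30_27 : pairC 30 27 = true := by decide +kernel
theorem pair_30_28 : pairC 30 28 = true := by decide +kernel
theorem pair_30_29 : pairC 30 29 = true := by decide +kernel
theorem pair_30_30 : pairC 30 30 = true := by decide +kernel
theorem pair_30_31 : pairC 30 31 = true := by decide +kernel
theorem pair_30_32 : pairC 30 32 = true := by decide +kernel
theorem pair_30_33 : pairC 30 33 = true := by decide +kernel
theorem pair_30_34 : pairC 30 34 = true := by decide +kernel
theorem pair_30_35 : pairC 30 35 = true := by decide +kernel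
theorem pair_30_36 : pairC 30 36 = true := by decide +kernel
theorem pair_30_37 : pairC 30 37 = true := by decide +kernel
theorem pair_30_38 : pairC 30 38 = true := by decide +kernel
theorem pair_30_39 : pairC 30 39 = true := by decide +kernel
theorem pair_30_40 : pairC 30 40 = true := by decide +kernel
theorem pair_30_41 : pairC 30 41 = true := by decide +kernel
theorem pair_30_42 : pairC 30 42 = true := by decide +kernel
theorem pair_30_43 : pairC 30 43 = true := by decide +kernel
theorem pair_30_44 : pairC 30 44 = true := by decide +kernel
theorem pair_30_45 : pairC 30 45 = true := by decide +kernel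
theorem pair_30_46 : pairC 30 46 = true := by decide +kernel
theorem pair_30_47 : pairC 30 47 = true := by decide +kernel
theorem chunk_30_0 : chunkB 30 0 = true :=
  chunk_of pair_30_0 pair_30_1 pair_30_2 pair_30_3 pair_30_4 pair_30_5 pair_30_6 pair_30_7
theorem chunk_30_1 : chunkB 30 1 = true :=
  chunk_of pair_30_8 pair_30_9 pair_30_10 pair_30_11 pair_30_12 pair_30_13 pair_30_14 pair_30_15
theorem chunk_30_2 : chunkB 30 2 = true :=
  chunk_of pair_30_16 pair_30_17 pair_30_18 pair_30_19 pair_30_20 pair_30_21 pair_30_22 pair_30_23
theorem chunk_30_3 : chunkB 30 3 = true :=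
  chunk_of pair_30_24 pair_30_25 pair_30_26 pair_30_27 pair_30_28 pair_30_29 pair_30_30 pair_30_31
theorem chunk_30_4 : chunkB 30 4 = true :=
  chunk_of pair_30_32 pair_30_33 pair_30_34 pair_30_35 pair_30_36 pair_30_37 pair_30_38 pair_30_39
theorem chunk_30_5 : chunkB 30 5 = true :=
  chunk_of pair_30_40 pair_30_41 pair_30_42 pair_30_43 pair_30_44 pair_30_45 pair_30_46 pair_30_47

theorem head_31 : headB 31 = true := by decide +kernel
theorem pair_31_0 : pairC 31 0 = true := by decide +kernel
theorem pair_31_1 : pairC 31 1 = true := by decide +kernel
theorem pair_31_2 : pairC 31 2 = true := by decide +kernel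
theorem pair_31_3 : pairC 31 3 = true := by decide +kernel
theorem pair_31_4 : pairC 31 4 = true := by decide +kernel
theorem pair_31_5 : pairC 31 5 = true := by decide +kernel
theorem pair_31_6 : pairC 31 6 = true := by decide +kernel
theorem pair_31_7 : pairC 31 7 = true := by decide +kernel
theorem pair_31_8 : pairC 31 8 = true := by decide +kernel
theorem pair_31_9 : pairC 31 9 = true := by decide +kernel
theorem pair_31_10 : pairC 31 10 = true := by decide +kernel
theorem pair_31_11 : pairC 31 11 = true := by decide +kernel
theorem pair_31_12 : pairC 31 12 = true := by decide +kernel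
theorem pair_31_13 : pairC 31 13 = true := by decide +kernel
theorem pair_31_14 : pairC 31 14 = true := by decide +kernel
theorem pair_31_15 : pairC 31 15 = true := by decide +kernel
theorem pair_31_16 : pairC 31 16 = true := by decide +kernel
theorem pair_31_17 : pairC 31 17 = true := by decide +kernel
theorem pair_31_18 : pairC 31 18 = true := by decide +kernel
theorem pair_31_19 : pairC 31 19 = true := by decide +kernel
theorem pair_31_20 : pairC 31 20 = true := by decide +kernel
theorem pair_31_21 : pairC 31 21 = true := by decide +kernel
theorem pair_31_22 : pairC 31 22 = true := by decide +kernel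
theorem pair_31_23 : pairC 31 23 = true := by decide +kernel
theorem pair_31_24 : pairC 31 24 = true := by decide +kernel
theorem pair_31_25 : pairC 31 25 = true := by decide +kernel
theorem pair_31_26 : pairC 31 26 = true := by decide +kernel
theorem pair_31_27 : pairC 31 27 = true := by decide +kernel
theorem pair_31_28 : pairC 31 28 = true := by decide +kernel
theorem pair_31_29 : pairC 31 29 = true := by decide +kernel
theorem pair_31_30 : pairC 31 30 = true := by decide +kernel
theorem pair_31_31 : pairC 31 31 = true := by decide +kernel
theorem pair_31_32 : pairC 31 32 = true := by decide +kernel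
theorem pair_31_33 : pairC 31 33 = true := by decide +kernel
theorem pair_31_34 : pairC 31 34 = true := by decide +kernel
theorem pair_31_35 : pairC 31 35 = true := by decide +kernel
theorem pair_31_36 : pairC 31 36 = true := by decide +kernel
theorem pair_31_37 : pairC 31 37 = true := by decide +kernel
theorem pair_31_38 : pairC 31 38 = true := by decide +kernel
theorem pair_31_39 : pairC 31 39 = true := by decide +kernel
theorem pair_31_40 : pairC 31 40 = true := by decide +kernel
theorem pair_31_41 : pairC 31 41 = true := by decide +kernel
theorem pair_31_42 : pairC 31 42 = true := by decide +kernel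
theorem pair_31_43 : pairC 31 43 = true := by decide +kernel
theorem pair_31_44 : pairC 31 44 = true := by decide +kernel
theorem pair_31_45 : pairC 31 45 = true := by decide +kernel
theorem pair_31_46 : pairC 31 46 = true := by decide +kernel
theorem pair_31_47 : pairC 31 47 = true := by decide +kernel
theorem chunk_31_0 : chunkB 31 0 = true :=
  chunk_of pair_31_0 pair_31_1 pair_31_2 pair_31_3 pair_31_4 pair_31_5 pair_31_6 pair_31_7
theorem chunk_31_1 : chunkB 31 1 = true :=
  chunk_of pair_31_8 pair_31_9 pair_31_10 pair_31_11 pair_31_12 pair_31_13 pair_31_14 pair_31_15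
theorem chunk_31_2 : chunkB 31 2 = true :=
  chunk_of pair_31_16 pair_31_17 pair_31_18 pair_31_19 pair_31_20 pair_31_21 pair_31_22 pair_31_23
theorem chunk_31_3 : chunkB 31 3 = true :=
  chunk_of pair_31_24 pair_31_25 pair_31_26 pair_31_27 pair_31_28 pair_31_29 pair_31_30 pair_31_31
theorem chunk_31_4 : chunkB 31 4 = true :=
  chunk_of pair_31_32 pair_31_33 pair_31_34 pair_31_35 pair_31_36 pair_31_37 pair_31_38 pair_31_39
theorem chunk_31_5 : chunkB 31 5 = true :=
  chunk_of pair_31_40 pair_31_41 pair_31_42 pair_31_43 pair_31_44 pair_31_45 pair_31_46 pair_31_47

theorem head_32 : headB 32 = true := by decide +kernel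
theorem pair_32_0 : pairC 32 0 = true := by decide +kernel
theorem pair_32_1 : pairC 32 1 = true := by decide +kernel
theorem pair_32_2 : pairC 32 2 = true := by decide +kernel
theorem pair_32_3 : pairC 32 3 = true := by decide +kernel
theorem pair_32_4 : pairC 32 4 = true := by decide +kernel
theorem pair_32_5 : pairC 32 5 = true := by decide +kernel
theorem pair_32_6 : pairC 32 6 = true := by decide +kernel
theorem pair_32_7 : pairC 32 7 = true := by decide +kernel
theorem pair_32_8 : pairC 32 8 = true := by decide +kernel
theorem pair_32_9 : pairC 32 9 = true := by decide +kernel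
theorem pair_32_10 : pairC 32 10 = true := by decide +kernel
theorem pair_32_11 : pairC 32 11 = true := by decide +kernel
theorem pair_32_12 : pairC 32 12 = true := by decide +kernel
theorem pair_32_13 : pairC 32 13 = true := by decide +kernel
theorem pair_32_14 : pairC 32 14 = true := by decide +kernel
theorem pair_32_15 : pairC 32 15 = true := by decide +kernel
theorem pair_32_16 : pairC 32 16 = true := by decide +kernel
theorem pair_32_17 : pairC 32 17 = true := by decide +kernel
theorem pair_32_18 : pairC 32 18 = true := by decide +kernel
theorem pair_32_19 : pairC 32 19 = true := by decide +kernel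
theorem pair_32_20 : pairC 32 20 = true := by decide +kernel
theorem pair_32_21 : pairC 32 21 = true := by decide +kernel
theorem pair_32_22 : pairC 32 22 = true := by decide +kernel
theorem pair_32_23 : pairC 32 23 = true := by decide +kernel
theorem pair_32_24 : pairC 32 24 = true := by decide +kernel
theorem pair_32_25 : pairC 32 25 = true := by decide +kernel
theorem pair_32_26 : pairC 32 26 = true := by decide +kernel
theorem pair_32_27 : pairC 32 27 = true := by decide +kernel
theorem pair_32_28 : pairC 32 28 = true := by decide +kernel
theorem pair_32_29 : pairC 32 29 = true := by decide +kernel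
theorem pair_32_30 : pairC 32 30 = true := by decide +kernel
theorem pair_32_31 : pairC 32 31 = true := by decide +kernel
theorem pair_32_32 : pairC 32 32 = true := by decide +kernel
theorem pair_32_33 : pairC 32 33 = true := by decide +kernel
theorem pair_32_34 : pairC 32 34 = true := by decide +kernel
theorem pair_32_35 : pairC 32 35 = true := by decide +kernel
theorem pair_32_36 : pairC 32 36 = true := by decide +kernel
theorem pair_32_37 : pairC 32 37 = true := by decide +kernel
theorem pair_32_38 : pairC 32 38 = true := by decide +kernel
theorem pair_32_39 : pairC 32 39 = true := by decide +kernel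
theorem pair_32_40 : pairC 32 40 = true := by decide +kernel
theorem pair_32_41 : pairC 32 41 = true := by decide +kernel
theorem pair_32_42 : pairC 32 42 = true := by decide +kernel
theorem pair_32_43 : pairC 32 43 = true := by decide +kernel
theorem pair_32_44 : pairC 32 44 = true := by decide +kernel
theorem pair_32_45 : pairC 32 45 = true := by decide +kernel
theorem pair_32_46 : pairC 32 46 = true := by decide +kernel
theorem pair_32_47 : pairC 32 47 = true := by decide +kernel
theorem chunk_32_0 : chunkB 32 0 = true :=
  chunk_of pair_32_0 pair_32_1 pair_32_2 pair_32_3 pair_32_4 pair_32_5 pair_32_6 pair_32_7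
theorem chunk_32_1 : chunkB 32 1 = true :=
  chunk_of pair_32_8 pair_32_9 pair_32_10 pair_32_11 pair_32_12 pair_32_13 pair_32_14 pair_32_15
theorem chunk_32_2 : chunkB 32 2 = true :=
  chunk_of pair_32_16 pair_32_17 pair_32_18 pair_32_19 pair_32_20 pair_32_21 pair_32_22 pair_32_23
theorem chunk_32_3 : chunkB 32 3 = true :=
  chunk_of pair_32_24 pair_32_25 pair_32_26 pair_32_27 pair_32_28 pair_32_29 pair_32_30 pair_32_31
theorem chunk_32_4 : chunkB 32 4 = true :=
  chunk_of pair_32_32 pair_32_33 pair_32_34 pair_32_35 pair_32_36 pair_32_37 pair_32_38 pair_32_39
theorem chunk_32_5 : chunkB 32 5 = true :=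
  chunk_of pair_32_40 pair_32_41 pair_32_42 pair_32_43 pair_32_44 pair_32_45 pair_32_46 pair_32_47

theorem head_33 : headB 33 = true := by decide +kernel
theorem pair_33_0 : pairC 33 0 = true := by decide +kernel
theorem pair_33_1 : pairC 33 1 = true := by decide +kernel
theorem pair_33_2 : pairC 33 2 = true := by decide +kernel
theorem pair_33_3 : pairC 33 3 = true := by decide +kernel
theorem pair_33_4 : pairC 33 4 = true := by decide +kernel
theorem pair_33_5 : pairC 33 5 = true := by decide +kernel
theorem pair_33_6 : pairC 33 6 = true := by decide +kernel
theorem pair_33_7 : pairC 33 7 = true := by decide +kernel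
theorem pair_33_8 : pairC 33 8 = true := by decide +kernel
theorem pair_33_9 : pairC 33 9 = true := by decide +kernel
theorem pair_33_10 : pairC 33 10 = true := by decide +kernel
theorem pair_33_11 : pairC 33 11 = true := by decide +kernel
theorem pair_33_12 : pairC 33 12 = true := by decide +kernel
theorem pair_33_13 : pairC 33 13 = true := by decide +kernel
theorem pair_33_14 : pairC 33 14 = true := by decide +kernel
theorem pair_33_15 : pairC 33 15 = true := by decide +kernel
theorem pair_33_16 : pairC 33 16 = true := by decide +kernel
theorem pair_33_17 : pairC 33 17 = true := by decide +kernel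
theorem pair_33_18 : pairC 33 18 = true := by decide +kernel
theorem pair_33_19 : pairC 33 19 = true := by decide +kernel
theorem pair_33_20 : pairC 33 20 = true := by decide +kernel
theorem pair_33_21 : pairC 33 21 = true := by decide +kernel
theorem pair_33_22 : pairC 33 22 = true := by decide +kernel
theorem pair_33_23 : pairC 33 23 = true := by decide +kernel
theorem pair_33_24 : pairC 33 24 = true := by decide +kernel
theorem pair_33_25 : pairC 33 25 = true := by decide +kernel
theorem pair_33_26 : pairC 33 26 = true := by decide +kernel
theorem pair_33_27 : pairC 33 27 = true := by decide +kernel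
theorem pair_33_28 : pairC 33 28 = true := by decide +kernel
theorem pair_33_29 : pairC 33 29 = true := by decide +kernel
theorem pair_33_30 : pairC 33 30 = true := by decide +kernel
theorem pair_33_31 : pairC 33 31 = true := by decide +kernel
theorem pair_33_32 : pairC 33 32 = true := by decide +kernel
theorem pair_33_33 : pairC 33 33 = true := by decide +kernel
theorem pair_33_34 : pairC 33 34 = true := by decide +kernel
theorem pair_33_35 : pairC 33 35 = true := by decide +kernel
theorem pair_33_36 : pairC 33 36 = true := by decide +kernel
theorem pair_33_37 : pairC 33 37 = true := by decide +kernel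
theorem pair_33_38 : pairC 33 38 = true := by decide +kernel
theorem pair_33_39 : pairC 33 39 = true := by decide +kernel
theorem pair_33_40 : pairC 33 40 = true := by decide +kernel
theorem pair_33_41 : pairC 33 41 = true := by decide +kernel
theorem pair_33_42 : pairC 33 42 = true := by decide +kernel
theorem pair_33_43 : pairC 33 43 = true := by decide +kernel
theorem pair_33_44 : pairC 33 44 = true := by decide +kernel
theorem pair_33_45 : pairC 33 45 = true := by decide +kernel
theorem pair_33_46 : pairC 33 46 = true := by decide +kernel
theorem pair_33_47 : pairC 33 47 = true := by decide +kernel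
theorem chunk_33_0 : chunkB 33 0 = true :=
  chunk_of pair_33_0 pair_33_1 pair_33_2 pair_33_3 pair_33_4 pair_33_5 pair_33_6 pair_33_7
theorem chunk_33_1 : chunkB 33 1 = true :=
  chunk_of pair_33_8 pair_33_9 pair_33_10 pair_33_11 pair_33_12 pair_33_13 pair_33_14 pair_33_15
theorem chunk_33_2 : chunkB 33 2 = true :=
  chunk_of pair_33_16 pair_33_17 pair_33_18 pair_33_19 pair_33_20 pair_33_21 pair_33_22 pair_33_23
theorem chunk_33_3 : chunkB 33 3 = true :=
  chunk_of pair_33_24 pair_33_25 pair_33_26 pair_33_27 pair_33_28 pair_33_29 pair_33_30 pair_33_31
theorem chunk_33_4 : chunkB 33 4 = true :=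
  chunk_of pair_33_32 pair_33_33 pair_33_34 pair_33_35 pair_33_36 pair_33_37 pair_33_38 pair_33_39
theorem chunk_33_5 : chunkB 33 5 = true :=
  chunk_of pair_33_40 pair_33_41 pair_33_42 pair_33_43 pair_33_44 pair_33_45 pair_33_46 pair_33_47

theorem head_34 : headB 34 = true := by decide +kernel
theorem pair_34_0 : pairC 34 0 = true := by decide +kernel
theorem pair_34_1 : pairC 34 1 = true := by decide +kernel
theorem pair_34_2 : pairC 34 2 = true := by decide +kernel
theorem pair_34_3 : pairC 34 3 = true := by decide +kernel
theorem pair_34_4 : pairC 34 4 = true := by decide +kernel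
theorem pair_34_5 : pairC 34 5 = true := by decide +kernel
theorem pair_34_6 : pairC 34 6 = true := by decide +kernel
theorem pair_34_7 : pairC 34 7 = true := by decide +kernel
theorem pair_34_8 : pairC 34 8 = true := by decide +kernel
theorem pair_34_9 : pairC 34 9 = true := by decide +kernel
theorem pair_34_10 : pairC 34 10 = true := by decide +kernel
theorem pair_34_11 : pairC 34 11 = true := by decide +kernel
theorem pair_34_12 : pairC 34 12 = true := by decide +kernel
theorem pair_34_13 : pairC 34 13 = true := by decide +kernel
theorem pair_34_14 : pairC 34 14 = true := by decide +kernel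
theorem pair_34_15 : pairC 34 15 = true := by decide +kernel
theorem pair_34_16 : pairC 34 16 = true := by decide +kernel
theorem pair_34_17 : pairC 34 17 = true := by decide +kernel
theorem pair_34_18 : pairC 34 18 = true := by decide +kernel
theorem pair_34_19 : pairC 34 19 = true := by decide +kernel
theorem pair_34_20 : pairC 34 20 = true := by decide +kernel
theorem pair_34_21 : pairC 34 21 = true := by decide +kernel
theorem pair_34_22 : pairC 34 22 = true := by decide +kernel
theorem pair_34_23 : pairC 34 23 = true := by decide +kernel
theorem pair_34_24 : pairC 34 24 = true := by decide +kernel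
theorem pair_34_25 : pairC 34 25 = true := by decide +kernel
theorem pair_34_26 : pairC 34 26 = true := by decide +kernel
theorem pair_34_27 : pairC 34 27 = true := by decide +kernel
theorem pair_34_28 : pairC 34 28 = true := by decide +kernel
theorem pair_34_29 : pairC 34 29 = true := by decide +kernel
theorem pair_34_30 : pairC 34 30 = true := by decide +kernel
theorem pair_34_31 : pairC 34 31 = true := by decide +kernel
theorem pair_34_32 : pairC 34 32 = true := by decide +kernel
theorem pair_34_33 : pairC 34 33 = true := by decide +kernel
theorem pair_34_34 : pairC 34 34 = true := by decide +kernel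
theorem pair_34_35 : pairC 34 35 = true := by decide +kernel
theorem pair_34_36 : pairC 34 36 = true := by decide +kernel
theorem pair_34_37 : pairC 34 37 = true := by decide +kernel
theorem pair_34_38 : pairC 34 38 = true := by decide +kernel
theorem pair_34_39 : pairC 34 39 = true := by decide +kernel
theorem pair_34_40 : pairC 34 40 = true := by decide +kernel
theorem pair_34_41 : pairC 34 41 = true := by decide +kernel
theorem pair_34_42 : pairC 34 42 = true := by decide +kernel
theorem pair_34_43 : pairC 34 43 = true := by decide +kernel
theorem pair_34_44 : pairC 34 44 = true := by decide +kernel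
theorem pair_34_45 : pairC 34 45 = true := by decide +kernel
theorem pair_34_46 : pairC 34 46 = true := by decide +kernel
theorem pair_34_47 : pairC 34 47 = true := by decide +kernel
theorem chunk_34_0 : chunkB 34 0 = true :=
  chunk_of pair_34_0 pair_34_1 pair_34_2 pair_34_3 pair_34_4 pair_34_5 pair_34_6 pair_34_7
theorem chunk_34_1 : chunkB 34 1 = true :=
  chunk_of pair_34_8 pair_34_9 pair_34_10 pair_34_11 pair_34_12 pair_34_13 pair_34_14 pair_34_15
theorem chunk_34_2 : chunkB 34 2 = true :=
  chunk_of pair_34_16 pair_34_17 pair_34_18 pair_34_19 pair_34_20 pair_34_21 pair_34_22 pair_34_23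
theorem chunk_34_3 : chunkB 34 3 = true :=
  chunk_of pair_34_24 pair_34_25 pair_34_26 pair_34_27 pair_34_28 pair_34_29 pair_34_30 pair_34_31
theorem chunk_34_4 : chunkB 34 4 = true :=
  chunk_of pair_34_32 pair_34_33 pair_34_34 pair_34_35 pair_34_36 pair_34_37 pair_34_38 pair_34_39
theorem chunk_34_5 : chunkB 34 5 = true :=
  chunk_of pair_34_40 pair_34_41 pair_34_42 pair_34_43 pair_34_44 pair_34_45 pair_34_46 pair_34_47

theorem head_35 : headB 35 = true := by decide +kernel
theorem pair_35_0 : pairC 35 0 = true := by decide +kernel
theorem pair_35_1 : pairC 35 1 = true := by decide +kernel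
theorem pair_35_2 : pairC 35 2 = true := by decide +kernel
theorem pair_35_3 : pairC 35 3 = true := by decide +kernel
theorem pair_35_4 : pairC 35 4 = true := by decide +kernel
theorem pair_35_5 : pairC 35 5 = true := by decide +kernel
theorem pair_35_6 : pairC 35 6 = true := by decide +kernel
theorem pair_35_7 : pairC 35 7 = true := by decide +kernel
theorem pair_35_8 : pairC 35 8 = true := by decide +kernel
theorem pair_35_9 : pairC 35 9 = true := by decide +kernel
theorem pair_35_10 : pairC 35 10 = true := by decide +kernel
theorem pair_35_11 : pairC 35 11 = true := by decide +kernel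
theorem pair_35_12 : pairC 35 12 = true := by decide +kernel
theorem pair_35_13 : pairC 35 13 = true := by decide +kernel
theorem pair_35_14 : pairC 35 14 = true := by decide +kernel
theorem pair_35_15 : pairC 35 15 = true := by decide +kernel
theorem pair_35_16 : pairC 35 16 = true := by decide +kernel
theorem pair_35_17 : pairC 35 17 = true := by decide +kernel
theorem pair_35_18 : pairC 35 18 = true := by decide +kernel
theorem pair_35_19 : pairC 35 19 = true := by decide +kernel
theorem pair_35_20 : pairC 35 20 = true := by decide +kernel
theorem pair_35_21 : pairC 35 21 = true := by decide +kernel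
theorem pair_35_22 : pairC 35 22 = true := by decide +kernel
theorem pair_35_23 : pairC 35 23 = true := by decide +kernel
theorem pair_35_24 : pairC 35 24 = true := by decide +kernel
theorem pair_35_25 : pairC 35 25 = true := by decide +kernel
theorem pair_35_26 : pairC 35 26 = true := by decide +kernel
theorem pair_35_27 : pairC 35 27 = true := by decide +kernel
theorem pair_35_28 : pairC 35 28 = true := by decide +kernel
theorem pair_35_29 : pairC 35 29 = true := by decide +kernel
theorem pair_35_30 : pairC 35 30 = true := by decide +kernel
theorem pair_35_31 : pairC 35 31 = true := by decide +kernel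
theorem pair_35_32 : pairC 35 32 = true := by decide +kernel
theorem pair_35_33 : pairC 35 33 = true := by decide +kernel
theorem pair_35_34 : pairC 35 34 = true := by decide +kernel
theorem pair_35_35 : pairC 35 35 = true := by decide +kernel
theorem pair_35_36 : pairC 35 36 = true := by decide +kernel
theorem pair_35_37 : pairC 35 37 = true := by decide +kernel
theorem pair_35_38 : pairC 35 38 = true := by decide +kernel
theorem pair_35_39 : pairC 35 39 = true := by decide +kernel
theorem pair_35_40 : pairC 35 40 = true := by decide +kernel
theorem pair_35_41 : pairC 35 41 = true := by decide +kernel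
theorem pair_35_42 : pairC 35 42 = true := by decide +kernel
theorem pair_35_43 : pairC 35 43 = true := by decide +kernel
theorem pair_35_44 : pairC 35 44 = true := by decide +kernel
theorem pair_35_45 : pairC 35 45 = true := by decide +kernel
theorem pair_35_46 : pairC 35 46 = true := by decide +kernel
theorem pair_35_47 : pairC 35 47 = true := by decide +kernel
theorem chunk_35_0 : chunkB 35 0 = true :=
  chunk_of pair_35_0 pair_35_1 pair_35_2 pair_35_3 pair_35_4 pair_35_5 pair_35_6 pair_35_7
theorem chunk_35_1 : chunkB 35 1 = true :=
  chunk_of pair_35_8 pair_35_9 pair_35_10 pair_35_11 pair_35_12 pair_35_13 pair_35_14 pair_35_15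
theorem chunk_35_2 : chunkB 35 2 = true :=
  chunk_of pair_35_16 pair_35_17 pair_35_18 pair_35_19 pair_35_20 pair_35_21 pair_35_22 pair_35_23
theorem chunk_35_3 : chunkB 35 3 = true :=
  chunk_of pair_35_24 pair_35_25 pair_35_26 pair_35_27 pair_35_28 pair_35_29 pair_35_30 pair_35_31
theorem chunk_35_4 : chunkB 35 4 = true :=
  chunk_of pair_35_32 pair_35_33 pair_35_34 pair_35_35 pair_35_36 pair_35_37 pair_35_38 pair_35_39
theorem chunk_35_5 : chunkB 35 5 = true :=
  chunk_of pair_35_40 pair_35_41 pair_35_42 pair_35_43 pair_35_44 pair_35_45 pair_35_46 pair_35_47

end Cfsg.Agent.F4TwoMult
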