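import Cfsg.Agent.F4TwoMult.Rep

/-!
The relations of the representation for the roots 36 to 41.
-/

set_option autoImplicit false
set_option maxRecDepth 100000
set_option Elab.async false

namespace Cfsg.Agent.F4TwoMult

theorem head_36 : headB 36 = true := by decide +kernel
theorem pair_36_0 : pairC 36 0 = true := by decide +kernel
theorem pair_36_1 : pairC 36 1 = true := by decide +kernel
theorem pair_36_2 : pairC 36 2 = true := by decide +kernel
theorem pair_36_3 : pairC 36 3 = true := by decide +kernel
theorem pair_36_4 : pairC 36 4 = true := by decide +kernel
theorem pair_36_5 : pairC 36 5 = true := by decide +kernel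
theorem pair_36_6 : pairC 36 6 = true := by decide +kernel
theorem pair_36_7 : pairC 36 7 = true := by decide +kernel
theorem pair_36_8 : pairC 36 8 = true := by decide +kernel
theorem pair_36_9 : pairC 36 9 = true := by decide +kernel
theorem pair_36_10 : pairC 36 10 = true := by decide +kernel
theorem pair_36_11 : pairC 36 11 = true := by decide +kernel
theorem pair_36_12 : pairC 36 12 = true := by decide +kernel
theorem pair_36_13 : pairC 36 13 = true := by decide +kernel
theorem pair_36_14 : pairC 36 14 = true := by decide +kernel
theorem pair_36_15 : pairC 36 15 = true := by decide +kernel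
theorem pair_36_16 : pairC 36 16 = true := by decide +kernel
theorem pair_36_17 : pairC 36 17 = true := by decide +kernel
theorem pair_36_18 : pairC 36 18 = true := by decide +kernel
theorem pair_36_19 : pairC 36 19 = true := by decide +kernel
theorem pair_36_20 : pairC 36 20 = true := by decide +kernel
theorem pair_36_21 : pairC 36 21 = true := by decide +kernel
theorem pair_36_22 : pairC 36 22 = true := by decide +kernel
theorem pair_36_23 : pairC 36 23 = true := by decide +kernel
theorem pair_36_24 : pairC 36 24 = true := by decide +kernel
theorem pair_36_25 : pairC 36 25 = true := by decide +kernel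
theorem pair_36_26 : pairC 36 26 = true := by decide +kernel
theorem pair_36_27 : pairC 36 27 = true := by decide +kernel
theorem pair_36_28 : pairC 36 28 = true := by decide +kernel
theorem pair_36_29 : pairC 36 29 = true := by decide +kernel
theorem pair_36_30 : pairC 36 30 = true := by decide +kernel
theorem pair_36_31 : pairC 36 31 = true := by decide +kernel
theorem pair_36_32 : pairC 36 32 = true := by decide +kernel
theorem pair_36_33 : pairC 36 33 = true := by decide +kernel
theorem pair_36_34 : pairC 36 34 = true := by decide +kernel
theorem pair_36_35 : pairC 36 35 = true := by decide +kernel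
theorem pair_36_36 : pairC 36 36 = true := by decide +kernel
theorem pair_36_37 : pairC 36 37 = true := by decide +kernel
theorem pair_36_38 : pairC 36 38 = true := by decide +kernel
theorem pair_36_39 : pairC 36 39 = true := by decide +kernel
theorem pair_36_40 : pairC 36 40 = true := by decide +kernel
theorem pair_36_41 : pairC 36 41 = true := by decide +kernel
theorem pair_36_42 : pairC 36 42 = true := by decide +kernel
theorem pair_36_43 : pairC 36 43 = true := by decide +kernel
theorem pair_36_44 : pairC 36 44 = true := by decide +kernel
theorem pair_36_45 : pairC 36 45 = true := by decide +kernel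
theorem pair_36_46 : pairC 36 46 = true := by decide +kernel
theorem pair_36_47 : pairC 36 47 = true := by decide +kernel
theorem chunk_36_0 : chunkB 36 0 = true :=
  chunk_of pair_36_0 pair_36_1 pair_36_2 pair_36_3 pair_36_4 pair_36_5 pair_36_6 pair_36_7
theorem chunk_36_1 : chunkB 36 1 = true :=
  chunk_of pair_36_8 pair_36_9 pair_36_10 pair_36_11 pair_36_12 pair_36_13 pair_36_14 pair_36_15
theorem chunk_36_2 : chunkB 36 2 = true :=
  chunk_of pair_36_16 pair_36_17 pair_36_18 pair_36_19 pair_36_20 pair_36_21 pair_36_22 pair_36_23
theorem chunk_36_3 : chunkB 36 3 = true :=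
  chunk_of pair_36_24 pair_36_25 pair_36_26 pair_36_27 pair_36_28 pair_36_29 pair_36_30 pair_36_31
theorem chunk_36_4 : chunkB 36 4 = true :=
  chunk_of pair_36_32 pair_36_33 pair_36_34 pair_36_35 pair_36_36 pair_36_37 pair_36_38 pair_36_39
theorem chunk_36_5 : chunkB 36 5 = true :=
  chunk_of pair_36_40 pair_36_41 pair_36_42 pair_36_43 pair_36_44 pair_36_45 pair_36_46 pair_36_47

theorem head_37 : headB 37 = true := by decide +kernel
theorem pair_37_0 : pairC 37 0 = true := by decide +kernel
theorem pair_37_1 : pairC 37 1 = true := by decide +kernel
theorem pair_37_2 : pairC 37 2 = true := by decide +kernel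
theorem pair_37_3 : pairC 37 3 = true := by decide +kernel
theorem pair_37_4 : pairC 37 4 = true := by decide +kernel
theorem pair_37_5 : pairC 37 5 = true := by decide +kernel
theorem pair_37_6 : pairC 37 6 = true := by decide +kernel
theorem pair_37_7 : pairC 37 7 = true := by decide +kernel
theorem pair_37_8 : pairC 37 8 = true := by decide +kernel
theorem pair_37_9 : pairC 37 9 = true := by decide +kernel
theorem pair_37_10 : pairC 37 10 = true := by decide +kernel
theorem pair_37_11 : pairC 37 11 = true := by decide +kernel
theorem pair_37_12 : pairC 37 12 = true := by decide +kernel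
theorem pair_37_13 : pairC 37 13 = true := by decide +kernel
theorem pair_37_14 : pairC 37 14 = true := by decide +kernel
theorem pair_37_15 : pairC 37 15 = true := by decide +kernel
theorem pair_37_16 : pairC 37 16 = true := by decide +kernel
theorem pair_37_17 : pairC 37 17 = true := by decide +kernel
theorem pair_37_18 : pairC 37 18 = true := by decide +kernel
theorem pair_37_19 : pairC 37 19 = true := by decide +kernel
theorem pair_37_20 : pairC 37 20 = true := by decide +kernel
theorem pair_37_21 : pairC 37 21 = true := by decide +kernel
theorem pair_37_22 : pairC 37 22 = true := by decide +kernel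
theorem pair_37_23 : pairC 37 23 = true := by decide +kernel
theorem pair_37_24 : pairC 37 24 = true := by decide +kernel
theorem pair_37_25 : pairC 37 25 = true := by decide +kernel
theorem pair_37_26 : pairC 37 26 = true := by decide +kernel
theorem pair_37_27 : pairC 37 27 = true := by decide +kernel
theorem pair_37_28 : pairC 37 28 = true := by decide +kernel
theorem pair_37_29 : pairC 37 29 = true := by decide +kernel
theorem pair_37_30 : pairC 37 30 = true := by decide +kernel
theorem pair_37_31 : pairC 37 31 = true := by decide +kernel
theorem pair_37_32 : pairC 37 32 = true := by decide +kernel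
theorem pair_37_33 : pairC 37 33 = true := by decide +kernel
theorem pair_37_34 : pairC 37 34 = true := by decide +kernel
theorem pair_37_35 : pairC 37 35 = true := by decide +kernel
theorem pair_37_36 : pairC 37 36 = true := by decide +kernel
theorem pair_37_37 : pairC 37 37 = true := by decide +kernel
theorem pair_37_38 : pairC 37 38 = true := by decide +kernel
theorem pair_37_39 : pairC 37 39 = true := by decide +kernel
theorem pair_37_40 : pairC 37 40 = true := by decide +kernel
theorem pair_37_41 : pairC 37 41 = true := by decide +kernel
theorem pair_37_42 : pairC 37 42 = true := by decide +kernel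
theorem pair_37_43 : pairC 37 43 = true := by decide +kernel
theorem pair_37_44 : pairC 37 44 = true := by decide +kernel
theorem pair_37_45 : pairC 37 45 = true := by decide +kernel
theorem pair_37_46 : pairC 37 46 = true := by decide +kernel
theorem pair_37_47 : pairC 37 47 = true := by decide +kernel
theorem chunk_37_0 : chunkB 37 0 = true :=
  chunk_of pair_37_0 pair_37_1 pair_37_2 pair_37_3 pair_37_4 pair_37_5 pair_37_6 pair_37_7
theorem chunk_37_1 : chunkB 37 1 = true :=
  chunk_of pair_37_8 pair_37_9 pair_37_10 pair_37_11 pair_37_12 pair_37_13 pair_37_14 pair_37_15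
theorem chunk_37_2 : chunkB 37 2 = true :=
  chunk_of pair_37_16 pair_37_17 pair_37_18 pair_37_19 pair_37_20 pair_37_21 pair_37_22 pair_37_23
theorem chunk_37_3 : chunkB 37 3 = true :=
  chunk_of pair_37_24 pair_37_25 pair_37_26 pair_37_27 pair_37_28 pair_37_29 pair_37_30 pair_37_31
theorem chunk_37_4 : chunkB 37 4 = true :=
  chunk_of pair_37_32 pair_37_33 pair_37_34 pair_37_35 pair_37_36 pair_37_37 pair_37_38 pair_37_39
theorem chunk_37_5 : chunkB 37 5 = true :=
  chunk_of pair_37_40 pair_37_41 pair_37_42 pair_37_43 pair_37_44 pair_37_45 pair_37_46 pair_37_47

theorem head_38 : headB 38 = true := by decide +kernel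
theorem pair_38_0 : pairC 38 0 = true := by decide +kernel
theorem pair_38_1 : pairC 38 1 = true := by decide +kernel
theorem pair_38_2 : pairC 38 2 = true := by decide +kernel
theorem pair_38_3 : pairC 38 3 = true := by decide +kernel
theorem pair_38_4 : pairC 38 4 = true := by decide +kernel
theorem pair_38_5 : pairC 38 5 = true := by decide +kernel
theorem pair_38_6 : pairC 38 6 = true := by decide +kernel
theorem pair_38_7 : pairC 38 7 = true := by decide +kernel
theorem pair_38_8 : pairC 38 8 = true := by decide +kernel
theorem pair_38_9 : pairC 38 9 = true := by decide +kernel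
theorem pair_38_10 : pairC 38 10 = true := by decide +kernel
theorem pair_38_11 : pairC 38 11 = true := by decide +kernel
theorem pair_38_12 : pairC 38 12 = true := by decide +kernel
theorem pair_38_13 : pairC 38 13 = true := by decide +kernel
theorem pair_38_14 : pairC 38 14 = true := by decide +kernel
theorem pair_38_15 : pairC 38 15 = true := by decide +kernel
theorem pair_38_16 : pairC 38 16 = true := by decide +kernel
theorem pair_38_17 : pairC 38 17 = true := by decide +kernel
theorem pair_38_18 : pairC 38 18 = true := by decide +kernel
theorem pair_38_19 : pairC 38 19 = true := by decide +kernel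
theorem pair_38_20 : pairC 38 20 = true := by decide +kernel
theorem pair_38_21 : pairC 38 21 = true := by decide +kernel
theorem pair_38_22 : pairC 38 22 = true := by decide +kernel
theorem pair_38_23 : pairC 38 23 = true := by decide +kernel
theorem pair_38_24 : pairC 38 24 = true := by decide +kernel
theorem pair_38_25 : pairC 38 25 = true := by decide +kernel
theorem pair_38_26 : pairC 38 26 = true := by decide +kernel
theorem pair_38_27 : pairC 38 27 = true := by decide +kernel
theorem pair_38_28 : pairC 38 28 = true := by decide +kernel
theorem pair_38_29 : pairC 38 29 = true := by decide +kernel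
theorem pair_38_30 : pairC 38 30 = true := by decide +kernel
theorem pair_38_31 : pairC 38 31 = true := by decide +kernel
theorem pair_38_32 : pairC 38 32 = true := by decide +kernel
theorem pair_38_33 : pairC 38 33 = true := by decide +kernel
theorem pair_38_34 : pairC 38 34 = true := by decide +kernel
theorem pair_38_35 : pairC 38 35 = true := by decide +kernel
theorem pair_38_36 : pairC 38 36 = true := by decide +kernel
theorem pair_38_37 : pairC 38 37 = true := by decide +kernel
theorem pair_38_38 : pairC 38 38 = true := by decide +kernel
theorem pair_38_39 : pairC 38 39 = true := by decide +kernel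
theorem pair_38_40 : pairC 38 40 = true := by decide +kernel
theorem pair_38_41 : pairC 38 41 = true := by decide +kernel
theorem pair_38_42 : pairC 38 42 = true := by decide +kernel
theorem pair_38_43 : pairC 38 43 = true := by decide +kernel
theorem pair_38_44 : pairC 38 44 = true := by decide +kernel
theorem pair_38_45 : pairC 38 45 = true := by decide +kernel
theorem pair_38_46 : pairC 38 46 = true := by decide +kernel
theorem pair_38_47 : pairC 38 47 = true := by decide +kernel
theorem chunk_38_0 : chunkB 38 0 = true :=
  chunk_of pair_38_0 pair_38_1 pair_38_2 pair_38_3 pair_38_4 pair_38_5 pair_38_6 pair_38_7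
theorem chunk_38_1 : chunkB 38 1 = true :=
  chunk_of pair_38_8 pair_38_9 pair_38_10 pair_38_11 pair_38_12 pair_38_13 pair_38_14 pair_38_15
theorem chunk_38_2 : chunkB 38 2 = true :=
  chunk_of pair_38_16 pair_38_17 pair_38_18 pair_38_19 pair_38_20 pair_38_21 pair_38_22 pair_38_23
theorem chunk_38_3 : chunkB 38 3 = true :=
  chunk_of pair_38_24 pair_38_25 pair_38_26 pair_38_27 pair_38_28 pair_38_29 pair_38_30 pair_38_31
theorem chunk_38_4 : chunkB 38 4 = true :=
  chunk_of pair_38_32 pair_38_33 pair_38_34 pair_38_35 pair_38_36 pair_38_37 pair_38_38 pair_38_39
theorem chunk_38_5 : chunkB 38 5 = true :=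
  chunk_of pair_38_40 pair_38_41 pair_38_42 pair_38_43 pair_38_44 pair_38_45 pair_38_46 pair_38_47

theorem head_39 : headB 39 = true := by decide +kernel
theorem pair_39_0 : pairC 39 0 = true := by decide +kernel
theorem pair_39_1 : pairC 39 1 = true := by decide +kernel
theorem pair_39_2 : pairC 39 2 = true := by decide +kernel
theorem pair_39_3 : pairC 39 3 = true := by decide +kernel
theorem pair_39_4 : pairC 39 4 = true := by decide +kernel
theorem pair_39_5 : pairC 39 5 = true := by decide +kernel
theorem pair_39_6 : pairC 39 6 = true := by decide +kernel
theorem pair_39_7 : pairC 39 7 = true := by decide +kernel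
theorem pair_39_8 : pairC 39 8 = true := by decide +kernel
theorem pair_39_9 : pairC 39 9 = true := by decide +kernel
theorem pair_39_10 : pairC 39 10 = true := by decide +kernel
theorem pair_39_11 : pairC 39 11 = true := by decide +kernel
theorem pair_39_12 : pairC 39 12 = true := by decide +kernel
theorem pair_39_13 : pairC 39 13 = true := by decide +kernel
theorem pair_39_14 : pairC 39 14 = true := by decide +kernel
theorem pair_39_15 : pairC 39 15 = true := by decide +kernel
theorem pair_39_16 : pairC 39 16 = true := by decide +kernel
theorem pair_39_17 : pairC 39 17 = true := by decide +kernel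
theorem pair_39_18 : pairC 39 18 = true := by decide +kernel
theorem pair_39_19 : pairC 39 19 = true := by decide +kernel
theorem pair_39_20 : pairC 39 20 = true := by decide +kernel
theorem pair_39_21 : pairC 39 21 = true := by decide +kernel
theorem pair_39_22 : pairC 39 22 = true := by decide +kernel
theorem pair_39_23 : pairC 39 23 = true := by decide +kernel
theorem pair_39_24 : pairC 39 24 = true := by decide +kernel
theorem pair_39_25 : pairC 39 25 = true := by decide +kernel
theorem pair_39_26 : pairC 39 26 = true := by decide +kernel
theorem pair_39_27 : pairC 39 27 = true := by decide +kernel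
theorem pair_39_28 : pairC 39 28 = true := by decide +kernel
theorem pair_39_29 : pairC 39 29 = true := by decide +kernel
theorem pair_39_30 : pairC 39 30 = true := by decide +kernel
theorem pair_39_31 : pairC 39 31 = true := by decide +kernel
theorem pair_39_32 : pairC 39 32 = true := by decide +kernel
theorem pair_39_33 : pairC 39 33 = true := by decide +kernel
theorem pair_39_34 : pairC 39 34 = true := by decide +kernel
theorem pair_39_35 : pairC 39 35 = true := by decide +kernel
theorem pair_39_36 : pairC 39 36 = true := by decide +kernel
theorem pair_39_37 : pairC 39 37 = true := by decide +kernel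
theorem pair_39_38 : pairC 39 38 = true := by decide +kernel
theorem pair_39_39 : pairC 39 39 = true := by decide +kernel
theorem pair_39_40 : pairC 39 40 = true := by decide +kernel
theorem pair_39_41 : pairC 39 41 = true := by decide +kernel
theorem pair_39_42 : pairC 39 42 = true := by decide +kernel
theorem pair_39_43 : pairC 39 43 = true := by decide +kernel
theorem pair_39_44 : pairC 39 44 = true := by decide +kernel
theorem pair_39_45 : pairC 39 45 = true := by decide +kernel
theorem pair_39_46 : pairC 39 46 = true := by decide +kernel
theorem pair_39_47 : pairC 39 47 = true := by decide +kernel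
theorem chunk_39_0 : chunkB 39 0 = true :=
  chunk_of pair_39_0 pair_39_1 pair_39_2 pair_39_3 pair_39_4 pair_39_5 pair_39_6 pair_39_7
theorem chunk_39_1 : chunkB 39 1 = true :=
  chunk_of pair_39_8 pair_39_9 pair_39_10 pair_39_11 pair_39_12 pair_39_13 pair_39_14 pair_39_15
theorem chunk_39_2 : chunkB 39 2 = true :=
  chunk_of pair_39_16 pair_39_17 pair_39_18 pair_39_19 pair_39_20 pair_39_21 pair_39_22 pair_39_23
theorem chunk_39_3 : chunkB 39 3 = true :=
  chunk_of pair_39_24 pair_39_25 pair_39_26 pair_39_27 pair_39_28 pair_39_29 pair_39_30 pair_39_31
theorem chunk_39_4 : chunkB 39 4 = true :=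
  chunk_of pair_39_32 pair_39_33 pair_39_34 pair_39_35 pair_39_36 pair_39_37 pair_39_38 pair_39_39
theorem chunk_39_5 : chunkB 39 5 = true :=
  chunk_of pair_39_40 pair_39_41 pair_39_42 pair_39_43 pair_39_44 pair_39_45 pair_39_46 pair_39_47

theorem head_40 : headB 40 = true := by decide +kernel
theorem pair_40_0 : pairC 40 0 = true := by decide +kernel
theorem pair_40_1 : pairC 40 1 = true := by decide +kernel
theorem pair_40_2 : pairC 40 2 = true := by decide +kernel
theorem pair_40_3 : pairC 40 3 = true := by decide +kernel
theorem pair_40_4 : pairC 40 4 = true := by decide +kernel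
theorem pair_40_5 : pairC 40 5 = true := by decide +kernel
theorem pair_40_6 : pairC 40 6 = true := by decide +kernel
theorem pair_40_7 : pairC 40 7 = true := by decide +kernel
theorem pair_40_8 : pairC 40 8 = true := by decide +kernel
theorem pair_40_9 : pairC 40 9 = true := by decide +kernel
theorem pair_40_10 : pairC 40 10 = true := by decide +kernel
theorem pair_40_11 : pairC 40 11 = true := by decide +kernel
theorem pair_40_12 : pairC 40 12 = true := by decide +kernel
theorem pair_40_13 : pairC 40 13 = true := by decide +kernel
theorem pair_40_14 : pairC 40 14 = true := by decide +kernel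
theorem pair_40_15 : pairC 40 15 = true := by decide +kernel
theorem pair_40_16 : pairC 40 16 = true := by decide +kernel
theorem pair_40_17 : pairC 40 17 = true := by decide +kernel
theorem pair_40_18 : pairC 40 18 = true := by decide +kernel
theorem pair_40_19 : pairC 40 19 = true := by decide +kernel
theorem pair_40_20 : pairC 40 20 = true := by decide +kernel
theorem pair_40_21 : pairC 40 21 = true := by decide +kernel
theorem pair_40_22 : pairC 40 22 = true := by decide +kernel
theorem pair_40_23 : pairC 40 23 = true := by decide +kernel
theorem pair_40_24 : pairC 40 24 = true := by decide +kernel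
theorem pair_40_25 : pairC 40 25 = true := by decide +kernel
theorem pair_40_26 : pairC 40 26 = true := by decide +kernel
theorem pair_40_27 : pairC 40 27 = true := by decide +kernel
theorem pair_40_28 : pairC 40 28 = true := by decide +kernel
theorem pair_40_29 : pairC 40 29 = true := by decide +kernel
theorem pair_40_30 : pairC 40 30 = true := by decide +kernel
theorem pair_40_31 : pairC 40 31 = true := by decide +kernel
theorem pair_40_32 : pairC 40 32 = true := by decide +kernel
theorem pair_40_33 : pairC 40 33 = true := by decide +kernel
theorem pair_40_34 : pairC 40 34 = true := by decide +kernel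
theorem pair_40_35 : pairC 40 35 = true := by decide +kernel
theorem pair_40_36 : pairC 40 36 = true := by decide +kernel
theorem pair_40_37 : pairC 40 37 = true := by decide +kernel
theorem pair_40_38 : pairC 40 38 = true := by decide +kernel
theorem pair_40_39 : pairC 40 39 = true := by decide +kernel
theorem pair_40_40 : pairC 40 40 = true := by decide +kernel
theorem pair_40_41 : pairC 40 41 = true := by decide +kernel
theorem pair_40_42 : pairC 40 42 = true := by decide +kernel
theorem pair_40_43 : pairC 40 43 = true := by decide +kernel
theorem pair_40_44 : pairC 40 44 = true := by decide +kernel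
theorem pair_40_45 : pairC 40 45 = true := by decide +kernel
theorem pair_40_46 : pairC 40 46 = true := by decide +kernel
theorem pair_40_47 : pairC 40 47 = true := by decide +kernel
theorem chunk_40_0 : chunkB 40 0 = true :=
  chunk_of pair_40_0 pair_40_1 pair_40_2 pair_40_3 pair_40_4 pair_40_5 pair_40_6 pair_40_7
theorem chunk_40_1 : chunkB 40 1 = true :=
  chunk_of pair_40_8 pair_40_9 pair_40_10 pair_40_11 pair_40_12 pair_40_13 pair_40_14 pair_40_15
theorem chunk_40_2 : chunkB 40 2 = true :=
  chunk_of pair_40_16 pair_40_17 pair_40_18 pair_40_19 pair_40_20 pair_40_21 pair_40_22 pair_40_23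
theorem chunk_40_3 : chunkB 40 3 = true :=
  chunk_of pair_40_24 pair_40_25 pair_40_26 pair_40_27 pair_40_28 pair_40_29 pair_40_30 pair_40_31
theorem chunk_40_4 : chunkB 40 4 = true :=
  chunk_of pair_40_32 pair_40_33 pair_40_34 pair_40_35 pair_40_36 pair_40_37 pair_40_38 pair_40_39
theorem chunk_40_5 : chunkB 40 5 = true :=
  chunk_of pair_40_40 pair_40_41 pair_40_42 pair_40_43 pair_40_44 pair_40_45 pair_40_46 pair_40_47

theorem head_41 : headB 41 = true := by decide +kernel
theorem pair_41_0 : pairC 41 0 = true := by decide +kernel
theorem pair_41_1 : pairC 41 1 = true := by decide +kernel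
theorem pair_41_2 : pairC 41 2 = true := by decide +kernel
theorem pair_41_3 : pairC 41 3 = true := by decide +kernel
theorem pair_41_4 : pairC 41 4 = true := by decide +kernel
theorem pair_41_5 : pairC 41 5 = true := by decide +kernel
theorem pair_41_6 : pairC 41 6 = true := by decide +kernel
theorem pair_41_7 : pairC 41 7 = true := by decide +kernel
theorem pair_41_8 : pairC 41 8 = true := by decide +kernel
theorem pair_41_9 : pairC 41 9 = true := by decide +kernel
theorem pair_41_10 : pairC 41 10 = true := by decide +kernel
theorem pair_41_11 : pairC 41 11 = true := by decide +kernel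
theorem pair_41_12 : pairC 41 12 = true := by decide +kernel
theorem pair_41_13 : pairC 41 13 = true := by decide +kernel
theorem pair_41_14 : pairC 41 14 = true := by decide +kernel
theorem pair_41_15 : pairC 41 15 = true := by decide +kernel
theorem pair_41_16 : pairC 41 16 = true := by decide +kernel
theorem pair_41_17 : pairC 41 17 = true := by decide +kernel
theorem pair_41_18 : pairC 41 18 = true := by decide +kernel
theorem pair_41_19 : pairC 41 19 = true := by decide +kernel
theorem pair_41_20 : pairC 41 20 = true := by decide +kernel
theorem pair_41_21 : pairC 41 21 = true := by decide +kernel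
theorem pair_41_22 : pairC 41 22 = true := by decide +kernel
theorem pair_41_23 : pairC 41 23 = true := by decide +kernel
theorem pair_41_24 : pairC 41 24 = true := by decide +kernel
theorem pair_41_25 : pairC 41 25 = true := by decide +kernel
theorem pair_41_26 : pairC 41 26 = true := by decide +kernel
theorem pair_41_27 : pairC 41 27 = true := by decide +kernel
theorem pair_41_28 : pairC 41 28 = true := by decide +kernel
theorem pair_41_29 : pairC 41 29 = true := by decide +kernel
theorem pair_41_30 : pairC 41 30 = true := by decide +kernel
theorem pair_41_31 : pairC 41 31 = true := by decide +kernel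
theorem pair_41_32 : pairC 41 32 = true := by decide +kernel
theorem pair_41_33 : pairC 41 33 = true := by decide +kernel
theorem pair_41_34 : pairC 41 34 = true := by decide +kernel
theorem pair_41_35 : pairC 41 35 = true := by decide +kernel
theorem pair_41_36 : pairC 41 36 = true := by decide +kernel
theorem pair_41_37 : pairC 41 37 = true := by decide +kernel
theorem pair_41_38 : pairC 41 38 = true := by decide +kernel
theorem pair_41_39 : pairC 41 39 = true := by decide +kernel
theorem pair_41_40 : pairC 41 40 = true := by decide +kernel
theorem pair_41_41 : pairC 41 41 = true := by decide +kernel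
theorem pair_41_42 : pairC 41 42 = true := by decide +kernel
theorem pair_41_43 : pairC 41 43 = true := by decide +kernel
theorem pair_41_44 : pairC 41 44 = true := by decide +kernel
theorem pair_41_45 : pairC 41 45 = true := by decide +kernel
theorem pair_41_46 : pairC 41 46 = true := by decide +kernel
theorem pair_41_47 : pairC 41 47 = true := by decide +kernel
theorem chunk_41_0 : chunkB 41 0 = true :=
  chunk_of pair_41_0 pair_41_1 pair_41_2 pair_41_3 pair_41_4 pair_41_5 pair_41_6 pair_41_7
theorem chunk_41_1 : chunkB 41 1 = true :=
  chunk_of pair_41_8 pair_41_9 pair_41_10 pair_41_11 pair_41_12 pair_41_13 pair_41_14 pair_41_15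
theorem chunk_41_2 : chunkB 41 2 = true :=
  chunk_of pair_41_16 pair_41_17 pair_41_18 pair_41_19 pair_41_20 pair_41_21 pair_41_22 pair_41_23
theorem chunk_41_3 : chunkB 41 3 = true :=
  chunk_of pair_41_24 pair_41_25 pair_41_26 pair_41_27 pair_41_28 pair_41_29 pair_41_30 pair_41_31
theorem chunk_41_4 : chunkB 41 4 = true :=
  chunk_of pair_41_32 pair_41_33 pair_41_34 pair_41_35 pair_41_36 pair_41_37 pair_41_38 pair_41_39
theorem chunk_41_5 : chunkB 41 5 = true :=
  chunk_of pair_41_40 pair_41_41 pair_41_42 pair_41_43 pair_41_44 pair_41_45 pair_41_46 pair_41_47

end Cfsg.Agent.F4TwoMult
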