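import Cfsg.Agent.F4TwoMult.Rep

/-!
The relations of the representation for the roots 42 to 47.
-/

set_option autoImplicit false
set_option maxRecDepth 100000
set_option Elab.async false

namespace Cfsg.Agent.F4TwoMult

theorem head_42 : headB 42 = true := by decide +kernel
theorem pair_42_0 : pairC 42 0 = true := by decide +kernel
theorem pair_42_1 : pairC 42 1 = true := by decide +kernel
theorem pair_42_2 : pairC 42 2 = true := by decide +kernel
theorem pair_42_3 : pairC 42 3 = true := by decide +kernel
theorem pair_42_4 : pairC 42 4 = true := by decide +kernel
theorem pair_42_5 : pairC 42 5 = true := by decide +kernel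
theorem pair_42_6 : pairC 42 6 = true := by decide +kernel
theorem pair_42_7 : pairC 42 7 = true := by decide +kernel
theorem pair_42_8 : pairC 42 8 = true := by decide +kernel
theorem pair_42_9 : pairC 42 9 = true := by decide +kernel
theorem pair_42_10 : pairC 42 10 = true := by decide +kernel
theorem pair_42_11 : pairC 42 11 = true := by decide +kernel
theorem pair_42_12 : pairC 42 12 = true := by decide +kernel
theorem pair_42_13 : pairC 42 13 = true := by decide +kernel
theorem pair_42_14 : pairC 42 14 = true := by decide +kernel
theorem pair_42_15 : pairC 42 15 = true := by decide +kernel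
theorem pair_42_16 : pairC 42 16 = true := by decide +kernel
theorem pair_42_17 : pairC 42 17 = true := by decide +kernel
theorem pair_42_18 : pairC 42 18 = true := by decide +kernel
theorem pair_42_19 : pairC 42 19 = true := by decide +kernel
theorem pair_42_20 : pairC 42 20 = true := by decide +kernel
theorem pair_42_21 : pairC 42 21 = true := by decide +kernel
theorem pair_42_22 : pairC 42 22 = true := by decide +kernel
theorem pair_42_23 : pairC 42 23 = true := by decide +kernel
theorem pair_42_24 : pairC 42 24 = true := by decide +kernel
theorem pair_42_25 : pairC 42 25 = true := by decide +kernel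
theorem pair_42_26 : pairC 42 26 = true := by decide +kernel
theorem pair_42_27 : pairC 42 27 = true := by decide +kernel
theorem pair_42_28 : pairC 42 28 = true := by decide +kernel
theorem pair_42_29 : pairC 42 29 = true := by decide +kernel
theorem pair_42_30 : pairC 42 30 = true := by decide +kernel
theorem pair_42_31 : pairC 42 31 = true := by decide +kernel
theorem pair_42_32 : pairC 42 32 = true := by decide +kernel
theorem pair_42_33 : pairC 42 33 = true := by decide +kernel
theorem pair_42_34 : pairC 42 34 = true := by decide +kernel
theorem pair_42_35 : pairC 42 35 = true := by decide +kernel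
theorem pair_42_36 : pairC 42 36 = true := by decide +kernel
theorem pair_42_37 : pairC 42 37 = true := by decide +kernel
theorem pair_42_38 : pairC 42 38 = true := by decide +kernel
theorem pair_42_39 : pairC 42 39 = true := by decide +kernel
theorem pair_42_40 : pairC 42 40 = true := by decide +kernel
theorem pair_42_41 : pairC 42 41 = true := by decide +kernel
theorem pair_42_42 : pairC 42 42 = true := by decide +kernel
theorem pair_42_43 : pairC 42 43 = true := by decide +kernel
theorem pair_42_44 : pairC 42 44 = true := by decide +kernel
theorem pair_42_45 : pairC 42 45 = true := by decide +kernel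
theorem pair_42_46 : pairC 42 46 = true := by decide +kernel
theorem pair_42_47 : pairC 42 47 = true := by decide +kernel
theorem chunk_42_0 : chunkB 42 0 = true :=
  chunk_of pair_42_0 pair_42_1 pair_42_2 pair_42_3 pair_42_4 pair_42_5 pair_42_6 pair_42_7
theorem chunk_42_1 : chunkB 42 1 = true :=
  chunk_of pair_42_8 pair_42_9 pair_42_10 pair_42_11 pair_42_12 pair_42_13 pair_42_14 pair_42_15
theorem chunk_42_2 : chunkB 42 2 = true :=
  chunk_of pair_42_16 pair_42_17 pair_42_18 pair_42_19 pair_42_20 pair_42_21 pair_42_22 pair_42_23
theorem chunk_42_3 : chunkB 42 3 = true :=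
  chunk_of pair_42_24 pair_42_25 pair_42_26 pair_42_27 pair_42_28 pair_42_29 pair_42_30 pair_42_31
theorem chunk_42_4 : chunkB 42 4 = true :=
  chunk_of pair_42_32 pair_42_33 pair_42_34 pair_42_35 pair_42_36 pair_42_37 pair_42_38 pair_42_39
theorem chunk_42_5 : chunkB 42 5 = true :=
  chunk_of pair_42_40 pair_42_41 pair_42_42 pair_42_43 pair_42_44 pair_42_45 pair_42_46 pair_42_47

theorem head_43 : headB 43 = true := by decide +kernel
theorem pair_43_0 : pairC 43 0 = true := by decide +kernel
theorem pair_43_1 : pairC 43 1 = true := by decide +kernel
theorem pair_43_2 : pairC 43 2 = true := by decide +kernel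
theorem pair_43_3 : pairC 43 3 = true := by decide +kernel
theorem pair_43_4 : pairC 43 4 = true := by decide +kernel
theorem pair_43_5 : pairC 43 5 = true := by decide +kernel
theorem pair_43_6 : pairC 43 6 = true := by decide +kernel
theorem pair_43_7 : pairC 43 7 = true := by decide +kernel
theorem pair_43_8 : pairC 43 8 = true := by decide +kernel
theorem pair_43_9 : pairC 43 9 = true := by decide +kernel
theorem pair_43_10 : pairC 43 10 = true := by decide +kernel
theorem pair_43_11 : pairC 43 11 = true := by decide +kernel
theorem pair_43_12 : pairC 43 12 = true := by decide +kernel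
theorem pair_43_13 : pairC 43 13 = true := by decide +kernel
theorem pair_43_14 : pairC 43 14 = true := by decide +kernel
theorem pair_43_15 : pairC 43 15 = true := by decide +kernel
theorem pair_43_16 : pairC 43 16 = true := by decide +kernel
theorem pair_43_17 : pairC 43 17 = true := by decide +kernel
theorem pair_43_18 : pairC 43 18 = true := by decide +kernel
theorem pair_43_19 : pairC 43 19 = true := by decide +kernel
theorem pair_43_20 : pairC 43 20 = true := by decide +kernel
theorem pair_43_21 : pairC 43 21 = true := by decide +kernel
theorem pair_43_22 : pairC 43 22 = true := by decide +kernel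
theorem pair_43_23 : pairC 43 23 = true := by decide +kernel
theorem pair_43_24 : pairC 43 24 = true := by decide +kernel
theorem pair_43_25 : pairC 43 25 = true := by decide +kernel
theorem pair_43_26 : pairC 43 26 = true := by decide +kernel
theorem pair_43_27 : pairC 43 27 = true := by decide +kernel
theorem pair_43_28 : pairC 43 28 = true := by decide +kernel
theorem pair_43_29 : pairC 43 29 = true := by decide +kernel
theorem pair_43_30 : pairC 43 30 = true := by decide +kernel
theorem pair_43_31 : pairC 43 31 = true := by decide +kernel
theorem pair_43_32 : pairC 43 32 = true := by decide +kernel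
theorem pair_43_33 : pairC 43 33 = true := by decide +kernel
theorem pair_43_34 : pairC 43 34 = true := by decide +kernel
theorem pair_43_35 : pairC 43 35 = true := by decide +kernel
theorem pair_43_36 : pairC 43 36 = true := by decide +kernel
theorem pair_43_37 : pairC 43 37 = true := by decide +kernel
theorem pair_43_38 : pairC 43 38 = true := by decide +kernel
theorem pair_43_39 : pairC 43 39 = true := by decide +kernel
theorem pair_43_40 : pairC 43 40 = true := by decide +kernel
theorem pair_43_41 : pairC 43 41 = true := by decide +kernel
theorem pair_43_42 : pairC 43 42 = true := by decide +kernel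
theorem pair_43_43 : pairC 43 43 = true := by decide +kernel
theorem pair_43_44 : pairC 43 44 = true := by decide +kernel
theorem pair_43_45 : pairC 43 45 = true := by decide +kernel
theorem pair_43_46 : pairC 43 46 = true := by decide +kernel
theorem pair_43_47 : pairC 43 47 = true := by decide +kernel
theorem chunk_43_0 : chunkB 43 0 = true :=
  chunk_of pair_43_0 pair_43_1 pair_43_2 pair_43_3 pair_43_4 pair_43_5 pair_43_6 pair_43_7
theorem chunk_43_1 : chunkB 43 1 = true :=
  chunk_of pair_43_8 pair_43_9 pair_43_10 pair_43_11 pair_43_12 pair_43_13 pair_43_14 pair_43_15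
theorem chunk_43_2 : chunkB 43 2 = true :=
  chunk_of pair_43_16 pair_43_17 pair_43_18 pair_43_19 pair_43_20 pair_43_21 pair_43_22 pair_43_23
theorem chunk_43_3 : chunkB 43 3 = true :=
  chunk_of pair_43_24 pair_43_25 pair_43_26 pair_43_27 pair_43_28 pair_43_29 pair_43_30 pair_43_31
theorem chunk_43_4 : chunkB 43 4 = true :=
  chunk_of pair_43_32 pair_43_33 pair_43_34 pair_43_35 pair_43_36 pair_43_37 pair_43_38 pair_43_39
theorem chunk_43_5 : chunkB 43 5 = true :=
  chunk_of pair_43_40 pair_43_41 pair_43_42 pair_43_43 pair_43_44 pair_43_45 pair_43_46 pair_43_47

theorem head_44 : headB 44 = true := by decide +kernel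
theorem pair_44_0 : pairC 44 0 = true := by decide +kernel
theorem pair_44_1 : pairC 44 1 = true := by decide +kernel
theorem pair_44_2 : pairC 44 2 = true := by decide +kernel
theorem pair_44_3 : pairC 44 3 = true := by decide +kernel
theorem pair_44_4 : pairC 44 4 = true := by decide +kernel
theorem pair_44_5 : pairC 44 5 = true := by decide +kernel
theorem pair_44_6 : pairC 44 6 = true := by decide +kernel
theorem pair_44_7 : pairC 44 7 = true := by decide +kernel
theorem pair_44_8 : pairC 44 8 = true := by decide +kernel
theorem pair_44_9 : pairC 44 9 = true := by decide +kernel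
theorem pair_44_10 : pairC 44 10 = true := by decide +kernel
theorem pair_44_11 : pairC 44 11 = true := by decide +kernel
theorem pair_44_12 : pairC 44 12 = true := by decide +kernel
theorem pair_44_13 : pairC 44 13 = true := by decide +kernel
theorem pair_44_14 : pairC 44 14 = true := by decide +kernel
theorem pair_44_15 : pairC 44 15 = true := by decide +kernel
theorem pair_44_16 : pairC 44 16 = true := by decide +kernel
theorem pair_44_17 : pairC 44 17 = true := by decide +kernel
theorem pair_44_18 : pairC 44 18 = true := by decide +kernel
theorem pair_44_19 : pairC 44 19 = true := by decide +kernel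
theorem pair_44_20 : pairC 44 20 = true := by decide +kernel
theorem pair_44_21 : pairC 44 21 = true := by decide +kernel
theorem pair_44_22 : pairC 44 22 = true := by decide +kernel
theorem pair_44_23 : pairC 44 23 = true := by decide +kernel
theorem pair_44_24 : pairC 44 24 = true := by decide +kernel
theorem pair_44_25 : pairC 44 25 = true := by decide +kernel
theorem pair_44_26 : pairC 44 26 = true := by decide +kernel
theorem pair_44_27 : pairC 44 27 = true := by decide +kernel
theorem pair_44_28 : pairC 44 28 = true := by decide +kernel
theorem pair_44_29 : pairC 44 29 = true := by decide +kernel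
theorem pair_44_30 : pairC 44 30 = true := by decide +kernel
theorem pair_44_31 : pairC 44 31 = true := by decide +kernel
theorem pair_44_32 : pairC 44 32 = true := by decide +kernel
theorem pair_44_33 : pairC 44 33 = true := by decide +kernel
theorem pair_44_34 : pairC 44 34 = true := by decide +kernel
theorem pair_44_35 : pairC 44 35 = true := by decide +kernel
theorem pair_44_36 : pairC 44 36 = true := by decide +kernel
theorem pair_44_37 : pairC 44 37 = true := by decide +kernel
theorem pair_44_38 : pairC 44 38 = true := by decide +kernel
theorem pair_44_39 : pairC 44 39 = true := by decide +kernel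
theorem pair_44_40 : pairC 44 40 = true := by decide +kernel
theorem pair_44_41 : pairC 44 41 = true := by decide +kernel
theorem pair_44_42 : pairC 44 42 = true := by decide +kernel
theorem pair_44_43 : pairC 44 43 = true := by decide +kernel
theorem pair_44_44 : pairC 44 44 = true := by decide +kernel
theorem pair_44_45 : pairC 44 45 = true := by decide +kernel
theorem pair_44_46 : pairC 44 46 = true := by decide +kernel
theorem pair_44_47 : pairC 44 47 = true := by decide +kernel
theorem chunk_44_0 : chunkB 44 0 = true :=
  chunk_of pair_44_0 pair_44_1 pair_44_2 pair_44_3 pair_44_4 pair_44_5 pair_44_6 pair_44_7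
theorem chunk_44_1 : chunkB 44 1 = true :=
  chunk_of pair_44_8 pair_44_9 pair_44_10 pair_44_11 pair_44_12 pair_44_13 pair_44_14 pair_44_15
theorem chunk_44_2 : chunkB 44 2 = true :=
  chunk_of pair_44_16 pair_44_17 pair_44_18 pair_44_19 pair_44_20 pair_44_21 pair_44_22 pair_44_23
theorem chunk_44_3 : chunkB 44 3 = true :=
  chunk_of pair_44_24 pair_44_25 pair_44_26 pair_44_27 pair_44_28 pair_44_29 pair_44_30 pair_44_31
theorem chunk_44_4 : chunkB 44 4 = true :=
  chunk_of pair_44_32 pair_44_33 pair_44_34 pair_44_35 pair_44_36 pair_44_37 pair_44_38 pair_44_39
theorem chunk_44_5 : chunkB 44 5 = true :=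
  chunk_of pair_44_40 pair_44_41 pair_44_42 pair_44_43 pair_44_44 pair_44_45 pair_44_46 pair_44_47

theorem head_45 : headB 45 = true := by decide +kernel
theorem pair_45_0 : pairC 45 0 = true := by decide +kernel
theorem pair_45_1 : pairC 45 1 = true := by decide +kernel
theorem pair_45_2 : pairC 45 2 = true := by decide +kernel
theorem pair_45_3 : pairC 45 3 = true := by decide +kernel
theorem pair_45_4 : pairC 45 4 = true := by decide +kernel
theorem pair_45_5 : pairC 45 5 = true := by decide +kernel
theorem pair_45_6 : pairC 45 6 = true := by decide +kernel
theorem pair_45_7 : pairC 45 7 = true := by decide +kernel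
theorem pair_45_8 : pairC 45 8 = true := by decide +kernel
theorem pair_45_9 : pairC 45 9 = true := by decide +kernel
theorem pair_45_10 : pairC 45 10 = true := by decide +kernel
theorem pair_45_11 : pairC 45 11 = true := by decide +kernel
theorem pair_45_12 : pairC 45 12 = true := by decide +kernel
theorem pair_45_13 : pairC 45 13 = true := by decide +kernel
theorem pair_45_14 : pairC 45 14 = true := by decide +kernel
theorem pair_45_15 : pairC 45 15 = true := by decide +kernel
theorem pair_45_16 : pairC 45 16 = true := by decide +kernel
theorem pair_45_17 : pairC 45 17 = true := by decide +kernel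
theorem pair_45_18 : pairC 45 18 = true := by decide +kernel
theorem pair_45_19 : pairC 45 19 = true := by decide +kernel
theorem pair_45_20 : pairC 45 20 = true := by decide +kernel
theorem pair_45_21 : pairC 45 21 = true := by decide +kernel
theorem pair_45_22 : pairC 45 22 = true := by decide +kernel
theorem pair_45_23 : pairC 45 23 = true := by decide +kernel
theorem pair_45_24 : pairC 45 24 = true := by decide +kernel
theorem pair_45_25 : pairC 45 25 = true := by decide +kernel
theorem pair_45_26 : pairC 45 26 = true := by decide +kernel
theorem pair_45_27 : pairC 45 27 = true := by decide +kernel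
theorem pair_45_28 : pairC 45 28 = true := by decide +kernel
theorem pair_45_29 : pairC 45 29 = true := by decide +kernel
theorem pair_45_30 : pairC 45 30 = true := by decide +kernel
theorem pair_45_31 : pairC 45 31 = true := by decide +kernel
theorem pair_45_32 : pairC 45 32 = true := by decide +kernel
theorem pair_45_33 : pairC 45 33 = true := by decide +kernel
theorem pair_45_34 : pairC 45 34 = true := by decide +kernel
theorem pair_45_35 : pairC 45 35 = true := by decide +kernel
theorem pair_45_36 : pairC 45 36 = true := by decide +kernel
theorem pair_45_37 : pairC 45 37 = true := by decide +kernel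
theorem pair_45_38 : pairC 45 38 = true := by decide +kernel
theorem pair_45_39 : pairC 45 39 = true := by decide +kernel
theorem pair_45_40 : pairC 45 40 = true := by decide +kernel
theorem pair_45_41 : pairC 45 41 = true := by decide +kernel
theorem pair_45_42 : pairC 45 42 = true := by decide +kernel
theorem pair_45_43 : pairC 45 43 = true := by decide +kernel
theorem pair_45_44 : pairC 45 44 = true := by decide +kernel
theorem pair_45_45 : pairC 45 45 = true := by decide +kernel
theorem pair_45_46 : pairC 45 46 = true := by decide +kernel
theorem pair_45_47 : pairC 45 47 = true := by decide +kernel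
theorem chunk_45_0 : chunkB 45 0 = true :=
  chunk_of pair_45_0 pair_45_1 pair_45_2 pair_45_3 pair_45_4 pair_45_5 pair_45_6 pair_45_7
theorem chunk_45_1 : chunkB 45 1 = true :=
  chunk_of pair_45_8 pair_45_9 pair_45_10 pair_45_11 pair_45_12 pair_45_13 pair_45_14 pair_45_15
theorem chunk_45_2 : chunkB 45 2 = true :=
  chunk_of pair_45_16 pair_45_17 pair_45_18 pair_45_19 pair_45_20 pair_45_21 pair_45_22 pair_45_23
theorem chunk_45_3 : chunkB 45 3 = true :=
  chunk_of pair_45_24 pair_45_25 pair_45_26 pair_45_27 pair_45_28 pair_45_29 pair_45_30 pair_45_31
theorem chunk_45_4 : chunkB 45 4 = true :=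
  chunk_of pair_45_32 pair_45_33 pair_45_34 pair_45_35 pair_45_36 pair_45_37 pair_45_38 pair_45_39
theorem chunk_45_5 : chunkB 45 5 = true :=
  chunk_of pair_45_40 pair_45_41 pair_45_42 pair_45_43 pair_45_44 pair_45_45 pair_45_46 pair_45_47

theorem head_46 : headB 46 = true := by decide +kernel
theorem pair_46_0 : pairC 46 0 = true := by decide +kernel
theorem pair_46_1 : pairC 46 1 = true := by decide +kernel
theorem pair_46_2 : pairC 46 2 = true := by decide +kernel
theorem pair_46_3 : pairC 46 3 = true := by decide +kernel
theorem pair_46_4 : pairC 46 4 = true := by decide +kernel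
theorem pair_46_5 : pairC 46 5 = true := by decide +kernel
theorem pair_46_6 : pairC 46 6 = true := by decide +kernel
theorem pair_46_7 : pairC 46 7 = true := by decide +kernel
theorem pair_46_8 : pairC 46 8 = true := by decide +kernel
theorem pair_46_9 : pairC 46 9 = true := by decide +kernel
theorem pair_46_10 : pairC 46 10 = true := by decide +kernel
theorem pair_46_11 : pairC 46 11 = true := by decide +kernel
theorem pair_46_12 : pairC 46 12 = true := by decide +kernel
theorem pair_46_13 : pairC 46 13 = true := by decide +kernel
theorem pair_46_14 : pairC 46 14 = true := by decide +kernel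
theorem pair_46_15 : pairC 46 15 = true := by decide +kernel
theorem pair_46_16 : pairC 46 16 = true := by decide +kernel
theorem pair_46_17 : pairC 46 17 = true := by decide +kernel
theorem pair_46_18 : pairC 46 18 = true := by decide +kernel
theorem pair_46_19 : pairC 46 19 = true := by decide +kernel
theorem pair_46_20 : pairC 46 20 = true := by decide +kernel
theorem pair_46_21 : pairC 46 21 = true := by decide +kernel
theorem pair_46_22 : pairC 46 22 = true := by decide +kernel
theorem pair_46_23 : pairC 46 23 = true := by decide +kernel
theorem pair_46_24 : pairC 46 24 = true := by decide +kernel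
theorem pair_46_25 : pairC 46 25 = true := by decide +kernel
theorem pair_46_26 : pairC 46 26 = true := by decide +kernel
theorem pair_46_27 : pairC 46 27 = true := by decide +kernel
theorem pair_46_28 : pairC 46 28 = true := by decide +kernel
theorem pair_46_29 : pairC 46 29 = true := by decide +kernel
theorem pair_46_30 : pairC 46 30 = true := by decide +kernel
theorem pair_46_31 : pairC 46 31 = true := by decide +kernel
theorem pair_46_32 : pairC 46 32 = true := by decide +kernel
theorem pair_46_33 : pairC 46 33 = true := by decide +kernel
theorem pair_46_34 : pairC 46 34 = true := by decide +kernel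
theorem pair_46_35 : pairC 46 35 = true := by decide +kernel
theorem pair_46_36 : pairC 46 36 = true := by decide +kernel
theorem pair_46_37 : pairC 46 37 = true := by decide +kernel
theorem pair_46_38 : pairC 46 38 = true := by decide +kernel
theorem pair_46_39 : pairC 46 39 = true := by decide +kernel
theorem pair_46_40 : pairC 46 40 = true := by decide +kernel
theorem pair_46_41 : pairC 46 41 = true := by decide +kernel
theorem pair_46_42 : pairC 46 42 = true := by decide +kernel
theorem pair_46_43 : pairC 46 43 = true := by decide +kernel
theorem pair_46_44 : pairC 46 44 = true := by decide +kernel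
theorem pair_46_45 : pairC 46 45 = true := by decide +kernel
theorem pair_46_46 : pairC 46 46 = true := by decide +kernel
theorem pair_46_47 : pairC 46 47 = true := by decide +kernel
theorem chunk_46_0 : chunkB 46 0 = true :=
  chunk_of pair_46_0 pair_46_1 pair_46_2 pair_46_3 pair_46_4 pair_46_5 pair_46_6 pair_46_7
theorem chunk_46_1 : chunkB 46 1 = true :=
  chunk_of pair_46_8 pair_46_9 pair_46_10 pair_46_11 pair_46_12 pair_46_13 pair_46_14 pair_46_15
theorem chunk_46_2 : chunkB 46 2 = true :=
  chunk_of pair_46_16 pair_46_17 pair_46_18 pair_46_19 pair_46_20 pair_46_21 pair_46_22 pair_46_23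
theorem chunk_46_3 : chunkB 46 3 = true :=
  chunk_of pair_46_24 pair_46_25 pair_46_26 pair_46_27 pair_46_28 pair_46_29 pair_46_30 pair_46_31
theorem chunk_46_4 : chunkB 46 4 = true :=
  chunk_of pair_46_32 pair_46_33 pair_46_34 pair_46_35 pair_46_36 pair_46_37 pair_46_38 pair_46_39
theorem chunk_46_5 : chunkB 46 5 = true :=
  chunk_of pair_46_40 pair_46_41 pair_46_42 pair_46_43 pair_46_44 pair_46_45 pair_46_46 pair_46_47

theorem head_47 : headB 47 = true := by decide +kernel
theorem pair_47_0 : pairC 47 0 = true := by decide +kernel
theorem pair_47_1 : pairC 47 1 = true := by decide +kernel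
theorem pair_47_2 : pairC 47 2 = true := by decide +kernel
theorem pair_47_3 : pairC 47 3 = true := by decide +kernel
theorem pair_47_4 : pairC 47 4 = true := by decide +kernel
theorem pair_47_5 : pairC 47 5 = true := by decide +kernel
theorem pair_47_6 : pairC 47 6 = true := by decide +kernel
theorem pair_47_7 : pairC 47 7 = true := by decide +kernel
theorem pair_47_8 : pairC 47 8 = true := by decide +kernel
theorem pair_47_9 : pairC 47 9 = true := by decide +kernel
theorem pair_47_10 : pairC 47 10 = true := by decide +kernel
theorem pair_47_11 : pairC 47 11 = true := by decide +kernel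
theorem pair_47_12 : pairC 47 12 = true := by decide +kernel
theorem pair_47_13 : pairC 47 13 = true := by decide +kernel
theorem pair_47_14 : pairC 47 14 = true := by decide +kernel
theorem pair_47_15 : pairC 47 15 = true := by decide +kernel
theorem pair_47_16 : pairC 47 16 = true := by decide +kernel
theorem pair_47_17 : pairC 47 17 = true := by decide +kernel
theorem pair_47_18 : pairC 47 18 = true := by decide +kernel
theorem pair_47_19 : pairC 47 19 = true := by decide +kernel
theorem pair_47_20 : pairC 47 20 = true := by decide +kernel
theorem pair_47_21 : pairC 47 21 = true := by decide +kernel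
theorem pair_47_22 : pairC 47 22 = true := by decide +kernel
theorem pair_47_23 : pairC 47 23 = true := by decide +kernel
theorem pair_47_24 : pairC 47 24 = true := by decide +kernel
theorem pair_47_25 : pairC 47 25 = true := by decide +kernel
theorem pair_47_26 : pairC 47 26 = true := by decide +kernel
theorem pair_47_27 : pairC 47 27 = true := by decide +kernel
theorem pair_47_28 : pairC 47 28 = true := by decide +kernel
theorem pair_47_29 : pairC 47 29 = true := by decide +kernel
theorem pair_47_30 : pairC 47 30 = true := by decide +kernel
theorem pair_47_31 : pairC 47 31 = true := by decide +kernel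
theorem pair_47_32 : pairC 47 32 = true := by decide +kernel
theorem pair_47_33 : pairC 47 33 = true := by decide +kernel
theorem pair_47_34 : pairC 47 34 = true := by decide +kernel
theorem pair_47_35 : pairC 47 35 = true := by decide +kernel
theorem pair_47_36 : pairC 47 36 = true := by decide +kernel
theorem pair_47_37 : pairC 47 37 = true := by decide +kernel
theorem pair_47_38 : pairC 47 38 = true := by decide +kernel
theorem pair_47_39 : pairC 47 39 = true := by decide +kernel
theorem pair_47_40 : pairC 47 40 = true := by decide +kernel
theorem pair_47_41 : pairC 47 41 = true := by decide +kernel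
theorem pair_47_42 : pairC 47 42 = true := by decide +kernel
theorem pair_47_43 : pairC 47 43 = true := by decide +kernel
theorem pair_47_44 : pairC 47 44 = true := by decide +kernel
theorem pair_47_45 : pairC 47 45 = true := by decide +kernel
theorem pair_47_46 : pairC 47 46 = true := by decide +kernel
theorem pair_47_47 : pairC 47 47 = true := by decide +kernel
theorem chunk_47_0 : chunkB 47 0 = true :=
  chunk_of pair_47_0 pair_47_1 pair_47_2 pair_47_3 pair_47_4 pair_47_5 pair_47_6 pair_47_7
theorem chunk_47_1 : chunkB 47 1 = true :=
  chunk_of pair_47_8 pair_47_9 pair_47_10 pair_47_11 pair_47_12 pair_47_13 pair_47_14 pair_47_15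
theorem chunk_47_2 : chunkB 47 2 = true :=
  chunk_of pair_47_16 pair_47_17 pair_47_18 pair_47_19 pair_47_20 pair_47_21 pair_47_22 pair_47_23
theorem chunk_47_3 : chunkB 47 3 = true :=
  chunk_of pair_47_24 pair_47_25 pair_47_26 pair_47_27 pair_47_28 pair_47_29 pair_47_30 pair_47_31
theorem chunk_47_4 : chunkB 47 4 = true :=
  chunk_of pair_47_32 pair_47_33 pair_47_34 pair_47_35 pair_47_36 pair_47_37 pair_47_38 pair_47_39
theorem chunk_47_5 : chunkB 47 5 = true :=
  chunk_of pair_47_40 pair_47_41 pair_47_42 pair_47_43 pair_47_44 pair_47_45 pair_47_46 pair_47_47

end Cfsg.Agent.F4TwoMult
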