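import Cfsg.Agent.F4TwoMult.RepCheck0
import Cfsg.Agent.F4TwoMult.RepCheck1
import Cfsg.Agent.F4TwoMult.RepCheck2
import Cfsg.Agent.F4TwoMult.RepCheck3
import Cfsg.Agent.F4TwoMult.RepCheck4
import Cfsg.Agent.F4TwoMult.RepCheck5
import Cfsg.Agent.F4TwoMult.RepCheck6
import Cfsg.Agent.F4TwoMult.RepCheck7

/-!
The relations of the representation.
-/

set_option autoImplicit false

namespace Cfsg.Agent.F4TwoMult

theorem root_all : ∀ r : ℕ, r < 48 → okR (matR r) = true ∧ sqB r = true ∧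
    ∀ b < 48, (Nat.beq b r || Nat.beq b (negTab.getD r 0) || relB r b) = true
  | 0, _ => rootSpec_of head_0 chunk_0_0 chunk_0_1 chunk_0_2 chunk_0_3 chunk_0_4 chunk_0_5
  | 1, _ => rootSpec_of head_1 chunk_1_0 chunk_1_1 chunk_1_2 chunk_1_3 chunk_1_4 chunk_1_5
  | 2, _ => rootSpec_of head_2 chunk_2_0 chunk_2_1 chunk_2_2 chunk_2_3 chunk_2_4 chunk_2_5
  | 3, _ => rootSpec_of head_3 chunk_3_0 chunk_3_1 chunk_3_2 chunk_3_3 chunk_3_4 chunk_3_5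
  | 4, _ => rootSpec_of head_4 chunk_4_0 chunk_4_1 chunk_4_2 chunk_4_3 chunk_4_4 chunk_4_5
  | 5, _ => rootSpec_of head_5 chunk_5_0 chunk_5_1 chunk_5_2 chunk_5_3 chunk_5_4 chunk_5_5
  | 6, _ => rootSpec_of head_6 chunk_6_0 chunk_6_1 chunk_6_2 chunk_6_3 chunk_6_4 chunk_6_5
  | 7, _ => rootSpec_of head_7 chunk_7_0 chunk_7_1 chunk_7_2 chunk_7_3 chunk_7_4 chunk_7_5
  | 8, _ => rootSpec_of head_8 chunk_8_0 chunk_8_1 chunk_8_2 chunk_8_3 chunk_8_4 chunk_8_5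
  | 9, _ => rootSpec_of head_9 chunk_9_0 chunk_9_1 chunk_9_2 chunk_9_3 chunk_9_4 chunk_9_5
  | 10, _ => rootSpec_of head_10 chunk_10_0 chunk_10_1 chunk_10_2 chunk_10_3 chunk_10_4 chunk_10_5
  | 11, _ => rootSpec_of head_11 chunk_11_0 chunk_11_1 chunk_11_2 chunk_11_3 chunk_11_4 chunk_11_5
  | 12, _ => rootSpec_of head_12 chunk_12_0 chunk_12_1 chunk_12_2 chunk_12_3 chunk_12_4 chunk_12_5
  | 13, _ => rootSpec_of head_13 chunk_13_0 chunk_13_1 chunk_13_2 chunk_13_3 chunk_13_4 chunk_13_5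
  | 14, _ => rootSpec_of head_14 chunk_14_0 chunk_14_1 chunk_14_2 chunk_14_3 chunk_14_4 chunk_14_5
  | 15, _ => rootSpec_of head_15 chunk_15_0 chunk_15_1 chunk_15_2 chunk_15_3 chunk_15_4 chunk_15_5
  | 16, _ => rootSpec_of head_16 chunk_16_0 chunk_16_1 chunk_16_2 chunk_16_3 chunk_16_4 chunk_16_5
  | 17, _ => rootSpec_of head_17 chunk_17_0 chunk_17_1 chunk_17_2 chunk_17_3 chunk_17_4 chunk_17_5
  | 18, _ => rootSpec_of head_18 chunk_18_0 chunk_18_1 chunk_18_2 chunk_18_3 chunk_18_4 chunk_18_5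
  | 19, _ => rootSpec_of head_19 chunk_19_0 chunk_19_1 chunk_19_2 chunk_19_3 chunk_19_4 chunk_19_5
  | 20, _ => rootSpec_of head_20 chunk_20_0 chunk_20_1 chunk_20_2 chunk_20_3 chunk_20_4 chunk_20_5
  | 21, _ => rootSpec_of head_21 chunk_21_0 chunk_21_1 chunk_21_2 chunk_21_3 chunk_21_4 chunk_21_5
  | 22, _ => rootSpec_of head_22 chunk_22_0 chunk_22_1 chunk_22_2 chunk_22_3 chunk_22_4 chunk_22_5
  | 23, _ => rootSpec_of head_23 chunk_23_0 chunk_23_1 chunk_23_2 chunk_23_3 chunk_23_4 chunk_23_5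
  | 24, _ => rootSpec_of head_24 chunk_24_0 chunk_24_1 chunk_24_2 chunk_24_3 chunk_24_4 chunk_24_5
  | 25, _ => rootSpec_of head_25 chunk_25_0 chunk_25_1 chunk_25_2 chunk_25_3 chunk_25_4 chunk_25_5
  | 26, _ => rootSpec_of head_26 chunk_26_0 chunk_26_1 chunk_26_2 chunk_26_3 chunk_26_4 chunk_26_5
  | 27, _ => rootSpec_of head_27 chunk_27_0 chunk_27_1 chunk_27_2 chunk_27_3 chunk_27_4 chunk_27_5
  | 28, _ => rootSpec_of head_28 chunk_28_0 chunk_28_1 chunk_28_2 chunk_28_3 chunk_28_4 chunk_28_5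
  | 29, _ => rootSpec_of head_29 chunk_29_0 chunk_29_1 chunk_29_2 chunk_29_3 chunk_29_4 chunk_29_5
  | 30, _ => rootSpec_of head_30 chunk_30_0 chunk_30_1 chunk_30_2 chunk_30_3 chunk_30_4 chunk_30_5
  | 31, _ => rootSpec_of head_31 chunk_31_0 chunk_31_1 chunk_31_2 chunk_31_3 chunk_31_4 chunk_31_5
  | 32, _ => rootSpec_of head_32 chunk_32_0 chunk_32_1 chunk_32_2 chunk_32_3 chunk_32_4 chunk_32_5
  | 33, _ => rootSpec_of head_33 chunk_33_0 chunk_33_1 chunk_33_2 chunk_33_3 chunk_33_4 chunk_33_5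
  | 34, _ => rootSpec_of head_34 chunk_34_0 chunk_34_1 chunk_34_2 chunk_34_3 chunk_34_4 chunk_34_5
  | 35, _ => rootSpec_of head_35 chunk_35_0 chunk_35_1 chunk_35_2 chunk_35_3 chunk_35_4 chunk_35_5
  | 36, _ => rootSpec_of head_36 chunk_36_0 chunk_36_1 chunk_36_2 chunk_36_3 chunk_36_4 chunk_36_5
  | 37, _ => rootSpec_of head_37 chunk_37_0 chunk_37_1 chunk_37_2 chunk_37_3 chunk_37_4 chunk_37_5
  | 38, _ => rootSpec_of head_38 chunk_38_0 chunk_38_1 chunk_38_2 chunk_38_3 chunk_38_4 chunk_38_5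
  | 39, _ => rootSpec_of head_39 chunk_39_0 chunk_39_1 chunk_39_2 chunk_39_3 chunk_39_4 chunk_39_5
  | 40, _ => rootSpec_of head_40 chunk_40_0 chunk_40_1 chunk_40_2 chunk_40_3 chunk_40_4 chunk_40_5
  | 41, _ => rootSpec_of head_41 chunk_41_0 chunk_41_1 chunk_41_2 chunk_41_3 chunk_41_4 chunk_41_5
  | 42, _ => rootSpec_of head_42 chunk_42_0 chunk_42_1 chunk_42_2 chunk_42_3 chunk_42_4 chunk_42_5
  | 43, _ => rootSpec_of head_43 chunk_43_0 chunk_43_1 chunk_43_2 chunk_43_3 chunk_43_4 chunk_43_5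
  | 44, _ => rootSpec_of head_44 chunk_44_0 chunk_44_1 chunk_44_2 chunk_44_3 chunk_44_4 chunk_44_5
  | 45, _ => rootSpec_of head_45 chunk_45_0 chunk_45_1 chunk_45_2 chunk_45_3 chunk_45_4 chunk_45_5
  | 46, _ => rootSpec_of head_46 chunk_46_0 chunk_46_1 chunk_46_2 chunk_46_3 chunk_46_4 chunk_46_5
  | 47, _ => rootSpec_of head_47 chunk_47_0 chunk_47_1 chunk_47_2 chunk_47_3 chunk_47_4 chunk_47_5
  | _ + 48, h => by omega

end Cfsg.Agent.F4TwoMult
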