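import Cfsg.Agent.F4TwoMult.Base
import Cfsg.Agent.F4TwoMult.RepAll

/-!
Rational matrices of degree 52 satisfying the commutator parities of type F4 up to sign.
-/

set_option autoImplicit false

namespace Cfsg.Agent.F4TwoMult

open scoped MatrixGroups

/-- The integer matrix of a root. -/
def tI (r : ℕ) : Matrix (Fin 52) (Fin 52) ℤ := toM (matR r)

/-- The rational matrix of a root. -/
def mQ (r : ℕ) : Matrix (Fin 52) (Fin 52) ℚ :=
  (1 / 16 : ℚ) • (Int.castRingHom ℚ).mapMatrix (tI r)

theorem ok_root {r : ℕ} (hr : r < 48) : okR (matR r) = true ∧ sqB r = true ∧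
    ∀ b < 48, pairB r b = true → relB r b = true := by
  obtain ⟨h1, h2, h3⟩ := root_all r hr
  refine ⟨h1, h2, fun b hb hp => ?_⟩
  simp only [pairB, Bool.and_eq_true, Bool.not_eq_true'] at hp
  have h3' := h3 b hb
  simp only [Bool.or_eq_true] at h3'
  rcases h3' with (h' | h') | h'
  · rw [hp.1] at h'; exact absurd h' Bool.false_ne_true
  · rw [hp.2] at h'; exact absurd h' Bool.false_ne_true
  · exact h'

theorem okR_oneR : okR oneR = true := by decide +kernel

theorem toM_oneR : toM oneR = 1 := by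
  ext i j
  rw [toM, Matrix.of_apply, oneR, List.getD_eq_getElem?_getD, List.getElem?_map,
    List.getElem?_range i.isLt]
  simp [Matrix.one_apply, Fin.ext_iff]

theorem tI_sq {r : ℕ} (hr : r < 48) : tI r * tI r = (256 : ℕ) • (1 : Matrix (Fin 52) (Fin 52) ℤ) := by
  obtain ⟨h, h2, -⟩ := ok_root hr
  rw [← toM_oneR, ← Nat.cast_smul_eq_nsmul ℤ]
  exact eq_of_eqP (reps_mul h (reps_pack h)) (reps_smul 256 (reps_pack okR_oneR))
    ((rowLe_toM h).mul (rowLe_toM h) (by norm_num)) ((rowLe_toM okR_oneR).smul 256) (by norm_num) h2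

theorem mQ_sq {r : ℕ} (hr : r < 48) : mQ r * mQ r = 1 := by
  rw [mQ, smul_mul_smul_comm, ← map_mul, tI_sq hr, map_nsmul, map_one,
    ← Nat.cast_smul_eq_nsmul ℚ, smul_smul]
  norm_num

theorem rel_spec (ε : ℤ) (cmp : List ℕ → List ℕ → Bool)
    (hc : ∀ {A B : Matrix (Fin 52) (Fin 52) ℤ} {P Q : List ℕ} {a b : ℤ}, Reps A P → Reps B Q →
      RowLe A a → RowLe B b → a + b < 2 ^ 40 → cmp P Q = true → A = ε • B)
    {a b : ℕ} (ha : a < 48) (hb : b < 48) (h : relC cmp a b = true) :
    mQ a * mQ b = (ε : ℚ) • (((wR a b).map mQ).prod * mQ b * mQ a) := by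
  have oa := (ok_root ha).1
  have ob := (ok_root hb).1
  have hP := reps_mul oa (reps_pack ob)
  have hQ := reps_mul ob (reps_pack oa)
  have hPb := (rowLe_toM oa).mul (rowLe_toM ob) (by norm_num)
  have hQb := (rowLe_toM ob).mul (rowLe_toM oa) (by norm_num)
  have hlt := (tab_spec ha hb).2.2.1
  unfold relC at h
  generalize wR a b = w at h hlt
  match w, h, hlt with
  | [], h, _ =>
    have e := congrArg (Int.castRingHom ℚ).mapMatrix (hc hP hQ hPb hQb (by norm_num) h)
    rw [map_mul, map_zsmul, map_mul, ← Int.cast_smul_eq_zsmul ℚ] at e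
    simp only [mQ, tI, List.map_nil, List.prod_nil, one_mul, smul_mul_assoc, mul_smul_comm,
      smul_smul, e]
    congr 1
    ring
  | [u], h, hlt =>
    have ou := (ok_root (hlt u List.mem_cons_self)).1
    have e := congrArg (Int.castRingHom ℚ).mapMatrix (hc (reps_smul 16 hP) (reps_mul ou hQ)
      (hPb.smul 16) ((rowLe_toM ou).mul hQb (by norm_num)) (by norm_num) h)
    simp only [map_mul, map_zsmul, ← Int.cast_smul_eq_zsmul ℚ] at e
    simp only [mQ, tI, List.map_cons, List.map_nil, List.prod_cons, List.prod_nil, mul_one,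
      smul_mul_assoc, mul_smul_comm, smul_smul, mul_assoc]
    rw [show (1 / 16 : ℚ) * (1 / 16) = 1 / 16 * (1 / 16) * (1 / 16) * ((16 : ℕ) : ℤ) by norm_num,
      ← smul_smul, e, smul_smul]
    congr 1
    ring
  | [u, v], h, hlt =>
    have ou := (ok_root (hlt u List.mem_cons_self)).1
    have ov := (ok_root (hlt v (List.mem_cons_of_mem _ List.mem_cons_self))).1
    have hv := (rowLe_toM ov).mul hQb (by norm_num)
    have e := congrArg (Int.castRingHom ℚ).mapMatrix (hc (reps_smul 256 hP)
      (reps_mul ou (reps_mul ov hQ)) (hPb.smul 256) ((rowLe_toM ou).mul hv (by norm_num))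
      (by norm_num) h)
    simp only [map_mul, map_zsmul, ← Int.cast_smul_eq_zsmul ℚ] at e
    simp only [mQ, tI, List.map_cons, List.map_nil, List.prod_cons, List.prod_nil, mul_one,
      smul_mul_assoc, mul_smul_comm, smul_smul, mul_assoc]
    rw [show (1 / 16 : ℚ) * (1 / 16) =
        1 / 16 * (1 / 16) * (1 / 16) * (1 / 16) * ((256 : ℕ) : ℤ) by norm_num,
      ← smul_smul, e, smul_smul]
    congr 1
    ring
  | _ :: _ :: _ :: _, h, _ => exact absurd h Bool.false_ne_true

theorem rel_eqP {a b : ℕ} (ha : a < 48) (hb : b < 48) (h : relC eqP a b = true) :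
    mQ a * mQ b = ((wR a b).map mQ).prod * mQ b * mQ a := by
  have := rel_spec 1 eqP (fun hA hB ha hb hab h => by rw [one_smul]; exact eq_of_eqP hA hB ha hb hab h)
    ha hb h
  rwa [Int.cast_one, one_smul] at this

theorem rel_oppP {a b : ℕ} (ha : a < 48) (hb : b < 48) (h : relC oppP a b = true) :
    mQ a * mQ b = -(((wR a b).map mQ).prod * mQ b * mQ a) := by
  have := rel_spec (-1) oppP
    (fun hA hB ha hb hab h => by rw [neg_one_smul]; exact eq_of_oppP hA hB ha hb hab h) ha hb h
  rwa [Int.cast_neg, Int.cast_one, neg_one_smul] at this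

theorem relB_cases {a b : ℕ} (h : relB a b = true) :
    relC eqP a b = true ∨ relC oppP a b = true := by
  revert h
  unfold relB relC
  dsimp only
  split <;> simp

/-- The matrix of a root as a unit. -/
def uM (r : ℕ) : GL (Fin 52) ℚ :=
  if h : r < 48 then ⟨mQ r, mQ r, mQ_sq h, mQ_sq h⟩ else 1

theorem uM_val {r : ℕ} (hr : r < 48) : (uM r : Matrix (Fin 52) (Fin 52) ℚ) = mQ r := by
  rw [uM, dif_pos hr]

theorem uM_sq {r : ℕ} (hr : r < 48) : uM r * uM r = 1 :=
  Units.ext (by rw [Units.val_mul, uM_val hr, mQ_sq hr]; rfl)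

theorem uM_word {a b : ℕ} (ha : a < 48) (hb : b < 48) :
    ((((wR a b).map uM).prod : GL (Fin 52) ℚ) : Matrix (Fin 52) (Fin 52) ℚ) =
      ((wR a b).map mQ).prod := by
  rw [← Units.coeHom_apply, map_list_prod, List.map_map]
  exact congrArg List.prod (List.map_congr_left fun k hk => uM_val ((tab_spec ha hb).2.2.1 k hk))

theorem uM_of_rel {a b : ℕ} (ha : a < 48) (hb : b < 48) {e : GL (Fin 52) ℚ}
    (h : uM a * uM b = e * ((wR a b).map uM).prod * uM b * uM a) :
    uM a * uM b * uM a * uM b = e * ((wR a b).map uM).prod := by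
  rw [h, mul_assoc _ (uM a) (uM a), uM_sq ha, mul_one, mul_assoc _ (uM b) (uM b), uM_sq hb, mul_one]

theorem uM_plus {a b : ℕ} (ha : a < 48) (hb : b < 48) (h : relC eqP a b = true) :
    uM a * uM b * uM a * uM b = ((wR a b).map uM).prod := by
  rw [uM_of_rel ha hb (e := 1), one_mul]
  exact Units.ext (by simp only [one_mul, Units.val_mul, uM_val ha, uM_val hb, uM_word ha hb,
    rel_eqP ha hb h])

theorem uM_minus {a b : ℕ} (ha : a < 48) (hb : b < 48) (h : relC oppP a b = true) :
    uM a * uM b * uM a * uM b = -1 * ((wR a b).map uM).prod := by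
  rw [uM_of_rel ha hb (e := -1)]
  exact Units.ext (by simp only [Units.val_mul, Units.val_neg, Units.val_one, uM_val ha, uM_val hb,
    uM_word ha hb, rel_oppP ha hb h, neg_mul, one_mul])

theorem uM_rel {a b : ℕ} (ha : a < 48) (hb : b < 48) (hp : pairB a b = true) :
    uM a * uM b * uM a * uM b = ((wR a b).map uM).prod ∨
      uM a * uM b * uM a * uM b = -1 * ((wR a b).map uM).prod :=
  (relB_cases ((ok_root ha).2.2 b hb hp)).imp (uM_plus ha hb) (uM_minus ha hb)

set_option Elab.async false in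
set_option maxRecDepth 100000 in
/-- Pairs whose signs show that the centre lies in the derived group. -/
theorem witness_ok : relC oppP 1 32 = true ∧ relC eqP 0 29 = true ∧ relC eqP 7 14 = true := by
  refine ⟨?_, ?_, ?_⟩ <;> decide +kernel

end Cfsg.Agent.F4TwoMult
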