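import Cfsg.Agent.F4TwoMult.Upper
import Cfsg.Agent.F4TwoMult.RepSpec

/-!
The Schur multiplier of F4(2) is cyclic of order two.
-/

set_option autoImplicit false

namespace Cfsg.Agent.F4TwoMult

open Cfsg.Lie Cfsg.Agent.Chev Cfsg.Agent.ChevExt
open scoped MatrixGroups commutatorElement

universe u v

variable {F : Type u} [Field F] [Fintype F]

/-- A root element in the group. -/
noncomputable def gX (r : ℕ) : ↥(chevF4.group F) :=
  ⟨xG facts_chevF4.{u} r 1, xG_mem_group facts_chevF4.{u} r 1⟩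

theorem closure_gX (hF : Fintype.card F = 2) :
    Subgroup.closure {g : GL chevF4.Idx F | ∃ r < 48, g = xG facts_chevF4.{u} r 1} = chevF4.group F := by
  refine le_antisymm ((Subgroup.closure_le _).2 ?_) ((Subgroup.closure_le _).2 ?_)
  · rintro g ⟨r, -, rfl⟩
    exact xG_mem_group _ r 1
  · rintro g ⟨r, t, e⟩
    have hg : g = xG facts_chevF4.{u} r t :=
      Units.ext (by rw [e, xG_val, ChevalleyDatum.x, dif_pos r.2])
    rcases two_cases hF t with rfl | rfl
    · rw [hg, xG_zero]; exact Subgroup.one_mem _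
    · exact Subgroup.subset_closure ⟨r, lt_of_lt_of_eq r.2 nroots_eq, hg⟩

/-- The kernel of a stem extension is spanned by one involution. -/
theorem upper (hF : Fintype.card F = 2) {Γ : Type v} [Group Γ] (σ : Γ →* ↥(chevF4.group F))
    (hσ : Cfsg.IsStemExtension σ) :
    ∃ z ∈ σ.ker, σ.ker ≤ Subgroup.zpowers z ∧ z ^ 2 = 1 := by
  obtain ⟨A, hA⟩ : ∃ A : CExt facts_chevF4.{u} F Γ, A = ofHom facts_chevF4.{u} σ hσ.1 hσ.2.1 := ⟨_, rfl⟩
  have hk : ∀ g, A.θ g = 1 ↔ σ g = 1 := fun g => by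
    rw [hA]
    exact OneMemClass.coe_eq_one
  have hz := θ_zeta A hF
  refine ⟨zeta A, (hk _).1 hz, ?_, by rw [pow_two, zeta_sq A hF]⟩
  let N := Subgroup.zpowers (zeta A)
  haveI : N.Normal := ⟨fun n hn g => by
    obtain ⟨j, rfl⟩ := hn
    rw [((zeta_comm A hF g).zpow_right j).eq, mul_inv_cancel_right]
    exact ⟨j, rfl⟩⟩
  have hN : N ≤ A.θ.ker := Subgroup.zpowers_le.2 hz
  let θQ : Γ ⧸ N →* GL chevF4.Idx F := QuotientGroup.lift N A.θ hN
  let Hs : Subgroup (Γ ⧸ N) := Subgroup.closure {g | ∃ r < 48, g = QuotientGroup.mk (X A r)}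
  have hmem : ∀ r, r < 48 → (QuotientGroup.mk (X A r) : Γ ⧸ N) ∈ Hs :=
    fun r hr => Subgroup.subset_closure ⟨r, hr, rfl⟩
  classical
  let x : ℕ → ↥Hs := fun r => if hr : r < 48 then ⟨QuotientGroup.mk (X A r), hmem r hr⟩ else 1
  have xv : ∀ r, r < 48 → (x r : Γ ⧸ N) = QuotientGroup.mk (X A r) := fun r hr => by
    simp only [x, dif_pos hr]
  have hinj : (θQ.comp Hs.subtype).ker = ⊥ := by
    refine inj_of_rels hF _ x (fun r hr => ?_) (fun r hr => Subtype.ext ?_)
      (fun a b ha hb hp => Subtype.ext ?_) ?_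
    · show θQ (x r) = _
      rw [xv r hr]
      exact θ_X A hF hr
    · rw [Subgroup.coe_mul, xv r hr, ← QuotientGroup.mk_mul, X_sq A hF hr]; rfl
    · rw [Subgroup.coe_mul, Subgroup.coe_mul, Subgroup.coe_mul, xv a ha, xv b hb,
        rels_mod A hF N (Subgroup.mem_zpowers _) ha hb hp, ← Subgroup.coe_subtype, map_list_prod,
        List.map_map]
      exact congrArg List.prod
        (List.map_congr_left fun k hk => (xv k ((tab_spec ha hb).2.2.1 k hk)).symm)
    · rw [eq_top_iff, ← Subgroup.map_subtype_le_map_subtype, ← MonoidHom.range_eq_map,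
        Subgroup.range_subtype, MonoidHom.map_closure]
      refine Subgroup.closure_mono ?_
      rintro g ⟨r, hr, rfl⟩
      exact ⟨x r, ⟨r, hr, rfl⟩, xv r hr⟩
  have hS : commutator Γ ≤ Hs.comap (QuotientGroup.mk' N) := by
    have cover : ∀ g, ∃ y ∈ Hs.comap (QuotientGroup.mk' N), A.θ y = A.θ g := fun g => by
      have hle : chevF4.group F ≤ (Hs.comap (QuotientGroup.mk' N)).map A.θ := by
        rw [← closure_gX hF]
        refine (Subgroup.closure_le _).2 ?_
        rintro _ ⟨r, hr, rfl⟩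
        exact ⟨X A r, hmem r hr, θ_X A hF hr⟩
      have hg : A.θ g ∈ chevF4.group F := by rw [hA]; exact (σ g).2
      obtain ⟨y, hy, e⟩ := hle hg
      exact ⟨y, hy, e⟩
    rw [commutator_def, Subgroup.commutator_le]
    intro a _ b _
    obtain ⟨p, hp, ep⟩ := cover a
    obtain ⟨q, hq, eq'⟩ := cover b
    rw [A.br_indep ep.symm eq'.symm, commutatorElement_def]
    exact Subgroup.mul_mem _ (Subgroup.mul_mem _ (Subgroup.mul_mem _ hp hq) (Subgroup.inv_mem _ hp))
      (Subgroup.inv_mem _ hq)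
  intro g hg
  have h1 : (⟨QuotientGroup.mk g, hS (hσ.2.2 hg)⟩ : ↥Hs) ∈ (θQ.comp Hs.subtype).ker :=
    (hk g).2 hg
  rw [hinj, Subgroup.mem_bot] at h1
  exact (QuotientGroup.eq_one_iff g).1 (congrArg Subtype.val h1)

/-- The generators of the double cover. -/
noncomputable def gE (r : ℕ) : ↥(chevF4.group F) × GL (Fin 52) ℚ := (gX r, uM r)

/-- The central involution of the double cover. -/
noncomputable def zE : ↥(chevF4.group F) × GL (Fin 52) ℚ := (1, -1)

/-- The double cover. -/
noncomputable def cover (F : Type u) [Field F] [Fintype F] :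
    Subgroup (↥(chevF4.group F) × GL (Fin 52) ℚ) :=
  Subgroup.closure ({g | ∃ r < 48, g = gE r} ∪ {zE})

/-- The projection of the double cover. -/
noncomputable def proj : ↥(cover F) →* ↥(chevF4.group F) :=
  (MonoidHom.fst _ _).comp (cover F).subtype

theorem gE_mem {r : ℕ} (hr : r < 48) : gE r ∈ cover F :=
  Subgroup.subset_closure (Or.inl ⟨r, hr, rfl⟩)

theorem zE_mem : zE ∈ cover F := Subgroup.subset_closure (Or.inr rfl)

theorem zE_comm (g : ↥(chevF4.group F) × GL (Fin 52) ℚ) : Commute g zE :=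
  Prod.ext (by simp [zE]) (by simp [zE])

theorem zE_sq : zE * zE = (1 : ↥(chevF4.group F) × GL (Fin 52) ℚ) :=
  Prod.ext (by simp [zE]) (by simp [zE])

theorem gX_word (hF : Fintype.card F = 2) {a b : ℕ} (ha : a < 48) (hb : b < 48)
    (hp : pairB a b = true) :
    gX (F := F) a * gX b * gX a * gX b = ((wR a b).map gX).prod := by
  refine Subtype.ext ?_
  rw [Subgroup.coe_mul, Subgroup.coe_mul, Subgroup.coe_mul, ← Subgroup.coe_subtype, map_list_prod,
    List.map_map]
  exact xG_br hF ha hb hp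

theorem gE_prod (w : List ℕ) :
    (w.map (gE (F := F))).prod = ((w.map gX).prod, (w.map uM).prod) := by
  refine Prod.ext ?_ ?_
  · rw [← MonoidHom.coe_fst, map_list_prod, List.map_map]; rfl
  · rw [← MonoidHom.coe_snd, map_list_prod, List.map_map]; rfl

theorem gE_rel (hF : Fintype.card F = 2) {a b : ℕ} (ha : a < 48) (hb : b < 48)
    (hp : pairB a b = true) :
    gE (F := F) a * gE b * gE a * gE b = ((wR a b).map gE).prod ∨
      gE (F := F) a * gE b * gE a * gE b = zE * ((wR a b).map gE).prod := by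
  rw [gE_prod]
  refine (uM_rel ha hb hp).imp (fun h => Prod.ext ?_ ?_) (fun h => Prod.ext ?_ ?_)
  · exact gX_word hF ha hb hp
  · exact h
  · rw [Prod.fst_mul, zE]
    exact (gX_word hF ha hb hp).trans (one_mul _).symm
  · exact h

theorem gE_sq (hF : Fintype.card F = 2) {r : ℕ} (hr : r < 48) :
    gE (F := F) r * gE r = 1 :=
  Prod.ext (Subtype.ext (xG_sq hF r)) (uM_sq hr)

theorem ker_proj (hF : Fintype.card F = 2) :
    (proj (F := F)).ker = Subgroup.zpowers ⟨zE, zE_mem⟩ := by
  set z : ↥(cover F) := ⟨zE, zE_mem⟩ with hz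
  let N := Subgroup.zpowers z
  have hzc : ∀ g : ↥(cover F), Commute g z := fun g => Subtype.ext (zE_comm g.1).eq
  haveI : N.Normal := ⟨fun n hn g => by
    obtain ⟨j, rfl⟩ := hn
    rw [((hzc g).zpow_right j).eq, mul_inv_cancel_right]
    exact ⟨j, rfl⟩⟩
  have hN : N ≤ ((chevF4.group F).subtype.comp proj).ker := Subgroup.zpowers_le.2 rfl
  let θQ := QuotientGroup.lift N ((chevF4.group F).subtype.comp proj) hN
  classical
  let e : ℕ → ↥(cover F) := fun r => if hr : r < 48 then ⟨gE r, gE_mem hr⟩ else 1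
  have ev : ∀ r, r < 48 → (e r : ↥(chevF4.group F) × GL (Fin 52) ℚ) = gE r := fun r hr => by
    simp only [e, dif_pos hr]
  have hinj : θQ.ker = ⊥ := by
    refine inj_of_rels hF θQ (fun r => QuotientGroup.mk (e r)) (fun r hr => ?_) (fun r hr => ?_)
      (fun a b ha hb hp => ?_) ?_
    · show ((e r : ↥(chevF4.group F) × GL (Fin 52) ℚ).1 : GL chevF4.Idx F) = _
      rw [ev r hr]; rfl
    · rw [← QuotientGroup.mk_mul,
        show e r * e r = 1 from Subtype.ext (by rw [Subgroup.coe_mul, ev r hr, gE_sq hF hr]; rfl)]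
      rfl
    · have hw : (((wR a b).map e).prod : ↥(chevF4.group F) × GL (Fin 52) ℚ) =
          ((wR a b).map gE).prod := by
        rw [← Subgroup.coe_subtype, map_list_prod, List.map_map]
        exact congrArg List.prod
          (List.map_congr_left fun k hk => ev k ((tab_spec ha hb).2.2.1 k hk))
      rw [show ((wR a b).map fun r => (QuotientGroup.mk (e r) : ↥(cover F) ⧸ N)) =
          ((wR a b).map e).map (QuotientGroup.mk' N) by rw [List.map_map]; rfl, ← map_list_prod,
        ← QuotientGroup.mk_mul, ← QuotientGroup.mk_mul, ← QuotientGroup.mk_mul]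
      rcases gE_rel hF ha hb hp with h | h
      · refine congrArg _ (Subtype.ext ?_)
        rw [hw, ← h]; simp only [Subgroup.coe_mul, ev a ha, ev b hb]
      · rw [show e a * e b * e a * e b = z * ((wR a b).map e).prod from Subtype.ext (by
          rw [Subgroup.coe_mul _ z, hw]; simp only [Subgroup.coe_mul, ev a ha, ev b hb, h, hz]),
          QuotientGroup.mk_mul, (QuotientGroup.eq_one_iff z).2 (Subgroup.mem_zpowers z), one_mul]
        rfl
    · rw [eq_top_iff, ← Subgroup.map_top_of_surjective _ (QuotientGroup.mk'_surjective N)]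
      have htop : (⊤ : Subgroup ↥(cover F)) = Subgroup.closure ({g | ∃ r < 48, g = e r} ∪ {z}) := by
        refine (Subgroup.map_injective (cover F).subtype_injective ?_).symm
        rw [← MonoidHom.range_eq_map, Subgroup.range_subtype, MonoidHom.map_closure]
        show _ = Subgroup.closure _
        congr 1
        ext g
        constructor
        · rintro ⟨y, ⟨r, hr, rfl⟩ | rfl, rfl⟩
          · exact Or.inl ⟨r, hr, ev r hr⟩
          · exact Or.inr rfl
        · rintro (⟨r, hr, rfl⟩ | rfl)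
          · exact ⟨e r, Or.inl ⟨r, hr, rfl⟩, ev r hr⟩
          · exact ⟨z, Or.inr rfl, rfl⟩
      rw [htop, MonoidHom.map_closure, Subgroup.closure_le]
      rintro _ ⟨y, ⟨r, hr, rfl⟩ | rfl, rfl⟩
      · exact Subgroup.subset_closure ⟨r, hr, rfl⟩
      · show (QuotientGroup.mk z : ↥(cover F) ⧸ N) ∈ _
        rw [(QuotientGroup.eq_one_iff z).2 (Subgroup.mem_zpowers z)]
        exact Subgroup.one_mem _
  refine le_antisymm (fun g hg => ?_) (Subgroup.zpowers_le.2 rfl)
  have h1 : (QuotientGroup.mk g : ↥(cover F) ⧸ N) ∈ θQ.ker := by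
    rw [MonoidHom.mem_ker] at hg ⊢
    show (chevF4.group F).subtype (proj g) = 1
    rw [hg]; rfl
  rw [hinj, Subgroup.mem_bot] at h1
  exact (QuotientGroup.eq_one_iff g).1 h1

theorem proj_surj (hF : Fintype.card F = 2) : Function.Surjective (proj (F := F)) := by
  have h : chevF4.group F ≤ ((chevF4.group F).subtype.comp (proj (F := F))).range := by
    conv_lhs => rw [← closure_gX hF]
    rw [Subgroup.closure_le]
    rintro _ ⟨r, hr, rfl⟩
    exact ⟨⟨gE r, gE_mem hr⟩, rfl⟩
  intro g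
  obtain ⟨y, hy⟩ := h g.2
  exact ⟨y, Subtype.ext hy⟩

theorem z_mem_commutator (hF : Fintype.card F = 2) :
    (⟨zE, zE_mem⟩ : ↥(cover F)) ∈ commutator ↥(cover F) := by
  have key : ∀ a b : ℕ, ∀ ha : a < 48, ∀ hb : b < 48,
      (⟨gE a * gE b * gE a * gE b, mul_mem (mul_mem (mul_mem (gE_mem ha) (gE_mem hb)) (gE_mem ha))
        (gE_mem hb)⟩ : ↥(cover F)) ∈ commutator ↥(cover F) := fun a b ha hb => by
    have h := Subgroup.commutator_mem_commutator (H₁ := (⊤ : Subgroup ↥(cover F))) (H₂ := ⊤)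
      (g₁ := ⟨gE a, gE_mem ha⟩) (g₂ := ⟨gE b, gE_mem hb⟩) trivial trivial
    rw [← commutator_def] at h
    refine Eq.subst (motive := fun x => x ∈ commutator ↥(cover F)) (Subtype.ext ?_) h
    simp only [commutatorElement_def, Subgroup.coe_mul, Subgroup.coe_inv,
      inv_eq_of_mul_eq_one_left (gE_sq hF ha), inv_eq_of_mul_eq_one_left (gE_sq hF hb)]
  have h := mul_mem (mul_mem (key 0 29 (by norm_num) (by norm_num))
    (key 1 32 (by norm_num) (by norm_num))) (key 7 14 (by norm_num) (by norm_num))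
  refine Eq.subst (motive := fun x => x ∈ commutator ↥(cover F)) (Subtype.ext ?_) h
  obtain ⟨w1, w2, w3⟩ : wR 1 32 = [6] ∧ wR 0 29 = [3, 6] ∧ wR 7 14 = [3] := by decide +kernel
  obtain ⟨m1, m2, m3⟩ := witness_ok
  have g1 := gX_word (F := F) hF (a := 1) (b := 32) (by norm_num) (by norm_num) (by decide +kernel)
  have g2 := gX_word (F := F) hF (a := 0) (b := 29) (by norm_num) (by norm_num) (by decide +kernel)
  have g3 := gX_word (F := F) hF (a := 7) (b := 14) (by norm_num) (by norm_num) (by decide +kernel)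
  have u1 := uM_minus (a := 1) (b := 32) (by norm_num) (by norm_num) m1
  have u2 := uM_plus (a := 0) (b := 29) (by norm_num) (by norm_num) m2
  have u3 := uM_plus (a := 7) (b := 14) (by norm_num) (by norm_num) m3
  rw [w1] at g1 u1
  rw [w2] at g2 u2
  rw [w3] at g3 u3
  simp only [List.map_cons, List.map_nil, List.prod_cons, List.prod_nil, mul_one] at g1 g2 g3 u1 u2 u3
  have q6 : gX (F := F) 6 * gX 6 = 1 := Subtype.ext (xG_sq hF 6)
  have q3 : gX (F := F) 3 * gX 3 = 1 := Subtype.ext (xG_sq hF 3)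
  show gE 0 * gE 29 * gE 0 * gE 29 * (gE 1 * gE 32 * gE 1 * gE 32) *
    (gE 7 * gE 14 * gE 7 * gE 14) = zE
  refine Prod.ext ?_ ?_
  · simp only [Prod.fst_mul, gE, zE]
    rw [g1, g2, g3, mul_assoc (gX 3) (gX 6), q6, mul_one, q3]
  · simp only [Prod.snd_mul, gE, zE]
    rw [u1, u2, u3, show uM 3 * uM 6 * (-1 * uM 6) * uM 3 = -1 * (uM 3 * (uM 6 * uM 6) * uM 3) by
      rw [← mul_assoc (uM 3 * uM 6), (show Commute (uM 3 * uM 6) (-1) from Units.ext (by simp)).eq]
      simp only [mul_assoc], uM_sq (by norm_num), mul_one, uM_sq (by norm_num), mul_one]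

theorem proj_stem (hF : Fintype.card F = 2) : Cfsg.IsStemExtension (proj (F := F)) := by
  refine ⟨proj_surj hF, ?_, ?_⟩ <;> rw [ker_proj hF, Subgroup.zpowers_le]
  · exact Subgroup.mem_center_iff.2 fun g => Subtype.ext (zE_comm g.1).eq
  · exact z_mem_commutator hF

theorem orderOf_z : orderOf (⟨zE, zE_mem⟩ : ↥(cover F)) = 2 := by
  rw [orderOf_eq_prime_iff]
  refine ⟨Subtype.ext (by rw [pow_two]; exact zE_sq), fun h => ?_⟩
  have h2 : (-1 : GL (Fin 52) ℚ) = 1 := congrArg (fun x => (Subtype.val x).2) h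
  have h3 := congrArg (fun x : GL (Fin 52) ℚ => (x : Matrix (Fin 52) (Fin 52) ℚ) 0 0) h2
  simp only [Units.val_neg, Units.val_one, Matrix.neg_apply, Matrix.one_apply_eq] at h3
  norm_num at h3

theorem finite_cover (hF : Fintype.card F = 2) : Finite ↥(cover F) := by
  have hz : IsOfFinOrder (⟨zE, zE_mem⟩ : ↥(cover F)) :=
    orderOf_pos_iff.1 (by rw [orderOf_z]; norm_num)
  haveI : Finite ↥(proj (F := F)).ker := by rw [ker_proj hF]; exact hz.finite_zpowers
  haveI : Finite (↥(cover F) ⧸ (proj (F := F)).ker) :=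
    Finite.of_equiv _ (QuotientGroup.quotientKerEquivOfSurjective _ (proj_surj hF)).symm.toEquiv
  exact Finite.of_subgroup_quotient (proj (F := F)).ker

/-- The Schur multiplier of F4(2). -/
theorem multiplier (hF : Fintype.card F = 2) :
    Cfsg.HasCyclicSchurMultiplier ↥(chevF4.group F) 2 := by
  haveI := finite_cover hF
  refine ProjExt.Stem.hasCyclicSchurMultiplier_of proj (proj_stem hF) ?_ fun Γ _ _ σ hσ => upper hF σ hσ
  have hc : Nat.card ↥(proj (F := F)).ker = 2 := by
    rw [ker_proj hF, Nat.card_zpowers, orderOf_z]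
  haveI : Fact (Nat.Prime 2) := ⟨Nat.prime_two⟩
  exact mulEquivOfPrimeCardEq hc (Nat.card_zmod 2)

end Cfsg.Agent.F4TwoMult
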