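/-!
Sixteen times the matrices of the root elements in a representation of degree 52 of the double cover of F4(2).
-/

set_option autoImplicit false
set_option maxRecDepth 10000

namespace Cfsg.Agent.F4TwoMult

/-- The matrix of the root 0, times sixteen. -/
def mat0 : List (List (Nat × Int)) := [
  [(nat_lit 0, .negSucc (nat_lit 5)), (nat_lit 1, .ofNat (nat_lit 12)), (nat_lit 2, .ofNat (nat_lit 2)), (nat_lit 3, .negSucc (nat_lit 3)), (nat_lit 4, .ofNat (nat_lit 4)), (nat_lit 6, .ofNat (nat_lit 2)), (nat_lit 7, .ofNat (nat_lit 2)), (nat_lit 8, .negSucc (nat_lit 3)), (nat_lit 9, .negSucc (nat_lit 3)), (nat_lit 12, .ofNat (nat_lit 4)), (nat_lit 13, .ofNat (nat_lit 4)), (nat_lit 14, .ofNat (nat_lit 4)), (nat_lit 15, .ofNat (nat_lit 4)), (nat_lit 16, .ofNat (nat_lit 2)), (nat_lit 17, .ofNat (nat_lit 2)), (nat_lit 18, .negSucc (nat_lit 3)), (nat_lit 19, .negSucc (nat_lit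 3)), (nat_lit 22, .ofNat (nat_lit 4)), (nat_lit 23, .ofNat (nat_lit 4)), (nat_lit 24, .ofNat (nat_lit 4)), (nat_lit 25, .ofNat (nat_lit 4)), (nat_lit 26, .ofNat (nat_lit 2)), (nat_lit 27, .ofNat (nat_lit 2)), (nat_lit 28, .negSucc (nat_lit 3)), (nat_lit 29, .negSucc (nat_lit 3)), (nat_lit 32, .ofNat (nat_lit 4)), (nat_lit 33, .ofNat (nat_lit 4)), (nat_lit 34, .ofNat (nat_lit 4)), (nat_lit 35, .ofNat (nat_lit 4)), (nat_lit 36, .ofNat (nat_lit 4)), (nat_lit 37, .ofNat (nat_lit 4)), (nat_lit 38, .ofNat (nat_lit 4)), (nat_lit 39, .ofNat (nat_lit 4)), (nat_lit 40, .ofNat (nat_lit 4)), (nat_lit 41, .ofNat (nat_lit 4)), (nat_lit 42, .ofNat (nat_lit 4)), (nat_lit 43, .ofNat (nat_lit 4)), (nat_lit 44, .ofNat (nat_lit 4)), (nat_lit 45, .ofNat (nat_lit 4)), (nat_lit 46, .ofNat (nat_lit 4)), (nat_lit 47, .ofNat (nat_lit 4)), (nat_lit 48, .ofNat (nat_lit 4)), (nat_lit 49,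 .ofNat (nat_lit 4)), (nat_lit 50, .ofNat (nat_lit 4)), (nat_lit 51, .ofNat (nat_lit 4))],
  [(nat_lit 0, .ofNat (nat_lit 3)), (nat_lit 1, .negSucc (nat_lit 5)), (nat_lit 2, .negSucc (nat_lit 0)), (nat_lit 3, .ofNat (nat_lit 2)), (nat_lit 4, .ofNat (nat_lit 2)), (nat_lit 6, .negSucc (nat_lit 0)), (nat_lit 7, .negSucc (nat_lit 0)), (nat_lit 8, .ofNat (nat_lit 2)), (nat_lit 9, .ofNat (nat_lit 2)), (nat_lit 12, .ofNat (nat_lit 2)), (nat_lit 13, .ofNat (nat_lit 2)), (nat_lit 14, .ofNat (nat_lit 2)), (nat_lit 15, .ofNat (nat_lit 2)), (nat_lit 16, .negSucc (nat_lit 0)), (nat_lit 17, .negSucc (nat_lit 0)), (nat_lit 18, .ofNat (nat_lit 2)), (nat_lit 19, .ofNat (nat_lit 2)), (nat_lit 22, .ofNat (nat_lit 2)), (nat_lit 23, .ofNat (nat_lit 2)), (nat_lit 24, .ofNat (nat_lit 2)), (nat_lit 25, .ofNat (nat_lit 2)), (nat_lit 26, .negSucc (nat_lit 0)), (nat_lit 27, .negSucc (nat_lit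 0)), (nat_lit 28, .ofNat (nat_lit 2)), (nat_lit 29, .ofNat (nat_lit 2)), (nat_lit 32, .ofNat (nat_lit 2)), (nat_lit 33, .ofNat (nat_lit 2)), (nat_lit 34, .ofNat (nat_lit 2)), (nat_lit 35, .ofNat (nat_lit 2)), (nat_lit 36, .ofNat (nat_lit 2)), (nat_lit 37, .ofNat (nat_lit 2)), (nat_lit 38, .ofNat (nat_lit 2)), (nat_lit 39, .ofNat (nat_lit 2)), (nat_lit 40, .ofNat (nat_lit 2)), (nat_lit 41, .ofNat (nat_lit 2)), (nat_lit 42, .ofNat (nat_lit 2)), (nat_lit 43, .ofNat (nat_lit 2)), (nat_lit 44, .ofNat (nat_lit 2)), (nat_lit 45, .ofNat (nat_lit 2)), (nat_lit 46, .ofNat (nat_lit 2)), (nat_lit 47, .ofNat (nat_lit 2)), (nat_lit 48, .ofNat (nat_lit 2)), (nat_lit 49, .ofNat (nat_lit 2)), (nat_lit 50, .ofNat (nat_lit 2)), (nat_lit 51, .ofNat (nat_lit 2))],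
  [(nat_lit 0, .ofNat (nat_lit 2)), (nat_lit 1, .negSucc (nat_lit 3)), (nat_lit 2, .negSucc (nat_lit 5)), (nat_lit 3, .ofNat (nat_lit 12)), (nat_lit 4, .ofNat (nat_lit 4)), (nat_lit 6, .ofNat (nat_lit 2)), (nat_lit 7, .ofNat (nat_lit 2)), (nat_lit 8, .negSucc (nat_lit 3)), (nat_lit 9, .negSucc (nat_lit 3)), (nat_lit 12, .ofNat (nat_lit 4)), (nat_lit 13, .ofNat (nat_lit 4)), (nat_lit 14, .ofNat (nat_lit 4)), (nat_lit 15, .ofNat (nat_lit 4)), (nat_lit 16, .ofNat (nat_lit 2)), (nat_lit 17, .ofNat (nat_lit 2)), (nat_lit 18, .negSucc (nat_lit 3)), (nat_lit 19, .negSucc (nat_lit 3)), (nat_lit 22, .ofNat (nat_lit 4)), (nat_lit 23, .ofNat (nat_lit 4)), (nat_lit 24, .ofNat (nat_lit 4)), (nat_lit 25, .ofNat (nat_lit 4)), (nat_lit 26, .ofNat (nat_lit 2)), (nat_lit 27, .ofNat (nat_lit 2)), (nat_lit 28, .negSucc (nat_lit 3)), (nat_lit 29, .negSucc (nat_lit 3)), (nat_lit 32,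 .ofNat (nat_lit 4)), (nat_lit 33, .ofNat (nat_lit 4)), (nat_lit 34, .ofNat (nat_lit 4)), (nat_lit 35, .ofNat (nat_lit 4)), (nat_lit 36, .negSucc (nat_lit 3)), (nat_lit 37, .negSucc (nat_lit 3)), (nat_lit 38, .negSucc (nat_lit 3)), (nat_lit 39, .negSucc (nat_lit 3)), (nat_lit 40, .negSucc (nat_lit 3)), (nat_lit 41, .negSucc (nat_lit 3)), (nat_lit 42, .negSucc (nat_lit 3)), (nat_lit 43, .negSucc (nat_lit 3)), (nat_lit 44, .negSucc (nat_lit 3)), (nat_lit 45, .negSucc (nat_lit 3)), (nat_lit 46, .negSucc (nat_lit 3)), (nat_lit 47, .negSucc (nat_lit 3)), (nat_lit 48, .negSucc (nat_lit 3)), (nat_lit 49, .negSucc (nat_lit 3)), (nat_lit 50, .negSucc (nat_lit 3)), (nat_lit 51, .negSucc (nat_lit 3))],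
  [(nat_lit 0, .negSucc (nat_lit 0)), (nat_lit 1, .ofNat (nat_lit 2)), (nat_lit 2, .ofNat (nat_lit 3)), (nat_lit 3, .negSucc (nat_lit 5)), (nat_lit 4, .ofNat (nat_lit 2)), (nat_lit 6, .negSucc (nat_lit 0)), (nat_lit 7, .negSucc (nat_lit 0)), (nat_lit 8, .ofNat (nat_lit 2)), (nat_lit 9, .ofNat (nat_lit 2)), (nat_lit 12, .ofNat (nat_lit 2)), (nat_lit 13, .ofNat (nat_lit 2)), (nat_lit 14, .ofNat (nat_lit 2)), (nat_lit 15, .ofNat (nat_lit 2)), (nat_lit 16, .negSucc (nat_lit 0)), (nat_lit 17, .negSucc (nat_lit 0)), (nat_lit 18, .ofNat (nat_lit 2)), (nat_lit 19, .ofNat (nat_lit 2)), (nat_lit 22, .ofNat (nat_lit 2)), (nat_lit 23, .ofNat (nat_lit 2)), (nat_lit 24, .ofNat (nat_lit 2)), (nat_lit 25, .ofNat (nat_lit 2)), (nat_lit 26, .negSucc (nat_lit 0)), (nat_lit 27, .negSucc (nat_lit 0)), (nat_lit 28, .ofNat (nat_lit 2)), (nat_lit 29, .ofNat (nat_lit 2)), (nat_lit 32,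 .ofNat (nat_lit 2)), (nat_lit 33, .ofNat (nat_lit 2)), (nat_lit 34, .ofNat (nat_lit 2)), (nat_lit 35, .ofNat (nat_lit 2)), (nat_lit 36, .negSucc (nat_lit 1)), (nat_lit 37, .negSucc (nat_lit 1)), (nat_lit 38, .negSucc (nat_lit 1)), (nat_lit 39, .negSucc (nat_lit 1)), (nat_lit 40, .negSucc (nat_lit 1)), (nat_lit 41, .negSucc (nat_lit 1)), (nat_lit 42, .negSucc (nat_lit 1)), (nat_lit 43, .negSucc (nat_lit 1)), (nat_lit 44, .negSucc (nat_lit 1)), (nat_lit 45, .negSucc (nat_lit 1)), (nat_lit 46, .negSucc (nat_lit 1)), (nat_lit 47, .negSucc (nat_lit 1)), (nat_lit 48, .negSucc (nat_lit 1)), (nat_lit 49, .negSucc (nat_lit 1)), (nat_lit 50, .negSucc (nat_lit 1)), (nat_lit 51, .negSucc (nat_lit 1))],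
  [(nat_lit 0, .ofNat (nat_lit 4)), (nat_lit 1, .ofNat (nat_lit 8)), (nat_lit 2, .ofNat (nat_lit 4)), (nat_lit 3, .ofNat (nat_lit 8)), (nat_lit 6, .ofNat (nat_lit 4)), (nat_lit 7, .ofNat (nat_lit 4)), (nat_lit 8, .ofNat (nat_lit 8)), (nat_lit 9, .ofNat (nat_lit 8)), (nat_lit 16, .ofNat (nat_lit 4)), (nat_lit 17, .ofNat (nat_lit 4)), (nat_lit 18, .ofNat (nat_lit 8)), (nat_lit 19, .ofNat (nat_lit 8)), (nat_lit 26, .ofNat (nat_lit 4)), (nat_lit 27, .ofNat (nat_lit 4)), (nat_lit 28, .ofNat (nat_lit 8)), (nat_lit 29, .ofNat (nat_lit 8))],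
  [(nat_lit 5, .negSucc (nat_lit 7)), (nat_lit 12, .ofNat (nat_lit 8)), (nat_lit 13, .ofNat (nat_lit 8)), (nat_lit 14, .negSucc (nat_lit 7)), (nat_lit 15, .negSucc (nat_lit 7)), (nat_lit 22, .ofNat (nat_lit 8)), (nat_lit 23, .ofNat (nat_lit 8)), (nat_lit 24, .negSucc (nat_lit 7)), (nat_lit 25, .negSucc (nat_lit 7)), (nat_lit 32, .ofNat (nat_lit 8)), (nat_lit 33, .ofNat (nat_lit 8)), (nat_lit 34, .negSucc (nat_lit 7)), (nat_lit 35, .negSucc (nat_lit 7))],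
  [(nat_lit 0, .ofNat (nat_lit 2)), (nat_lit 1, .negSucc (nat_lit 3)), (nat_lit 2, .ofNat (nat_lit 2)), (nat_lit 3, .negSucc (nat_lit 3)), (nat_lit 4, .ofNat (nat_lit 4)), (nat_lit 6, .negSucc (nat_lit 5)), (nat_lit 7, .ofNat (nat_lit 2)), (nat_lit 8, .ofNat (nat_lit 12)), (nat_lit 9, .negSucc (nat_lit 3)), (nat_lit 12, .ofNat (nat_lit 4)), (nat_lit 13, .ofNat (nat_lit 4)), (nat_lit 14, .ofNat (nat_lit 4)), (nat_lit 15, .ofNat (nat_lit 4)), (nat_lit 16, .ofNat (nat_lit 2)), (nat_lit 17, .ofNat (nat_lit 2)), (nat_lit 18, .negSucc (nat_lit 3)), (nat_lit 19, .negSucc (nat_lit 3)), (nat_lit 22, .negSucc (nat_lit 3)), (nat_lit 23, .negSucc (nat_lit 3)), (nat_lit 24, .negSucc (nat_lit 3)), (nat_lit 25, .negSucc (nat_lit 3)), (nat_lit 26, .ofNat (nat_lit 2)), (nat_lit 27, .ofNat (nat_lit 2)), (nat_lit 28, .negSucc (nat_lit 3)), (nat_lit 29, .negSucc (nat_lit 3)), (nat_lit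 32, .negSucc (nat_lit 3)), (nat_lit 33, .negSucc (nat_lit 3)), (nat_lit 34, .negSucc (nat_lit 3)), (nat_lit 35, .negSucc (nat_lit 3)), (nat_lit 36, .ofNat (nat_lit 4)), (nat_lit 37, .ofNat (nat_lit 4)), (nat_lit 38, .negSucc (nat_lit 3)), (nat_lit 39, .negSucc (nat_lit 3)), (nat_lit 40, .ofNat (nat_lit 4)), (nat_lit 41, .ofNat (nat_lit 4)), (nat_lit 42, .negSucc (nat_lit 3)), (nat_lit 43, .negSucc (nat_lit 3)), (nat_lit 44, .ofNat (nat_lit 4)), (nat_lit 45, .ofNat (nat_lit 4)), (nat_lit 46, .negSucc (nat_lit 3)), (nat_lit 47, .negSucc (nat_lit 3)), (nat_lit 48, .ofNat (nat_lit 4)), (nat_lit 49, .ofNat (nat_lit 4)), (nat_lit 50, .negSucc (nat_lit 3)), (nat_lit 51, .negSucc (nat_lit 3))],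
  [(nat_lit 0, .ofNat (nat_lit 2)), (nat_lit 1, .negSucc (nat_lit 3)), (nat_lit 2, .ofNat (nat_lit 2)), (nat_lit 3, .negSucc (nat_lit 3)), (nat_lit 4, .ofNat (nat_lit 4)), (nat_lit 6, .ofNat (nat_lit 2)), (nat_lit 7, .negSucc (nat_lit 5)), (nat_lit 8, .negSucc (nat_lit 3)), (nat_lit 9, .ofNat (nat_lit 12)), (nat_lit 12, .ofNat (nat_lit 4)), (nat_lit 13, .ofNat (nat_lit 4)), (nat_lit 14, .ofNat (nat_lit 4)), (nat_lit 15, .ofNat (nat_lit 4)), (nat_lit 16, .ofNat (nat_lit 2)), (nat_lit 17, .ofNat (nat_lit 2)), (nat_lit 18, .negSucc (nat_lit 3)), (nat_lit 19, .negSucc (nat_lit 3)), (nat_lit 22, .negSucc (nat_lit 3)), (nat_lit 23, .negSucc (nat_lit 3)), (nat_lit 24, .negSucc (nat_lit 3)), (nat_lit 25, .negSucc (nat_lit 3)), (nat_lit 26, .ofNat (nat_lit 2)), (nat_lit 27, .ofNat (nat_lit 2)), (nat_lit 28, .negSucc (nat_lit 3)), (nat_lit 29, .negSucc (nat_lit 3)), (nat_lit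 32, .negSucc (nat_lit 3)), (nat_lit 33, .negSucc (nat_lit 3)), (nat_lit 34, .negSucc (nat_lit 3)), (nat_lit 35, .negSucc (nat_lit 3)), (nat_lit 36, .negSucc (nat_lit 3)), (nat_lit 37, .negSucc (nat_lit 3)), (nat_lit 38, .ofNat (nat_lit 4)), (nat_lit 39, .ofNat (nat_lit 4)), (nat_lit 40, .negSucc (nat_lit 3)), (nat_lit 41, .negSucc (nat_lit 3)), (nat_lit 42, .ofNat (nat_lit 4)), (nat_lit 43, .ofNat (nat_lit 4)), (nat_lit 44, .negSucc (nat_lit 3)), (nat_lit 45, .negSucc (nat_lit 3)), (nat_lit 46, .ofNat (nat_lit 4)), (nat_lit 47, .ofNat (nat_lit 4)), (nat_lit 48, .negSucc (nat_lit 3)), (nat_lit 49, .negSucc (nat_lit 3)), (nat_lit 50, .ofNat (nat_lit 4)), (nat_lit 51, .ofNat (nat_lit 4))],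
  [(nat_lit 0, .negSucc (nat_lit 0)), (nat_lit 1, .ofNat (nat_lit 2)), (nat_lit 2, .negSucc (nat_lit 0)), (nat_lit 3, .ofNat (nat_lit 2)), (nat_lit 4, .ofNat (nat_lit 2)), (nat_lit 6, .ofNat (nat_lit 3)), (nat_lit 7, .negSucc (nat_lit 0)), (nat_lit 8, .negSucc (nat_lit 5)), (nat_lit 9, .ofNat (nat_lit 2)), (nat_lit 12, .ofNat (nat_lit 2)), (nat_lit 13, .ofNat (nat_lit 2)), (nat_lit 14, .ofNat (nat_lit 2)), (nat_lit 15, .ofNat (nat_lit 2)), (nat_lit 16, .negSucc (nat_lit 0)), (nat_lit 17, .negSucc (nat_lit 0)), (nat_lit 18, .ofNat (nat_lit 2)), (nat_lit 19, .ofNat (nat_lit 2)), (nat_lit 22, .negSucc (nat_lit 1)), (nat_lit 23, .negSucc (nat_lit 1)), (nat_lit 24, .negSucc (nat_lit 1)), (nat_lit 25, .negSucc (nat_lit 1)), (nat_lit 26, .negSucc (nat_lit 0)), (nat_lit 27, .negSucc (nat_lit 0)), (nat_lit 28, .ofNat (nat_lit 2)), (nat_lit 29, .ofNat (nat_lit 2)), (nat_lit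 32, .negSucc (nat_lit 1)), (nat_lit 33, .negSucc (nat_lit 1)), (nat_lit 34, .negSucc (nat_lit 1)), (nat_lit 35, .negSucc (nat_lit 1)), (nat_lit 36, .ofNat (nat_lit 2)), (nat_lit 37, .ofNat (nat_lit 2)), (nat_lit 38, .negSucc (nat_lit 1)), (nat_lit 39, .negSucc (nat_lit 1)), (nat_lit 40, .ofNat (nat_lit 2)), (nat_lit 41, .ofNat (nat_lit 2)), (nat_lit 42, .negSucc (nat_lit 1)), (nat_lit 43, .negSucc (nat_lit 1)), (nat_lit 44, .ofNat (nat_lit 2)), (nat_lit 45, .ofNat (nat_lit 2)), (nat_lit 46, .negSucc (nat_lit 1)), (nat_lit 47, .negSucc (nat_lit 1)), (nat_lit 48, .ofNat (nat_lit 2)), (nat_lit 49, .ofNat (nat_lit 2)), (nat_lit 50, .negSucc (nat_lit 1)), (nat_lit 51, .negSucc (nat_lit 1))],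
  [(nat_lit 0, .negSucc (nat_lit 0)), (nat_lit 1, .ofNat (nat_lit 2)), (nat_lit 2, .negSucc (nat_lit 0)), (nat_lit 3, .ofNat (nat_lit 2)), (nat_lit 4, .ofNat (nat_lit 2)), (nat_lit 6, .negSucc (nat_lit 0)), (nat_lit 7, .ofNat (nat_lit 3)), (nat_lit 8, .ofNat (nat_lit 2)), (nat_lit 9, .negSucc (nat_lit 5)), (nat_lit 12, .ofNat (nat_lit 2)), (nat_lit 13, .ofNat (nat_lit 2)), (nat_lit 14, .ofNat (nat_lit 2)), (nat_lit 15, .ofNat (nat_lit 2)), (nat_lit 16, .negSucc (nat_lit 0)), (nat_lit 17, .negSucc (nat_lit 0)), (nat_lit 18, .ofNat (nat_lit 2)), (nat_lit 19, .ofNat (nat_lit 2)), (nat_lit 22, .negSucc (nat_lit 1)), (nat_lit 23, .negSucc (nat_lit 1)), (nat_lit 24, .negSucc (nat_lit 1)), (nat_lit 25, .negSucc (nat_lit 1)), (nat_lit 26, .negSucc (nat_lit 0)), (nat_lit 27, .negSucc (nat_lit 0)), (nat_lit 28, .ofNat (nat_lit 2)), (nat_lit 29, .ofNat (nat_lit 2)), (nat_lit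 32, .negSucc (nat_lit 1)), (nat_lit 33, .negSucc (nat_lit 1)), (nat_lit 34, .negSucc (nat_lit 1)), (nat_lit 35, .negSucc (nat_lit 1)), (nat_lit 36, .negSucc (nat_lit 1)), (nat_lit 37, .negSucc (nat_lit 1)), (nat_lit 38, .ofNat (nat_lit 2)), (nat_lit 39, .ofNat (nat_lit 2)), (nat_lit 40, .negSucc (nat_lit 1)), (nat_lit 41, .negSucc (nat_lit 1)), (nat_lit 42, .ofNat (nat_lit 2)), (nat_lit 43, .ofNat (nat_lit 2)), (nat_lit 44, .negSucc (nat_lit 1)), (nat_lit 45, .negSucc (nat_lit 1)), (nat_lit 46, .ofNat (nat_lit 2)), (nat_lit 47, .ofNat (nat_lit 2)), (nat_lit 48, .negSucc (nat_lit 1)), (nat_lit 49, .negSucc (nat_lit 1)), (nat_lit 50, .ofNat (nat_lit 2)), (nat_lit 51, .ofNat (nat_lit 2))],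
  [(nat_lit 10, .negSucc (nat_lit 7)), (nat_lit 12, .ofNat (nat_lit 8)), (nat_lit 13, .negSucc (nat_lit 7)), (nat_lit 14, .ofNat (nat_lit 8)), (nat_lit 15, .negSucc (nat_lit 7)), (nat_lit 36, .ofNat (nat_lit 8)), (nat_lit 37, .ofNat (nat_lit 8)), (nat_lit 40, .ofNat (nat_lit 8)), (nat_lit 41, .ofNat (nat_lit 8)), (nat_lit 44, .negSucc (nat_lit 7)), (nat_lit 45, .negSucc (nat_lit 7)), (nat_lit 48, .negSucc (nat_lit 7)), (nat_lit 49, .negSucc (nat_lit 7))],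
  [(nat_lit 11, .negSucc (nat_lit 7)), (nat_lit 12, .ofNat (nat_lit 8)), (nat_lit 13, .negSucc (nat_lit 7)), (nat_lit 14, .negSucc (nat_lit 7)), (nat_lit 15, .ofNat (nat_lit 8)), (nat_lit 38, .ofNat (nat_lit 8)), (nat_lit 39, .ofNat (nat_lit 8)), (nat_lit 42, .ofNat (nat_lit 8)), (nat_lit 43, .ofNat (nat_lit 8)), (nat_lit 46, .negSucc (nat_lit 7)), (nat_lit 47, .negSucc (nat_lit 7)), (nat_lit 50, .negSucc (nat_lit 7)), (nat_lit 51, .negSucc (nat_lit 7))],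
  [(nat_lit 0, .ofNat (nat_lit 1)), (nat_lit 1, .ofNat (nat_lit 2)), (nat_lit 2, .ofNat (nat_lit 1)), (nat_lit 3, .ofNat (nat_lit 2)), (nat_lit 5, .ofNat (nat_lit 2)), (nat_lit 6, .ofNat (nat_lit 1)), (nat_lit 7, .ofNat (nat_lit 1)), (nat_lit 8, .ofNat (nat_lit 2)), (nat_lit 9, .ofNat (nat_lit 2)), (nat_lit 10, .ofNat (nat_lit 2)), (nat_lit 11, .ofNat (nat_lit 2)), (nat_lit 12, .negSucc (nat_lit 5)), (nat_lit 13, .ofNat (nat_lit 2)), (nat_lit 14, .ofNat (nat_lit 2)), (nat_lit 15, .ofNat (nat_lit 2)), (nat_lit 16, .negSucc (nat_lit 0)), (nat_lit 17, .negSucc (nat_lit 0)), (nat_lit 18, .negSucc (nat_lit 1)), (nat_lit 19, .negSucc (nat_lit 1)), (nat_lit 22, .ofNat (nat_lit 2)), (nat_lit 23, .ofNat (nat_lit 2)), (nat_lit 24, .negSucc (nat_lit 1)), (nat_lit 25, .negSucc (nat_lit 1)), (nat_lit 26, .negSucc (nat_lit 0)), (nat_lit 27, .negSucc (nat_lit 0)), (nat_lit 28,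 .negSucc (nat_lit 1)), (nat_lit 29, .negSucc (nat_lit 1)), (nat_lit 32, .ofNat (nat_lit 2)), (nat_lit 33, .ofNat (nat_lit 2)), (nat_lit 34, .negSucc (nat_lit 1)), (nat_lit 35, .negSucc (nat_lit 1)), (nat_lit 36, .ofNat (nat_lit 2)), (nat_lit 37, .ofNat (nat_lit 2)), (nat_lit 38, .ofNat (nat_lit 2)), (nat_lit 39, .ofNat (nat_lit 2)), (nat_lit 40, .ofNat (nat_lit 2)), (nat_lit 41, .ofNat (nat_lit 2)), (nat_lit 42, .ofNat (nat_lit 2)), (nat_lit 43, .ofNat (nat_lit 2)), (nat_lit 44, .negSucc (nat_lit 1)), (nat_lit 45, .negSucc (nat_lit 1)), (nat_lit 46, .negSucc (nat_lit 1)), (nat_lit 47, .negSucc (nat_lit 1)), (nat_lit 48, .negSucc (nat_lit 1)), (nat_lit 49, .negSucc (nat_lit 1)), (nat_lit 50, .negSucc (nat_lit 1)), (nat_lit 51, .negSucc (nat_lit 1))],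
  [(nat_lit 0, .ofNat (nat_lit 1)), (nat_lit 1, .ofNat (nat_lit 2)), (nat_lit 2, .ofNat (nat_lit 1)), (nat_lit 3, .ofNat (nat_lit 2)), (nat_lit 5, .ofNat (nat_lit 2)), (nat_lit 6, .ofNat (nat_lit 1)), (nat_lit 7, .ofNat (nat_lit 1)), (nat_lit 8, .ofNat (nat_lit 2)), (nat_lit 9, .ofNat (nat_lit 2)), (nat_lit 10, .negSucc (nat_lit 1)), (nat_lit 11, .negSucc (nat_lit 1)), (nat_lit 12, .ofNat (nat_lit 2)), (nat_lit 13, .negSucc (nat_lit 5)), (nat_lit 14, .ofNat (nat_lit 2)), (nat_lit 15, .ofNat (nat_lit 2)), (nat_lit 16, .negSucc (nat_lit 0)), (nat_lit 17, .negSucc (nat_lit 0)), (nat_lit 18, .negSucc (nat_lit 1)), (nat_lit 19, .negSucc (nat_lit 1)), (nat_lit 22, .ofNat (nat_lit 2)), (nat_lit 23, .ofNat (nat_lit 2)), (nat_lit 24, .negSucc (nat_lit 1)), (nat_lit 25, .negSucc (nat_lit 1)), (nat_lit 26, .negSucc (nat_lit 0)), (nat_lit 27, .negSucc (nat_lit 0)), (nat_lit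 28, .negSucc (nat_lit 1)), (nat_lit 29, .negSucc (nat_lit 1)), (nat_lit 32, .ofNat (nat_lit 2)), (nat_lit 33, .ofNat (nat_lit 2)), (nat_lit 34, .negSucc (nat_lit 1)), (nat_lit 35, .negSucc (nat_lit 1)), (nat_lit 36, .negSucc (nat_lit 1)), (nat_lit 37, .negSucc (nat_lit 1)), (nat_lit 38, .negSucc (nat_lit 1)), (nat_lit 39, .negSucc (nat_lit 1)), (nat_lit 40, .negSucc (nat_lit 1)), (nat_lit 41, .negSucc (nat_lit 1)), (nat_lit 42, .negSucc (nat_lit 1)), (nat_lit 43, .negSucc (nat_lit 1)), (nat_lit 44, .ofNat (nat_lit 2)), (nat_lit 45, .ofNat (nat_lit 2)), (nat_lit 46, .ofNat (nat_lit 2)), (nat_lit 47, .ofNat (nat_lit 2)), (nat_lit 48, .ofNat (nat_lit 2)), (nat_lit 49, .ofNat (nat_lit 2)), (nat_lit 50, .ofNat (nat_lit 2)), (nat_lit 51, .ofNat (nat_lit 2))],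
  [(nat_lit 0, .ofNat (nat_lit 1)), (nat_lit 1, .ofNat (nat_lit 2)), (nat_lit 2, .ofNat (nat_lit 1)), (nat_lit 3, .ofNat (nat_lit 2)), (nat_lit 5, .negSucc (nat_lit 1)), (nat_lit 6, .ofNat (nat_lit 1)), (nat_lit 7, .ofNat (nat_lit 1)), (nat_lit 8, .ofNat (nat_lit 2)), (nat_lit 9, .ofNat (nat_lit 2)), (nat_lit 10, .ofNat (nat_lit 2)), (nat_lit 11, .negSucc (nat_lit 1)), (nat_lit 12, .ofNat (nat_lit 2)), (nat_lit 13, .ofNat (nat_lit 2)), (nat_lit 14, .negSucc (nat_lit 5)), (nat_lit 15, .ofNat (nat_lit 2)), (nat_lit 16, .negSucc (nat_lit 0)), (nat_lit 17, .negSucc (nat_lit 0)), (nat_lit 18, .negSucc (nat_lit 1)), (nat_lit 19, .negSucc (nat_lit 1)), (nat_lit 22, .negSucc (nat_lit 1)), (nat_lit 23, .negSucc (nat_lit 1)), (nat_lit 24, .ofNat (nat_lit 2)), (nat_lit 25, .ofNat (nat_lit 2)), (nat_lit 26, .negSucc (nat_lit 0)), (nat_lit 27, .negSucc (nat_lit 0)), (nat_lit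 28, .negSucc (nat_lit 1)), (nat_lit 29, .negSucc (nat_lit 1)), (nat_lit 32, .negSucc (nat_lit 1)), (nat_lit 33, .negSucc (nat_lit 1)), (nat_lit 34, .ofNat (nat_lit 2)), (nat_lit 35, .ofNat (nat_lit 2)), (nat_lit 36, .ofNat (nat_lit 2)), (nat_lit 37, .ofNat (nat_lit 2)), (nat_lit 38, .negSucc (nat_lit 1)), (nat_lit 39, .negSucc (nat_lit 1)), (nat_lit 40, .ofNat (nat_lit 2)), (nat_lit 41, .ofNat (nat_lit 2)), (nat_lit 42, .negSucc (nat_lit 1)), (nat_lit 43, .negSucc (nat_lit 1)), (nat_lit 44, .negSucc (nat_lit 1)), (nat_lit 45, .negSucc (nat_lit 1)), (nat_lit 46, .ofNat (nat_lit 2)), (nat_lit 47, .ofNat (nat_lit 2)), (nat_lit 48, .negSucc (nat_lit 1)), (nat_lit 49, .negSucc (nat_lit 1)), (nat_lit 50, .ofNat (nat_lit 2)), (nat_lit 51, .ofNat (nat_lit 2))],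
  [(nat_lit 0, .ofNat (nat_lit 1)), (nat_lit 1, .ofNat (nat_lit 2)), (nat_lit 2, .ofNat (nat_lit 1)), (nat_lit 3, .ofNat (nat_lit 2)), (nat_lit 5, .negSucc (nat_lit 1)), (nat_lit 6, .ofNat (nat_lit 1)), (nat_lit 7, .ofNat (nat_lit 1)), (nat_lit 8, .ofNat (nat_lit 2)), (nat_lit 9, .ofNat (nat_lit 2)), (nat_lit 10, .negSucc (nat_lit 1)), (nat_lit 11, .ofNat (nat_lit 2)), (nat_lit 12, .ofNat (nat_lit 2)), (nat_lit 13, .ofNat (nat_lit 2)), (nat_lit 14, .ofNat (nat_lit 2)), (nat_lit 15, .negSucc (nat_lit 5)), (nat_lit 16, .negSucc (nat_lit 0)), (nat_lit 17, .negSucc (nat_lit 0)), (nat_lit 18, .negSucc (nat_lit 1)), (nat_lit 19, .negSucc (nat_lit 1)), (nat_lit 22, .negSucc (nat_lit 1)), (nat_lit 23, .negSucc (nat_lit 1)), (nat_lit 24, .ofNat (nat_lit 2)), (nat_lit 25, .ofNat (nat_lit 2)), (nat_lit 26, .negSucc (nat_lit 0)), (nat_lit 27, .negSucc (nat_lit 0)), (nat_lit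 28, .negSucc (nat_lit 1)), (nat_lit 29, .negSucc (nat_lit 1)), (nat_lit 32, .negSucc (nat_lit 1)), (nat_lit 33, .negSucc (nat_lit 1)), (nat_lit 34, .ofNat (nat_lit 2)), (nat_lit 35, .ofNat (nat_lit 2)), (nat_lit 36, .negSucc (nat_lit 1)), (nat_lit 37, .negSucc (nat_lit 1)), (nat_lit 38, .ofNat (nat_lit 2)), (nat_lit 39, .ofNat (nat_lit 2)), (nat_lit 40, .negSucc (nat_lit 1)), (nat_lit 41, .negSucc (nat_lit 1)), (nat_lit 42, .ofNat (nat_lit 2)), (nat_lit 43, .ofNat (nat_lit 2)), (nat_lit 44, .ofNat (nat_lit 2)), (nat_lit 45, .ofNat (nat_lit 2)), (nat_lit 46, .negSucc (nat_lit 1)), (nat_lit 47, .negSucc (nat_lit 1)), (nat_lit 48, .ofNat (nat_lit 2)), (nat_lit 49, .ofNat (nat_lit 2)), (nat_lit 50, .negSucc (nat_lit 1)), (nat_lit 51, .negSucc (nat_lit 1))],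
  [(nat_lit 0, .ofNat (nat_lit 2)), (nat_lit 1, .negSucc (nat_lit 3)), (nat_lit 2, .ofNat (nat_lit 2)), (nat_lit 3, .negSucc (nat_lit 3)), (nat_lit 4, .ofNat (nat_lit 4)), (nat_lit 6, .ofNat (nat_lit 2)), (nat_lit 7, .ofNat (nat_lit 2)), (nat_lit 8, .negSucc (nat_lit 3)), (nat_lit 9, .negSucc (nat_lit 3)), (nat_lit 12, .negSucc (nat_lit 3)), (nat_lit 13, .negSucc (nat_lit 3)), (nat_lit 14, .negSucc (nat_lit 3)), (nat_lit 15, .negSucc (nat_lit 3)), (nat_lit 16, .negSucc (nat_lit 5)), (nat_lit 17, .ofNat (nat_lit 2)), (nat_lit 18, .ofNat (nat_lit 12)), (nat_lit 19, .negSucc (nat_lit 3)), (nat_lit 22, .ofNat (nat_lit 4)), (nat_lit 23, .ofNat (nat_lit 4)), (nat_lit 24, .ofNat (nat_lit 4)), (nat_lit 25, .ofNat (nat_lit 4)), (nat_lit 26, .ofNat (nat_lit 2)), (nat_lit 27, .ofNat (nat_lit 2)), (nat_lit 28, .negSucc (nat_lit 3)), (nat_lit 29, .negSucc (nat_lit 3)), (nat_lit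 32, .negSucc (nat_lit 3)), (nat_lit 33, .negSucc (nat_lit 3)), (nat_lit 34, .negSucc (nat_lit 3)), (nat_lit 35, .negSucc (nat_lit 3)), (nat_lit 36, .ofNat (nat_lit 4)), (nat_lit 37, .negSucc (nat_lit 3)), (nat_lit 38, .ofNat (nat_lit 4)), (nat_lit 39, .negSucc (nat_lit 3)), (nat_lit 40, .ofNat (nat_lit 4)), (nat_lit 41, .negSucc (nat_lit 3)), (nat_lit 42, .ofNat (nat_lit 4)), (nat_lit 43, .negSucc (nat_lit 3)), (nat_lit 44, .ofNat (nat_lit 4)), (nat_lit 45, .negSucc (nat_lit 3)), (nat_lit 46, .ofNat (nat_lit 4)), (nat_lit 47, .negSucc (nat_lit 3)), (nat_lit 48, .ofNat (nat_lit 4)), (nat_lit 49, .negSucc (nat_lit 3)), (nat_lit 50, .ofNat (nat_lit 4)), (nat_lit 51, .negSucc (nat_lit 3))],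
  [(nat_lit 0, .ofNat (nat_lit 2)), (nat_lit 1, .negSucc (nat_lit 3)), (nat_lit 2, .ofNat (nat_lit 2)), (nat_lit 3, .negSucc (nat_lit 3)), (nat_lit 4, .ofNat (nat_lit 4)), (nat_lit 6, .ofNat (nat_lit 2)), (nat_lit 7, .ofNat (nat_lit 2)), (nat_lit 8, .negSucc (nat_lit 3)), (nat_lit 9, .negSucc (nat_lit 3)), (nat_lit 12, .negSucc (nat_lit 3)), (nat_lit 13, .negSucc (nat_lit 3)), (nat_lit 14, .negSucc (nat_lit 3)), (nat_lit 15, .negSucc (nat_lit 3)), (nat_lit 16, .ofNat (nat_lit 2)), (nat_lit 17, .negSucc (nat_lit 5)), (nat_lit 18, .negSucc (nat_lit 3)), (nat_lit 19, .ofNat (nat_lit 12)), (nat_lit 22, .ofNat (nat_lit 4)), (nat_lit 23, .ofNat (nat_lit 4)), (nat_lit 24, .ofNat (nat_lit 4)), (nat_lit 25, .ofNat (nat_lit 4)), (nat_lit 26, .ofNat (nat_lit 2)), (nat_lit 27, .ofNat (nat_lit 2)), (nat_lit 28, .negSucc (nat_lit 3)), (nat_lit 29, .negSucc (nat_lit 3)), (nat_lit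 32, .negSucc (nat_lit 3)), (nat_lit 33, .negSucc (nat_lit 3)), (nat_lit 34, .negSucc (nat_lit 3)), (nat_lit 35, .negSucc (nat_lit 3)), (nat_lit 36, .negSucc (nat_lit 3)), (nat_lit 37, .ofNat (nat_lit 4)), (nat_lit 38, .negSucc (nat_lit 3)), (nat_lit 39, .ofNat (nat_lit 4)), (nat_lit 40, .negSucc (nat_lit 3)), (nat_lit 41, .ofNat (nat_lit 4)), (nat_lit 42, .negSucc (nat_lit 3)), (nat_lit 43, .ofNat (nat_lit 4)), (nat_lit 44, .negSucc (nat_lit 3)), (nat_lit 45, .ofNat (nat_lit 4)), (nat_lit 46, .negSucc (nat_lit 3)), (nat_lit 47, .ofNat (nat_lit 4)), (nat_lit 48, .negSucc (nat_lit 3)), (nat_lit 49, .ofNat (nat_lit 4)), (nat_lit 50, .negSucc (nat_lit 3)), (nat_lit 51, .ofNat (nat_lit 4))],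
  [(nat_lit 0, .negSucc (nat_lit 0)), (nat_lit 1, .ofNat (nat_lit 2)), (nat_lit 2, .negSucc (nat_lit 0)), (nat_lit 3, .ofNat (nat_lit 2)), (nat_lit 4, .ofNat (nat_lit 2)), (nat_lit 6, .negSucc (nat_lit 0)), (nat_lit 7, .negSucc (nat_lit 0)), (nat_lit 8, .ofNat (nat_lit 2)), (nat_lit 9, .ofNat (nat_lit 2)), (nat_lit 12, .negSucc (nat_lit 1)), (nat_lit 13, .negSucc (nat_lit 1)), (nat_lit 14, .negSucc (nat_lit 1)), (nat_lit 15, .negSucc (nat_lit 1)), (nat_lit 16, .ofNat (nat_lit 3)), (nat_lit 17, .negSucc (nat_lit 0)), (nat_lit 18, .negSucc (nat_lit 5)), (nat_lit 19, .ofNat (nat_lit 2)), (nat_lit 22, .ofNat (nat_lit 2)), (nat_lit 23, .ofNat (nat_lit 2)), (nat_lit 24, .ofNat (nat_lit 2)), (nat_lit 25, .ofNat (nat_lit 2)), (nat_lit 26, .negSucc (nat_lit 0)), (nat_lit 27, .negSucc (nat_lit 0)), (nat_lit 28, .ofNat (nat_lit 2)), (nat_lit 29, .ofNat (nat_lit 2)), (nat_lit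 32, .negSucc (nat_lit 1)), (nat_lit 33, .negSucc (nat_lit 1)), (nat_lit 34, .negSucc (nat_lit 1)), (nat_lit 35, .negSucc (nat_lit 1)), (nat_lit 36, .ofNat (nat_lit 2)), (nat_lit 37, .negSucc (nat_lit 1)), (nat_lit 38, .ofNat (nat_lit 2)), (nat_lit 39, .negSucc (nat_lit 1)), (nat_lit 40, .ofNat (nat_lit 2)), (nat_lit 41, .negSucc (nat_lit 1)), (nat_lit 42, .ofNat (nat_lit 2)), (nat_lit 43, .negSucc (nat_lit 1)), (nat_lit 44, .ofNat (nat_lit 2)), (nat_lit 45, .negSucc (nat_lit 1)), (nat_lit 46, .ofNat (nat_lit 2)), (nat_lit 47, .negSucc (nat_lit 1)), (nat_lit 48, .ofNat (nat_lit 2)), (nat_lit 49, .negSucc (nat_lit 1)), (nat_lit 50, .ofNat (nat_lit 2)), (nat_lit 51, .negSucc (nat_lit 1))],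
  [(nat_lit 0, .negSucc (nat_lit 0)), (nat_lit 1, .ofNat (nat_lit 2)), (nat_lit 2, .negSucc (nat_lit 0)), (nat_lit 3, .ofNat (nat_lit 2)), (nat_lit 4, .ofNat (nat_lit 2)), (nat_lit 6, .negSucc (nat_lit 0)), (nat_lit 7, .negSucc (nat_lit 0)), (nat_lit 8, .ofNat (nat_lit 2)), (nat_lit 9, .ofNat (nat_lit 2)), (nat_lit 12, .negSucc (nat_lit 1)), (nat_lit 13, .negSucc (nat_lit 1)), (nat_lit 14, .negSucc (nat_lit 1)), (nat_lit 15, .negSucc (nat_lit 1)), (nat_lit 16, .negSucc (nat_lit 0)), (nat_lit 17, .ofNat (nat_lit 3)), (nat_lit 18, .ofNat (nat_lit 2)), (nat_lit 19, .negSucc (nat_lit 5)), (nat_lit 22, .ofNat (nat_lit 2)), (nat_lit 23, .ofNat (nat_lit 2)), (nat_lit 24, .ofNat (nat_lit 2)), (nat_lit 25, .ofNat (nat_lit 2)), (nat_lit 26, .negSucc (nat_lit 0)), (nat_lit 27, .negSucc (nat_lit 0)), (nat_lit 28, .ofNat (nat_lit 2)), (nat_lit 29, .ofNat (nat_lit 2)), (nat_lit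 32, .negSucc (nat_lit 1)), (nat_lit 33, .negSucc (nat_lit 1)), (nat_lit 34, .negSucc (nat_lit 1)), (nat_lit 35, .negSucc (nat_lit 1)), (nat_lit 36, .negSucc (nat_lit 1)), (nat_lit 37, .ofNat (nat_lit 2)), (nat_lit 38, .negSucc (nat_lit 1)), (nat_lit 39, .ofNat (nat_lit 2)), (nat_lit 40, .negSucc (nat_lit 1)), (nat_lit 41, .ofNat (nat_lit 2)), (nat_lit 42, .negSucc (nat_lit 1)), (nat_lit 43, .ofNat (nat_lit 2)), (nat_lit 44, .negSucc (nat_lit 1)), (nat_lit 45, .ofNat (nat_lit 2)), (nat_lit 46, .negSucc (nat_lit 1)), (nat_lit 47, .ofNat (nat_lit 2)), (nat_lit 48, .negSucc (nat_lit 1)), (nat_lit 49, .ofNat (nat_lit 2)), (nat_lit 50, .negSucc (nat_lit 1)), (nat_lit 51, .ofNat (nat_lit 2))],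
  [(nat_lit 20, .negSucc (nat_lit 7)), (nat_lit 22, .ofNat (nat_lit 8)), (nat_lit 23, .negSucc (nat_lit 7)), (nat_lit 24, .ofNat (nat_lit 8)), (nat_lit 25, .negSucc (nat_lit 7)), (nat_lit 36, .ofNat (nat_lit 8)), (nat_lit 38, .ofNat (nat_lit 8)), (nat_lit 40, .negSucc (nat_lit 7)), (nat_lit 42, .negSucc (nat_lit 7)), (nat_lit 44, .ofNat (nat_lit 8)), (nat_lit 46, .ofNat (nat_lit 8)), (nat_lit 48, .negSucc (nat_lit 7)), (nat_lit 50, .negSucc (nat_lit 7))],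
  [(nat_lit 21, .negSucc (nat_lit 7)), (nat_lit 22, .ofNat (nat_lit 8)), (nat_lit 23, .negSucc (nat_lit 7)), (nat_lit 24, .negSucc (nat_lit 7)), (nat_lit 25, .ofNat (nat_lit 8)), (nat_lit 37, .ofNat (nat_lit 8)), (nat_lit 39, .ofNat (nat_lit 8)), (nat_lit 41, .negSucc (nat_lit 7)), (nat_lit 43, .negSucc (nat_lit 7)), (nat_lit 45, .ofNat (nat_lit 8)), (nat_lit 47, .ofNat (nat_lit 8)), (nat_lit 49, .negSucc (nat_lit 7)), (nat_lit 51, .negSucc (nat_lit 7))],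
  [(nat_lit 0, .ofNat (nat_lit 1)), (nat_lit 1, .ofNat (nat_lit 2)), (nat_lit 2, .ofNat (nat_lit 1)), (nat_lit 3, .ofNat (nat_lit 2)), (nat_lit 5, .ofNat (nat_lit 2)), (nat_lit 6, .negSucc (nat_lit 0)), (nat_lit 7, .negSucc (nat_lit 0)), (nat_lit 8, .negSucc (nat_lit 1)), (nat_lit 9, .negSucc (nat_lit 1)), (nat_lit 12, .ofNat (nat_lit 2)), (nat_lit 13, .ofNat (nat_lit 2)), (nat_lit 14, .negSucc (nat_lit 1)), (nat_lit 15, .negSucc (nat_lit 1)), (nat_lit 16, .ofNat (nat_lit 1)), (nat_lit 17, .ofNat (nat_lit 1)), (nat_lit 18, .ofNat (nat_lit 2)), (nat_lit 19, .ofNat (nat_lit 2)), (nat_lit 20, .ofNat (nat_lit 2)), (nat_lit 21, .ofNat (nat_lit 2)), (nat_lit 22, .negSucc (nat_lit 5)), (nat_lit 23, .ofNat (nat_lit 2)), (nat_lit 24, .ofNat (nat_lit 2)), (nat_lit 25, .ofNat (nat_lit 2)), (nat_lit 26, .negSucc (nat_lit 0)), (nat_lit 27, .negSucc (nat_lit 0)), (nat_lit 28,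 .negSucc (nat_lit 1)), (nat_lit 29, .negSucc (nat_lit 1)), (nat_lit 32, .ofNat (nat_lit 2)), (nat_lit 33, .ofNat (nat_lit 2)), (nat_lit 34, .negSucc (nat_lit 1)), (nat_lit 35, .negSucc (nat_lit 1)), (nat_lit 36, .ofNat (nat_lit 2)), (nat_lit 37, .ofNat (nat_lit 2)), (nat_lit 38, .ofNat (nat_lit 2)), (nat_lit 39, .ofNat (nat_lit 2)), (nat_lit 40, .negSucc (nat_lit 1)), (nat_lit 41, .negSucc (nat_lit 1)), (nat_lit 42, .negSucc (nat_lit 1)), (nat_lit 43, .negSucc (nat_lit 1)), (nat_lit 44, .ofNat (nat_lit 2)), (nat_lit 45, .ofNat (nat_lit 2)), (nat_lit 46, .ofNat (nat_lit 2)), (nat_lit 47, .ofNat (nat_lit 2)), (nat_lit 48, .negSucc (nat_lit 1)), (nat_lit 49, .negSucc (nat_lit 1)), (nat_lit 50, .negSucc (nat_lit 1)), (nat_lit 51, .negSucc (nat_lit 1))],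
  [(nat_lit 0, .ofNat (nat_lit 1)), (nat_lit 1, .ofNat (nat_lit 2)), (nat_lit 2, .ofNat (nat_lit 1)), (nat_lit 3, .ofNat (nat_lit 2)), (nat_lit 5, .ofNat (nat_lit 2)), (nat_lit 6, .negSucc (nat_lit 0)), (nat_lit 7, .negSucc (nat_lit 0)), (nat_lit 8, .negSucc (nat_lit 1)), (nat_lit 9, .negSucc (nat_lit 1)), (nat_lit 12, .ofNat (nat_lit 2)), (nat_lit 13, .ofNat (nat_lit 2)), (nat_lit 14, .negSucc (nat_lit 1)), (nat_lit 15, .negSucc (nat_lit 1)), (nat_lit 16, .ofNat (nat_lit 1)), (nat_lit 17, .ofNat (nat_lit 1)), (nat_lit 18, .ofNat (nat_lit 2)), (nat_lit 19, .ofNat (nat_lit 2)), (nat_lit 20, .negSucc (nat_lit 1)), (nat_lit 21, .negSucc (nat_lit 1)), (nat_lit 22, .ofNat (nat_lit 2)), (nat_lit 23, .negSucc (nat_lit 5)), (nat_lit 24, .ofNat (nat_lit 2)), (nat_lit 25, .ofNat (nat_lit 2)), (nat_lit 26, .negSucc (nat_lit 0)), (nat_lit 27, .negSucc (nat_lit 0)), (nat_lit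 28, .negSucc (nat_lit 1)), (nat_lit 29, .negSucc (nat_lit 1)), (nat_lit 32, .ofNat (nat_lit 2)), (nat_lit 33, .ofNat (nat_lit 2)), (nat_lit 34, .negSucc (nat_lit 1)), (nat_lit 35, .negSucc (nat_lit 1)), (nat_lit 36, .negSucc (nat_lit 1)), (nat_lit 37, .negSucc (nat_lit 1)), (nat_lit 38, .negSucc (nat_lit 1)), (nat_lit 39, .negSucc (nat_lit 1)), (nat_lit 40, .ofNat (nat_lit 2)), (nat_lit 41, .ofNat (nat_lit 2)), (nat_lit 42, .ofNat (nat_lit 2)), (nat_lit 43, .ofNat (nat_lit 2)), (nat_lit 44, .negSucc (nat_lit 1)), (nat_lit 45, .negSucc (nat_lit 1)), (nat_lit 46, .negSucc (nat_lit 1)), (nat_lit 47, .negSucc (nat_lit 1)), (nat_lit 48, .ofNat (nat_lit 2)), (nat_lit 49, .ofNat (nat_lit 2)), (nat_lit 50, .ofNat (nat_lit 2)), (nat_lit 51, .ofNat (nat_lit 2))],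
  [(nat_lit 0, .ofNat (nat_lit 1)), (nat_lit 1, .ofNat (nat_lit 2)), (nat_lit 2, .ofNat (nat_lit 1)), (nat_lit 3, .ofNat (nat_lit 2)), (nat_lit 5, .negSucc (nat_lit 1)), (nat_lit 6, .negSucc (nat_lit 0)), (nat_lit 7, .negSucc (nat_lit 0)), (nat_lit 8, .negSucc (nat_lit 1)), (nat_lit 9, .negSucc (nat_lit 1)), (nat_lit 12, .negSucc (nat_lit 1)), (nat_lit 13, .negSucc (nat_lit 1)), (nat_lit 14, .ofNat (nat_lit 2)), (nat_lit 15, .ofNat (nat_lit 2)), (nat_lit 16, .ofNat (nat_lit 1)), (nat_lit 17, .ofNat (nat_lit 1)), (nat_lit 18, .ofNat (nat_lit 2)), (nat_lit 19, .ofNat (nat_lit 2)), (nat_lit 20, .ofNat (nat_lit 2)), (nat_lit 21, .negSucc (nat_lit 1)), (nat_lit 22, .ofNat (nat_lit 2)), (nat_lit 23, .ofNat (nat_lit 2)), (nat_lit 24, .negSucc (nat_lit 5)), (nat_lit 25, .ofNat (nat_lit 2)), (nat_lit 26, .negSucc (nat_lit 0)), (nat_lit 27, .negSucc (nat_lit 0)), (nat_lit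 28, .negSucc (nat_lit 1)), (nat_lit 29, .negSucc (nat_lit 1)), (nat_lit 32, .negSucc (nat_lit 1)), (nat_lit 33, .negSucc (nat_lit 1)), (nat_lit 34, .ofNat (nat_lit 2)), (nat_lit 35, .ofNat (nat_lit 2)), (nat_lit 36, .ofNat (nat_lit 2)), (nat_lit 37, .negSucc (nat_lit 1)), (nat_lit 38, .ofNat (nat_lit 2)), (nat_lit 39, .negSucc (nat_lit 1)), (nat_lit 40, .negSucc (nat_lit 1)), (nat_lit 41, .ofNat (nat_lit 2)), (nat_lit 42, .negSucc (nat_lit 1)), (nat_lit 43, .ofNat (nat_lit 2)), (nat_lit 44, .ofNat (nat_lit 2)), (nat_lit 45, .negSucc (nat_lit 1)), (nat_lit 46, .ofNat (nat_lit 2)), (nat_lit 47, .negSucc (nat_lit 1)), (nat_lit 48, .negSucc (nat_lit 1)), (nat_lit 49, .ofNat (nat_lit 2)), (nat_lit 50, .negSucc (nat_lit 1)), (nat_lit 51, .ofNat (nat_lit 2))],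
  [(nat_lit 0, .ofNat (nat_lit 1)), (nat_lit 1, .ofNat (nat_lit 2)), (nat_lit 2, .ofNat (nat_lit 1)), (nat_lit 3, .ofNat (nat_lit 2)), (nat_lit 5, .negSucc (nat_lit 1)), (nat_lit 6, .negSucc (nat_lit 0)), (nat_lit 7, .negSucc (nat_lit 0)), (nat_lit 8, .negSucc (nat_lit 1)), (nat_lit 9, .negSucc (nat_lit 1)), (nat_lit 12, .negSucc (nat_lit 1)), (nat_lit 13, .negSucc (nat_lit 1)), (nat_lit 14, .ofNat (nat_lit 2)), (nat_lit 15, .ofNat (nat_lit 2)), (nat_lit 16, .ofNat (nat_lit 1)), (nat_lit 17, .ofNat (nat_lit 1)), (nat_lit 18, .ofNat (nat_lit 2)), (nat_lit 19, .ofNat (nat_lit 2)), (nat_lit 20, .negSucc (nat_lit 1)), (nat_lit 21, .ofNat (nat_lit 2)), (nat_lit 22, .ofNat (nat_lit 2)), (nat_lit 23, .ofNat (nat_lit 2)), (nat_lit 24, .ofNat (nat_lit 2)), (nat_lit 25, .negSucc (nat_lit 5)), (nat_lit 26, .negSucc (nat_lit 0)), (nat_lit 27, .negSucc (nat_lit 0)), (nat_lit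 28, .negSucc (nat_lit 1)), (nat_lit 29, .negSucc (nat_lit 1)), (nat_lit 32, .negSucc (nat_lit 1)), (nat_lit 33, .negSucc (nat_lit 1)), (nat_lit 34, .ofNat (nat_lit 2)), (nat_lit 35, .ofNat (nat_lit 2)), (nat_lit 36, .negSucc (nat_lit 1)), (nat_lit 37, .ofNat (nat_lit 2)), (nat_lit 38, .negSucc (nat_lit 1)), (nat_lit 39, .ofNat (nat_lit 2)), (nat_lit 40, .ofNat (nat_lit 2)), (nat_lit 41, .negSucc (nat_lit 1)), (nat_lit 42, .ofNat (nat_lit 2)), (nat_lit 43, .negSucc (nat_lit 1)), (nat_lit 44, .negSucc (nat_lit 1)), (nat_lit 45, .ofNat (nat_lit 2)), (nat_lit 46, .negSucc (nat_lit 1)), (nat_lit 47, .ofNat (nat_lit 2)), (nat_lit 48, .ofNat (nat_lit 2)), (nat_lit 49, .negSucc (nat_lit 1)), (nat_lit 50, .ofNat (nat_lit 2)), (nat_lit 51, .negSucc (nat_lit 1))],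
  [(nat_lit 0, .ofNat (nat_lit 2)), (nat_lit 1, .negSucc (nat_lit 3)), (nat_lit 2, .ofNat (nat_lit 2)), (nat_lit 3, .negSucc (nat_lit 3)), (nat_lit 4, .ofNat (nat_lit 4)), (nat_lit 6, .ofNat (nat_lit 2)), (nat_lit 7, .ofNat (nat_lit 2)), (nat_lit 8, .negSucc (nat_lit 3)), (nat_lit 9, .negSucc (nat_lit 3)), (nat_lit 12, .negSucc (nat_lit 3)), (nat_lit 13, .negSucc (nat_lit 3)), (nat_lit 14, .negSucc (nat_lit 3)), (nat_lit 15, .negSucc (nat_lit 3)), (nat_lit 16, .ofNat (nat_lit 2)), (nat_lit 17, .ofNat (nat_lit 2)), (nat_lit 18, .negSucc (nat_lit 3)), (nat_lit 19, .negSucc (nat_lit 3)), (nat_lit 22, .negSucc (nat_lit 3)), (nat_lit 23, .negSucc (nat_lit 3)), (nat_lit 24, .negSucc (nat_lit 3)), (nat_lit 25, .negSucc (nat_lit 3)), (nat_lit 26, .negSucc (nat_lit 5)), (nat_lit 27, .ofNat (nat_lit 2)), (nat_lit 28, .ofNat (nat_lit 12)), (nat_lit 29, .negSucc (nat_lit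 3)), (nat_lit 32, .ofNat (nat_lit 4)), (nat_lit 33, .ofNat (nat_lit 4)), (nat_lit 34, .ofNat (nat_lit 4)), (nat_lit 35, .ofNat (nat_lit 4)), (nat_lit 36, .ofNat (nat_lit 4)), (nat_lit 37, .negSucc (nat_lit 3)), (nat_lit 38, .negSucc (nat_lit 3)), (nat_lit 39, .ofNat (nat_lit 4)), (nat_lit 40, .ofNat (nat_lit 4)), (nat_lit 41, .negSucc (nat_lit 3)), (nat_lit 42, .negSucc (nat_lit 3)), (nat_lit 43, .ofNat (nat_lit 4)), (nat_lit 44, .ofNat (nat_lit 4)), (nat_lit 45, .negSucc (nat_lit 3)), (nat_lit 46, .negSucc (nat_lit 3)), (nat_lit 47, .ofNat (nat_lit 4)), (nat_lit 48, .ofNat (nat_lit 4)), (nat_lit 49, .negSucc (nat_lit 3)), (nat_lit 50, .negSucc (nat_lit 3)), (nat_lit 51, .ofNat (nat_lit 4))],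
  [(nat_lit 0, .ofNat (nat_lit 2)), (nat_lit 1, .negSucc (nat_lit 3)), (nat_lit 2, .ofNat (nat_lit 2)), (nat_lit 3, .negSucc (nat_lit 3)), (nat_lit 4, .ofNat (nat_lit 4)), (nat_lit 6, .ofNat (nat_lit 2)), (nat_lit 7, .ofNat (nat_lit 2)), (nat_lit 8, .negSucc (nat_lit 3)), (nat_lit 9, .negSucc (nat_lit 3)), (nat_lit 12, .negSucc (nat_lit 3)), (nat_lit 13, .negSucc (nat_lit 3)), (nat_lit 14, .negSucc (nat_lit 3)), (nat_lit 15, .negSucc (nat_lit 3)), (nat_lit 16, .ofNat (nat_lit 2)), (nat_lit 17, .ofNat (nat_lit 2)), (nat_lit 18, .negSucc (nat_lit 3)), (nat_lit 19, .negSucc (nat_lit 3)), (nat_lit 22, .negSucc (nat_lit 3)), (nat_lit 23, .negSucc (nat_lit 3)), (nat_lit 24, .negSucc (nat_lit 3)), (nat_lit 25, .negSucc (nat_lit 3)), (nat_lit 26, .ofNat (nat_lit 2)), (nat_lit 27, .negSucc (nat_lit 5)), (nat_lit 28, .negSucc (nat_lit 3)), (nat_lit 29, .ofNat (nat_lit 12)),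 (nat_lit 32, .ofNat (nat_lit 4)), (nat_lit 33, .ofNat (nat_lit 4)), (nat_lit 34, .ofNat (nat_lit 4)), (nat_lit 35, .ofNat (nat_lit 4)), (nat_lit 36, .negSucc (nat_lit 3)), (nat_lit 37, .ofNat (nat_lit 4)), (nat_lit 38, .ofNat (nat_lit 4)), (nat_lit 39, .negSucc (nat_lit 3)), (nat_lit 40, .negSucc (nat_lit 3)), (nat_lit 41, .ofNat (nat_lit 4)), (nat_lit 42, .ofNat (nat_lit 4)), (nat_lit 43, .negSucc (nat_lit 3)), (nat_lit 44, .negSucc (nat_lit 3)), (nat_lit 45, .ofNat (nat_lit 4)), (nat_lit 46, .ofNat (nat_lit 4)), (nat_lit 47, .negSucc (nat_lit 3)), (nat_lit 48, .negSucc (nat_lit 3)), (nat_lit 49, .ofNat (nat_lit 4)), (nat_lit 50, .ofNat (nat_lit 4)), (nat_lit 51, .negSucc (nat_lit 3))],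
  [(nat_lit 0, .negSucc (nat_lit 0)), (nat_lit 1, .ofNat (nat_lit 2)), (nat_lit 2, .negSucc (nat_lit 0)), (nat_lit 3, .ofNat (nat_lit 2)), (nat_lit 4, .ofNat (nat_lit 2)), (nat_lit 6, .negSucc (nat_lit 0)), (nat_lit 7, .negSucc (nat_lit 0)), (nat_lit 8, .ofNat (nat_lit 2)), (nat_lit 9, .ofNat (nat_lit 2)), (nat_lit 12, .negSucc (nat_lit 1)), (nat_lit 13, .negSucc (nat_lit 1)), (nat_lit 14, .negSucc (nat_lit 1)), (nat_lit 15, .negSucc (nat_lit 1)), (nat_lit 16, .negSucc (nat_lit 0)), (nat_lit 17, .negSucc (nat_lit 0)), (nat_lit 18, .ofNat (nat_lit 2)), (nat_lit 19, .ofNat (nat_lit 2)), (nat_lit 22, .negSucc (nat_lit 1)), (nat_lit 23, .negSucc (nat_lit 1)), (nat_lit 24, .negSucc (nat_lit 1)), (nat_lit 25, .negSucc (nat_lit 1)), (nat_lit 26, .ofNat (nat_lit 3)), (nat_lit 27, .negSucc (nat_lit 0)), (nat_lit 28, .negSucc (nat_lit 5)), (nat_lit 29, .ofNat (nat_lit 2)),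 (nat_lit 32, .ofNat (nat_lit 2)), (nat_lit 33, .ofNat (nat_lit 2)), (nat_lit 34, .ofNat (nat_lit 2)), (nat_lit 35, .ofNat (nat_lit 2)), (nat_lit 36, .ofNat (nat_lit 2)), (nat_lit 37, .negSucc (nat_lit 1)), (nat_lit 38, .negSucc (nat_lit 1)), (nat_lit 39, .ofNat (nat_lit 2)), (nat_lit 40, .ofNat (nat_lit 2)), (nat_lit 41, .negSucc (nat_lit 1)), (nat_lit 42, .negSucc (nat_lit 1)), (nat_lit 43, .ofNat (nat_lit 2)), (nat_lit 44, .ofNat (nat_lit 2)), (nat_lit 45, .negSucc (nat_lit 1)), (nat_lit 46, .negSucc (nat_lit 1)), (nat_lit 47, .ofNat (nat_lit 2)), (nat_lit 48, .ofNat (nat_lit 2)), (nat_lit 49, .negSucc (nat_lit 1)), (nat_lit 50, .negSucc (nat_lit 1)), (nat_lit 51, .ofNat (nat_lit 2))],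
  [(nat_lit 0, .negSucc (nat_lit 0)), (nat_lit 1, .ofNat (nat_lit 2)), (nat_lit 2, .negSucc (nat_lit 0)), (nat_lit 3, .ofNat (nat_lit 2)), (nat_lit 4, .ofNat (nat_lit 2)), (nat_lit 6, .negSucc (nat_lit 0)), (nat_lit 7, .negSucc (nat_lit 0)), (nat_lit 8, .ofNat (nat_lit 2)), (nat_lit 9, .ofNat (nat_lit 2)), (nat_lit 12, .negSucc (nat_lit 1)), (nat_lit 13, .negSucc (nat_lit 1)), (nat_lit 14, .negSucc (nat_lit 1)), (nat_lit 15, .negSucc (nat_lit 1)), (nat_lit 16, .negSucc (nat_lit 0)), (nat_lit 17, .negSucc (nat_lit 0)), (nat_lit 18, .ofNat (nat_lit 2)), (nat_lit 19, .ofNat (nat_lit 2)), (nat_lit 22, .negSucc (nat_lit 1)), (nat_lit 23, .negSucc (nat_lit 1)), (nat_lit 24, .negSucc (nat_lit 1)), (nat_lit 25, .negSucc (nat_lit 1)), (nat_lit 26, .negSucc (nat_lit 0)), (nat_lit 27, .ofNat (nat_lit 3)), (nat_lit 28, .ofNat (nat_lit 2)), (nat_lit 29, .negSucc (nat_lit 5)),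 (nat_lit 32, .ofNat (nat_lit 2)), (nat_lit 33, .ofNat (nat_lit 2)), (nat_lit 34, .ofNat (nat_lit 2)), (nat_lit 35, .ofNat (nat_lit 2)), (nat_lit 36, .negSucc (nat_lit 1)), (nat_lit 37, .ofNat (nat_lit 2)), (nat_lit 38, .ofNat (nat_lit 2)), (nat_lit 39, .negSucc (nat_lit 1)), (nat_lit 40, .negSucc (nat_lit 1)), (nat_lit 41, .ofNat (nat_lit 2)), (nat_lit 42, .ofNat (nat_lit 2)), (nat_lit 43, .negSucc (nat_lit 1)), (nat_lit 44, .negSucc (nat_lit 1)), (nat_lit 45, .ofNat (nat_lit 2)), (nat_lit 46, .ofNat (nat_lit 2)), (nat_lit 47, .negSucc (nat_lit 1)), (nat_lit 48, .negSucc (nat_lit 1)), (nat_lit 49, .ofNat (nat_lit 2)), (nat_lit 50, .ofNat (nat_lit 2)), (nat_lit 51, .negSucc (nat_lit 1))],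
  [(nat_lit 30, .negSucc (nat_lit 7)), (nat_lit 32, .ofNat (nat_lit 8)), (nat_lit 33, .negSucc (nat_lit 7)), (nat_lit 34, .ofNat (nat_lit 8)), (nat_lit 35, .negSucc (nat_lit 7)), (nat_lit 36, .ofNat (nat_lit 8)), (nat_lit 39, .ofNat (nat_lit 8)), (nat_lit 40, .negSucc (nat_lit 7)), (nat_lit 43, .negSucc (nat_lit 7)), (nat_lit 44, .negSucc (nat_lit 7)), (nat_lit 47, .negSucc (nat_lit 7)), (nat_lit 48, .ofNat (nat_lit 8)), (nat_lit 51, .ofNat (nat_lit 8))],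
  [(nat_lit 31, .negSucc (nat_lit 7)), (nat_lit 32, .ofNat (nat_lit 8)), (nat_lit 33, .negSucc (nat_lit 7)), (nat_lit 34, .negSucc (nat_lit 7)), (nat_lit 35, .ofNat (nat_lit 8)), (nat_lit 37, .ofNat (nat_lit 8)), (nat_lit 38, .ofNat (nat_lit 8)), (nat_lit 41, .negSucc (nat_lit 7)), (nat_lit 42, .negSucc (nat_lit 7)), (nat_lit 45, .negSucc (nat_lit 7)), (nat_lit 46, .negSucc (nat_lit 7)), (nat_lit 49, .ofNat (nat_lit 8)), (nat_lit 50, .ofNat (nat_lit 8))],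
  [(nat_lit 0, .ofNat (nat_lit 1)), (nat_lit 1, .ofNat (nat_lit 2)), (nat_lit 2, .ofNat (nat_lit 1)), (nat_lit 3, .ofNat (nat_lit 2)), (nat_lit 5, .ofNat (nat_lit 2)), (nat_lit 6, .negSucc (nat_lit 0)), (nat_lit 7, .negSucc (nat_lit 0)), (nat_lit 8, .negSucc (nat_lit 1)), (nat_lit 9, .negSucc (nat_lit 1)), (nat_lit 12, .ofNat (nat_lit 2)), (nat_lit 13, .ofNat (nat_lit 2)), (nat_lit 14, .negSucc (nat_lit 1)), (nat_lit 15, .negSucc (nat_lit 1)), (nat_lit 16, .negSucc (nat_lit 0)), (nat_lit 17, .negSucc (nat_lit 0)), (nat_lit 18, .negSucc (nat_lit 1)), (nat_lit 19, .negSucc (nat_lit 1)), (nat_lit 22, .ofNat (nat_lit 2)), (nat_lit 23, .ofNat (nat_lit 2)), (nat_lit 24, .negSucc (nat_lit 1)), (nat_lit 25, .negSucc (nat_lit 1)), (nat_lit 26, .ofNat (nat_lit 1)), (nat_lit 27, .ofNat (nat_lit 1)), (nat_lit 28, .ofNat (nat_lit 2)), (nat_lit 29, .ofNat (nat_lit 2)), (nat_lit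 30, .ofNat (nat_lit 2)), (nat_lit 31, .ofNat (nat_lit 2)), (nat_lit 32, .negSucc (nat_lit 5)), (nat_lit 33, .ofNat (nat_lit 2)), (nat_lit 34, .ofNat (nat_lit 2)), (nat_lit 35, .ofNat (nat_lit 2)), (nat_lit 36, .ofNat (nat_lit 2)), (nat_lit 37, .ofNat (nat_lit 2)), (nat_lit 38, .ofNat (nat_lit 2)), (nat_lit 39, .ofNat (nat_lit 2)), (nat_lit 40, .negSucc (nat_lit 1)), (nat_lit 41, .negSucc (nat_lit 1)), (nat_lit 42, .negSucc (nat_lit 1)), (nat_lit 43, .negSucc (nat_lit 1)), (nat_lit 44, .negSucc (nat_lit 1)), (nat_lit 45, .negSucc (nat_lit 1)), (nat_lit 46, .negSucc (nat_lit 1)), (nat_lit 47, .negSucc (nat_lit 1)), (nat_lit 48, .ofNat (nat_lit 2)), (nat_lit 49, .ofNat (nat_lit 2)), (nat_lit 50, .ofNat (nat_lit 2)), (nat_lit 51, .ofNat (nat_lit 2))],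
  [(nat_lit 0, .ofNat (nat_lit 1)), (nat_lit 1, .ofNat (nat_lit 2)), (nat_lit 2, .ofNat (nat_lit 1)), (nat_lit 3, .ofNat (nat_lit 2)), (nat_lit 5, .ofNat (nat_lit 2)), (nat_lit 6, .negSucc (nat_lit 0)), (nat_lit 7, .negSucc (nat_lit 0)), (nat_lit 8, .negSucc (nat_lit 1)), (nat_lit 9, .negSucc (nat_lit 1)), (nat_lit 12, .ofNat (nat_lit 2)), (nat_lit 13, .ofNat (nat_lit 2)), (nat_lit 14, .negSucc (nat_lit 1)), (nat_lit 15, .negSucc (nat_lit 1)), (nat_lit 16, .negSucc (nat_lit 0)), (nat_lit 17, .negSucc (nat_lit 0)), (nat_lit 18, .negSucc (nat_lit 1)), (nat_lit 19, .negSucc (nat_lit 1)), (nat_lit 22, .ofNat (nat_lit 2)), (nat_lit 23, .ofNat (nat_lit 2)), (nat_lit 24, .negSucc (nat_lit 1)), (nat_lit 25, .negSucc (nat_lit 1)), (nat_lit 26, .ofNat (nat_lit 1)), (nat_lit 27, .ofNat (nat_lit 1)), (nat_lit 28, .ofNat (nat_lit 2)), (nat_lit 29, .ofNat (nat_lit 2)), (nat_lit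 30, .negSucc (nat_lit 1)), (nat_lit 31, .negSucc (nat_lit 1)), (nat_lit 32, .ofNat (nat_lit 2)), (nat_lit 33, .negSucc (nat_lit 5)), (nat_lit 34, .ofNat (nat_lit 2)), (nat_lit 35, .ofNat (nat_lit 2)), (nat_lit 36, .negSucc (nat_lit 1)), (nat_lit 37, .negSucc (nat_lit 1)), (nat_lit 38, .negSucc (nat_lit 1)), (nat_lit 39, .negSucc (nat_lit 1)), (nat_lit 40, .ofNat (nat_lit 2)), (nat_lit 41, .ofNat (nat_lit 2)), (nat_lit 42, .ofNat (nat_lit 2)), (nat_lit 43, .ofNat (nat_lit 2)), (nat_lit 44, .ofNat (nat_lit 2)), (nat_lit 45, .ofNat (nat_lit 2)), (nat_lit 46, .ofNat (nat_lit 2)), (nat_lit 47, .ofNat (nat_lit 2)), (nat_lit 48, .negSucc (nat_lit 1)), (nat_lit 49, .negSucc (nat_lit 1)), (nat_lit 50, .negSucc (nat_lit 1)), (nat_lit 51, .negSucc (nat_lit 1))],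
  [(nat_lit 0, .ofNat (nat_lit 1)), (nat_lit 1, .ofNat (nat_lit 2)), (nat_lit 2, .ofNat (nat_lit 1)), (nat_lit 3, .ofNat (nat_lit 2)), (nat_lit 5, .negSucc (nat_lit 1)), (nat_lit 6, .negSucc (nat_lit 0)), (nat_lit 7, .negSucc (nat_lit 0)), (nat_lit 8, .negSucc (nat_lit 1)), (nat_lit 9, .negSucc (nat_lit 1)), (nat_lit 12, .negSucc (nat_lit 1)), (nat_lit 13, .negSucc (nat_lit 1)), (nat_lit 14, .ofNat (nat_lit 2)), (nat_lit 15, .ofNat (nat_lit 2)), (nat_lit 16, .negSucc (nat_lit 0)), (nat_lit 17, .negSucc (nat_lit 0)), (nat_lit 18, .negSucc (nat_lit 1)), (nat_lit 19, .negSucc (nat_lit 1)), (nat_lit 22, .negSucc (nat_lit 1)), (nat_lit 23, .negSucc (nat_lit 1)), (nat_lit 24, .ofNat (nat_lit 2)), (nat_lit 25, .ofNat (nat_lit 2)), (nat_lit 26, .ofNat (nat_lit 1)), (nat_lit 27, .ofNat (nat_lit 1)), (nat_lit 28, .ofNat (nat_lit 2)), (nat_lit 29, .ofNat (nat_lit 2)), (nat_lit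 30, .ofNat (nat_lit 2)), (nat_lit 31, .negSucc (nat_lit 1)), (nat_lit 32, .ofNat (nat_lit 2)), (nat_lit 33, .ofNat (nat_lit 2)), (nat_lit 34, .negSucc (nat_lit 5)), (nat_lit 35, .ofNat (nat_lit 2)), (nat_lit 36, .ofNat (nat_lit 2)), (nat_lit 37, .negSucc (nat_lit 1)), (nat_lit 38, .negSucc (nat_lit 1)), (nat_lit 39, .ofNat (nat_lit 2)), (nat_lit 40, .negSucc (nat_lit 1)), (nat_lit 41, .ofNat (nat_lit 2)), (nat_lit 42, .ofNat (nat_lit 2)), (nat_lit 43, .negSucc (nat_lit 1)), (nat_lit 44, .negSucc (nat_lit 1)), (nat_lit 45, .ofNat (nat_lit 2)), (nat_lit 46, .ofNat (nat_lit 2)), (nat_lit 47, .negSucc (nat_lit 1)), (nat_lit 48, .ofNat (nat_lit 2)), (nat_lit 49, .negSucc (nat_lit 1)), (nat_lit 50, .negSucc (nat_lit 1)), (nat_lit 51, .ofNat (nat_lit 2))],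
  [(nat_lit 0, .ofNat (nat_lit 1)), (nat_lit 1, .ofNat (nat_lit 2)), (nat_lit 2, .ofNat (nat_lit 1)), (nat_lit 3, .ofNat (nat_lit 2)), (nat_lit 5, .negSucc (nat_lit 1)), (nat_lit 6, .negSucc (nat_lit 0)), (nat_lit 7, .negSucc (nat_lit 0)), (nat_lit 8, .negSucc (nat_lit 1)), (nat_lit 9, .negSucc (nat_lit 1)), (nat_lit 12, .negSucc (nat_lit 1)), (nat_lit 13, .negSucc (nat_lit 1)), (nat_lit 14, .ofNat (nat_lit 2)), (nat_lit 15, .ofNat (nat_lit 2)), (nat_lit 16, .negSucc (nat_lit 0)), (nat_lit 17, .negSucc (nat_lit 0)), (nat_lit 18, .negSucc (nat_lit 1)), (nat_lit 19, .negSucc (nat_lit 1)), (nat_lit 22, .negSucc (nat_lit 1)), (nat_lit 23, .negSucc (nat_lit 1)), (nat_lit 24, .ofNat (nat_lit 2)), (nat_lit 25, .ofNat (nat_lit 2)), (nat_lit 26, .ofNat (nat_lit 1)), (nat_lit 27, .ofNat (nat_lit 1)), (nat_lit 28, .ofNat (nat_lit 2)), (nat_lit 29, .ofNat (nat_lit 2)), (nat_lit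 30, .negSucc (nat_lit 1)), (nat_lit 31, .ofNat (nat_lit 2)), (nat_lit 32, .ofNat (nat_lit 2)), (nat_lit 33, .ofNat (nat_lit 2)), (nat_lit 34, .ofNat (nat_lit 2)), (nat_lit 35, .negSucc (nat_lit 5)), (nat_lit 36, .negSucc (nat_lit 1)), (nat_lit 37, .ofNat (nat_lit 2)), (nat_lit 38, .ofNat (nat_lit 2)), (nat_lit 39, .negSucc (nat_lit 1)), (nat_lit 40, .ofNat (nat_lit 2)), (nat_lit 41, .negSucc (nat_lit 1)), (nat_lit 42, .negSucc (nat_lit 1)), (nat_lit 43, .ofNat (nat_lit 2)), (nat_lit 44, .ofNat (nat_lit 2)), (nat_lit 45, .negSucc (nat_lit 1)), (nat_lit 46, .negSucc (nat_lit 1)), (nat_lit 47, .ofNat (nat_lit 2)), (nat_lit 48, .negSucc (nat_lit 1)), (nat_lit 49, .ofNat (nat_lit 2)), (nat_lit 50, .ofNat (nat_lit 2)), (nat_lit 51, .negSucc (nat_lit 1))],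
  [(nat_lit 0, .ofNat (nat_lit 1)), (nat_lit 1, .ofNat (nat_lit 2)), (nat_lit 2, .negSucc (nat_lit 0)), (nat_lit 3, .negSucc (nat_lit 1)), (nat_lit 6, .ofNat (nat_lit 1)), (nat_lit 7, .negSucc (nat_lit 0)), (nat_lit 8, .ofNat (nat_lit 2)), (nat_lit 9, .negSucc (nat_lit 1)), (nat_lit 10, .ofNat (nat_lit 2)), (nat_lit 12, .ofNat (nat_lit 2)), (nat_lit 13, .negSucc (nat_lit 1)), (nat_lit 14, .ofNat (nat_lit 2)), (nat_lit 15, .negSucc (nat_lit 1)), (nat_lit 16, .ofNat (nat_lit 1)), (nat_lit 17, .negSucc (nat_lit 0)), (nat_lit 18, .ofNat (nat_lit 2)), (nat_lit 19, .negSucc (nat_lit 1)), (nat_lit 20, .ofNat (nat_lit 2)), (nat_lit 22, .ofNat (nat_lit 2)), (nat_lit 23, .negSucc (nat_lit 1)), (nat_lit 24, .ofNat (nat_lit 2)), (nat_lit 25, .negSucc (nat_lit 1)), (nat_lit 26, .ofNat (nat_lit 1)), (nat_lit 27, .negSucc (nat_lit 0)), (nat_lit 28, .ofNat (nat_lit 2)), (nat_lit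 29, .negSucc (nat_lit 1)), (nat_lit 30, .ofNat (nat_lit 2)), (nat_lit 32, .ofNat (nat_lit 2)), (nat_lit 33, .negSucc (nat_lit 1)), (nat_lit 34, .ofNat (nat_lit 2)), (nat_lit 35, .negSucc (nat_lit 1)), (nat_lit 36, .negSucc (nat_lit 5)), (nat_lit 37, .ofNat (nat_lit 2)), (nat_lit 38, .ofNat (nat_lit 2)), (nat_lit 39, .ofNat (nat_lit 2)), (nat_lit 40, .ofNat (nat_lit 2)), (nat_lit 41, .ofNat (nat_lit 2)), (nat_lit 42, .negSucc (nat_lit 1)), (nat_lit 43, .negSucc (nat_lit 1)), (nat_lit 44, .ofNat (nat_lit 2)), (nat_lit 45, .negSucc (nat_lit 1)), (nat_lit 46, .ofNat (nat_lit 2)), (nat_lit 47, .negSucc (nat_lit 1)), (nat_lit 48, .ofNat (nat_lit 2)), (nat_lit 49, .negSucc (nat_lit 1)), (nat_lit 50, .negSucc (nat_lit 1)), (nat_lit 51, .ofNat (nat_lit 2))],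
  [(nat_lit 0, .ofNat (nat_lit 1)), (nat_lit 1, .ofNat (nat_lit 2)), (nat_lit 2, .negSucc (nat_lit 0)), (nat_lit 3, .negSucc (nat_lit 1)), (nat_lit 6, .ofNat (nat_lit 1)), (nat_lit 7, .negSucc (nat_lit 0)), (nat_lit 8, .ofNat (nat_lit 2)), (nat_lit 9, .negSucc (nat_lit 1)), (nat_lit 10, .ofNat (nat_lit 2)), (nat_lit 12, .ofNat (nat_lit 2)), (nat_lit 13, .negSucc (nat_lit 1)), (nat_lit 14, .ofNat (nat_lit 2)), (nat_lit 15, .negSucc (nat_lit 1)), (nat_lit 16, .negSucc (nat_lit 0)), (nat_lit 17, .ofNat (nat_lit 1)), (nat_lit 18, .negSucc (nat_lit 1)), (nat_lit 19, .ofNat (nat_lit 2)), (nat_lit 21, .ofNat (nat_lit 2)), (nat_lit 22, .ofNat (nat_lit 2)), (nat_lit 23, .negSucc (nat_lit 1)), (nat_lit 24, .negSucc (nat_lit 1)), (nat_lit 25, .ofNat (nat_lit 2)), (nat_lit 26, .negSucc (nat_lit 0)), (nat_lit 27, .ofNat (nat_lit 1)), (nat_lit 28, .negSucc (nat_lit 1)), (nat_lit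 29, .ofNat (nat_lit 2)), (nat_lit 31, .ofNat (nat_lit 2)), (nat_lit 32, .ofNat (nat_lit 2)), (nat_lit 33, .negSucc (nat_lit 1)), (nat_lit 34, .negSucc (nat_lit 1)), (nat_lit 35, .ofNat (nat_lit 2)), (nat_lit 36, .ofNat (nat_lit 2)), (nat_lit 37, .negSucc (nat_lit 5)), (nat_lit 38, .ofNat (nat_lit 2)), (nat_lit 39, .ofNat (nat_lit 2)), (nat_lit 40, .ofNat (nat_lit 2)), (nat_lit 41, .ofNat (nat_lit 2)), (nat_lit 42, .negSucc (nat_lit 1)), (nat_lit 43, .negSucc (nat_lit 1)), (nat_lit 44, .negSucc (nat_lit 1)), (nat_lit 45, .ofNat (nat_lit 2)), (nat_lit 46, .negSucc (nat_lit 1)), (nat_lit 47, .ofNat (nat_lit 2)), (nat_lit 48, .negSucc (nat_lit 1)), (nat_lit 49, .ofNat (nat_lit 2)), (nat_lit 50, .ofNat (nat_lit 2)), (nat_lit 51, .negSucc (nat_lit 1))],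
  [(nat_lit 0, .ofNat (nat_lit 1)), (nat_lit 1, .ofNat (nat_lit 2)), (nat_lit 2, .negSucc (nat_lit 0)), (nat_lit 3, .negSucc (nat_lit 1)), (nat_lit 6, .negSucc (nat_lit 0)), (nat_lit 7, .ofNat (nat_lit 1)), (nat_lit 8, .negSucc (nat_lit 1)), (nat_lit 9, .ofNat (nat_lit 2)), (nat_lit 11, .ofNat (nat_lit 2)), (nat_lit 12, .ofNat (nat_lit 2)), (nat_lit 13, .negSucc (nat_lit 1)), (nat_lit 14, .negSucc (nat_lit 1)), (nat_lit 15, .ofNat (nat_lit 2)), (nat_lit 16, .ofNat (nat_lit 1)), (nat_lit 17, .negSucc (nat_lit 0)), (nat_lit 18, .ofNat (nat_lit 2)), (nat_lit 19, .negSucc (nat_lit 1)), (nat_lit 20, .ofNat (nat_lit 2)), (nat_lit 22, .ofNat (nat_lit 2)), (nat_lit 23, .negSucc (nat_lit 1)), (nat_lit 24, .ofNat (nat_lit 2)), (nat_lit 25, .negSucc (nat_lit 1)), (nat_lit 26, .negSucc (nat_lit 0)), (nat_lit 27, .ofNat (nat_lit 1)), (nat_lit 28, .negSucc (nat_lit 1)), (nat_lit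 29, .ofNat (nat_lit 2)), (nat_lit 31, .ofNat (nat_lit 2)), (nat_lit 32, .ofNat (nat_lit 2)), (nat_lit 33, .negSucc (nat_lit 1)), (nat_lit 34, .negSucc (nat_lit 1)), (nat_lit 35, .ofNat (nat_lit 2)), (nat_lit 36, .ofNat (nat_lit 2)), (nat_lit 37, .ofNat (nat_lit 2)), (nat_lit 38, .negSucc (nat_lit 5)), (nat_lit 39, .ofNat (nat_lit 2)), (nat_lit 40, .negSucc (nat_lit 1)), (nat_lit 41, .negSucc (nat_lit 1)), (nat_lit 42, .ofNat (nat_lit 2)), (nat_lit 43, .ofNat (nat_lit 2)), (nat_lit 44, .ofNat (nat_lit 2)), (nat_lit 45, .negSucc (nat_lit 1)), (nat_lit 46, .ofNat (nat_lit 2)), (nat_lit 47, .negSucc (nat_lit 1)), (nat_lit 48, .negSucc (nat_lit 1)), (nat_lit 49, .ofNat (nat_lit 2)), (nat_lit 50, .ofNat (nat_lit 2)), (nat_lit 51, .negSucc (nat_lit 1))],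
  [(nat_lit 0, .ofNat (nat_lit 1)), (nat_lit 1, .ofNat (nat_lit 2)), (nat_lit 2, .negSucc (nat_lit 0)), (nat_lit 3, .negSucc (nat_lit 1)), (nat_lit 6, .negSucc (nat_lit 0)), (nat_lit 7, .ofNat (nat_lit 1)), (nat_lit 8, .negSucc (nat_lit 1)), (nat_lit 9, .ofNat (nat_lit 2)), (nat_lit 11, .ofNat (nat_lit 2)), (nat_lit 12, .ofNat (nat_lit 2)), (nat_lit 13, .negSucc (nat_lit 1)), (nat_lit 14, .negSucc (nat_lit 1)), (nat_lit 15, .ofNat (nat_lit 2)), (nat_lit 16, .negSucc (nat_lit 0)), (nat_lit 17, .ofNat (nat_lit 1)), (nat_lit 18, .negSucc (nat_lit 1)), (nat_lit 19, .ofNat (nat_lit 2)), (nat_lit 21, .ofNat (nat_lit 2)), (nat_lit 22, .ofNat (nat_lit 2)), (nat_lit 23, .negSucc (nat_lit 1)), (nat_lit 24, .negSucc (nat_lit 1)), (nat_lit 25, .ofNat (nat_lit 2)), (nat_lit 26, .ofNat (nat_lit 1)), (nat_lit 27, .negSucc (nat_lit 0)), (nat_lit 28, .ofNat (nat_lit 2)), (nat_lit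 29, .negSucc (nat_lit 1)), (nat_lit 30, .ofNat (nat_lit 2)), (nat_lit 32, .ofNat (nat_lit 2)), (nat_lit 33, .negSucc (nat_lit 1)), (nat_lit 34, .ofNat (nat_lit 2)), (nat_lit 35, .negSucc (nat_lit 1)), (nat_lit 36, .ofNat (nat_lit 2)), (nat_lit 37, .ofNat (nat_lit 2)), (nat_lit 38, .ofNat (nat_lit 2)), (nat_lit 39, .negSucc (nat_lit 5)), (nat_lit 40, .negSucc (nat_lit 1)), (nat_lit 41, .negSucc (nat_lit 1)), (nat_lit 42, .ofNat (nat_lit 2)), (nat_lit 43, .ofNat (nat_lit 2)), (nat_lit 44, .negSucc (nat_lit 1)), (nat_lit 45, .ofNat (nat_lit 2)), (nat_lit 46, .negSucc (nat_lit 1)), (nat_lit 47, .ofNat (nat_lit 2)), (nat_lit 48, .ofNat (nat_lit 2)), (nat_lit 49, .negSucc (nat_lit 1)), (nat_lit 50, .negSucc (nat_lit 1)), (nat_lit 51, .ofNat (nat_lit 2))],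
  [(nat_lit 0, .ofNat (nat_lit 1)), (nat_lit 1, .ofNat (nat_lit 2)), (nat_lit 2, .negSucc (nat_lit 0)), (nat_lit 3, .negSucc (nat_lit 1)), (nat_lit 6, .ofNat (nat_lit 1)), (nat_lit 7, .negSucc (nat_lit 0)), (nat_lit 8, .ofNat (nat_lit 2)), (nat_lit 9, .negSucc (nat_lit 1)), (nat_lit 10, .ofNat (nat_lit 2)), (nat_lit 12, .ofNat (nat_lit 2)), (nat_lit 13, .negSucc (nat_lit 1)), (nat_lit 14, .ofNat (nat_lit 2)), (nat_lit 15, .negSucc (nat_lit 1)), (nat_lit 16, .ofNat (nat_lit 1)), (nat_lit 17, .negSucc (nat_lit 0)), (nat_lit 18, .ofNat (nat_lit 2)), (nat_lit 19, .negSucc (nat_lit 1)), (nat_lit 20, .negSucc (nat_lit 1)), (nat_lit 22, .negSucc (nat_lit 1)), (nat_lit 23, .ofNat (nat_lit 2)), (nat_lit 24, .negSucc (nat_lit 1)), (nat_lit 25, .ofNat (nat_lit 2)), (nat_lit 26, .ofNat (nat_lit 1)), (nat_lit 27, .negSucc (nat_lit 0)), (nat_lit 28, .ofNat (nat_lit 2)), (nat_lit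 29, .negSucc (nat_lit 1)), (nat_lit 30, .negSucc (nat_lit 1)), (nat_lit 32, .negSucc (nat_lit 1)), (nat_lit 33, .ofNat (nat_lit 2)), (nat_lit 34, .negSucc (nat_lit 1)), (nat_lit 35, .ofNat (nat_lit 2)), (nat_lit 36, .ofNat (nat_lit 2)), (nat_lit 37, .ofNat (nat_lit 2)), (nat_lit 38, .negSucc (nat_lit 1)), (nat_lit 39, .negSucc (nat_lit 1)), (nat_lit 40, .negSucc (nat_lit 5)), (nat_lit 41, .ofNat (nat_lit 2)), (nat_lit 42, .ofNat (nat_lit 2)), (nat_lit 43, .ofNat (nat_lit 2)), (nat_lit 44, .ofNat (nat_lit 2)), (nat_lit 45, .negSucc (nat_lit 1)), (nat_lit 46, .negSucc (nat_lit 1)), (nat_lit 47, .ofNat (nat_lit 2)), (nat_lit 48, .ofNat (nat_lit 2)), (nat_lit 49, .negSucc (nat_lit 1)), (nat_lit 50, .ofNat (nat_lit 2)), (nat_lit 51, .negSucc (nat_lit 1))],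
  [(nat_lit 0, .ofNat (nat_lit 1)), (nat_lit 1, .ofNat (nat_lit 2)), (nat_lit 2, .negSucc (nat_lit 0)), (nat_lit 3, .negSucc (nat_lit 1)), (nat_lit 6, .ofNat (nat_lit 1)), (nat_lit 7, .negSucc (nat_lit 0)), (nat_lit 8, .ofNat (nat_lit 2)), (nat_lit 9, .negSucc (nat_lit 1)), (nat_lit 10, .ofNat (nat_lit 2)), (nat_lit 12, .ofNat (nat_lit 2)), (nat_lit 13, .negSucc (nat_lit 1)), (nat_lit 14, .ofNat (nat_lit 2)), (nat_lit 15, .negSucc (nat_lit 1)), (nat_lit 16, .negSucc (nat_lit 0)), (nat_lit 17, .ofNat (nat_lit 1)), (nat_lit 18, .negSucc (nat_lit 1)), (nat_lit 19, .ofNat (nat_lit 2)), (nat_lit 21, .negSucc (nat_lit 1)), (nat_lit 22, .negSucc (nat_lit 1)), (nat_lit 23, .ofNat (nat_lit 2)), (nat_lit 24, .ofNat (nat_lit 2)), (nat_lit 25, .negSucc (nat_lit 1)), (nat_lit 26, .negSucc (nat_lit 0)), (nat_lit 27, .ofNat (nat_lit 1)), (nat_lit 28, .negSucc (nat_lit 1)), (nat_lit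 29, .ofNat (nat_lit 2)), (nat_lit 31, .negSucc (nat_lit 1)), (nat_lit 32, .negSucc (nat_lit 1)), (nat_lit 33, .ofNat (nat_lit 2)), (nat_lit 34, .ofNat (nat_lit 2)), (nat_lit 35, .negSucc (nat_lit 1)), (nat_lit 36, .ofNat (nat_lit 2)), (nat_lit 37, .ofNat (nat_lit 2)), (nat_lit 38, .negSucc (nat_lit 1)), (nat_lit 39, .negSucc (nat_lit 1)), (nat_lit 40, .ofNat (nat_lit 2)), (nat_lit 41, .negSucc (nat_lit 5)), (nat_lit 42, .ofNat (nat_lit 2)), (nat_lit 43, .ofNat (nat_lit 2)), (nat_lit 44, .negSucc (nat_lit 1)), (nat_lit 45, .ofNat (nat_lit 2)), (nat_lit 46, .ofNat (nat_lit 2)), (nat_lit 47, .negSucc (nat_lit 1)), (nat_lit 48, .negSucc (nat_lit 1)), (nat_lit 49, .ofNat (nat_lit 2)), (nat_lit 50, .negSucc (nat_lit 1)), (nat_lit 51, .ofNat (nat_lit 2))],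
  [(nat_lit 0, .ofNat (nat_lit 1)), (nat_lit 1, .ofNat (nat_lit 2)), (nat_lit 2, .negSucc (nat_lit 0)), (nat_lit 3, .negSucc (nat_lit 1)), (nat_lit 6, .negSucc (nat_lit 0)), (nat_lit 7, .ofNat (nat_lit 1)), (nat_lit 8, .negSucc (nat_lit 1)), (nat_lit 9, .ofNat (nat_lit 2)), (nat_lit 11, .ofNat (nat_lit 2)), (nat_lit 12, .ofNat (nat_lit 2)), (nat_lit 13, .negSucc (nat_lit 1)), (nat_lit 14, .negSucc (nat_lit 1)), (nat_lit 15, .ofNat (nat_lit 2)), (nat_lit 16, .ofNat (nat_lit 1)), (nat_lit 17, .negSucc (nat_lit 0)), (nat_lit 18, .ofNat (nat_lit 2)), (nat_lit 19, .negSucc (nat_lit 1)), (nat_lit 20, .negSucc (nat_lit 1)), (nat_lit 22, .negSucc (nat_lit 1)), (nat_lit 23, .ofNat (nat_lit 2)), (nat_lit 24, .negSucc (nat_lit 1)), (nat_lit 25, .ofNat (nat_lit 2)), (nat_lit 26, .negSucc (nat_lit 0)), (nat_lit 27, .ofNat (nat_lit 1)), (nat_lit 28, .negSucc (nat_lit 1)), (nat_lit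 29, .ofNat (nat_lit 2)), (nat_lit 31, .negSucc (nat_lit 1)), (nat_lit 32, .negSucc (nat_lit 1)), (nat_lit 33, .ofNat (nat_lit 2)), (nat_lit 34, .ofNat (nat_lit 2)), (nat_lit 35, .negSucc (nat_lit 1)), (nat_lit 36, .negSucc (nat_lit 1)), (nat_lit 37, .negSucc (nat_lit 1)), (nat_lit 38, .ofNat (nat_lit 2)), (nat_lit 39, .ofNat (nat_lit 2)), (nat_lit 40, .ofNat (nat_lit 2)), (nat_lit 41, .ofNat (nat_lit 2)), (nat_lit 42, .negSucc (nat_lit 5)), (nat_lit 43, .ofNat (nat_lit 2)), (nat_lit 44, .negSucc (nat_lit 1)), (nat_lit 45, .ofNat (nat_lit 2)), (nat_lit 46, .ofNat (nat_lit 2)), (nat_lit 47, .negSucc (nat_lit 1)), (nat_lit 48, .ofNat (nat_lit 2)), (nat_lit 49, .negSucc (nat_lit 1)), (nat_lit 50, .ofNat (nat_lit 2)), (nat_lit 51, .negSucc (nat_lit 1))],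
  [(nat_lit 0, .ofNat (nat_lit 1)), (nat_lit 1, .ofNat (nat_lit 2)), (nat_lit 2, .negSucc (nat_lit 0)), (nat_lit 3, .negSucc (nat_lit 1)), (nat_lit 6, .negSucc (nat_lit 0)), (nat_lit 7, .ofNat (nat_lit 1)), (nat_lit 8, .negSucc (nat_lit 1)), (nat_lit 9, .ofNat (nat_lit 2)), (nat_lit 11, .ofNat (nat_lit 2)), (nat_lit 12, .ofNat (nat_lit 2)), (nat_lit 13, .negSucc (nat_lit 1)), (nat_lit 14, .negSucc (nat_lit 1)), (nat_lit 15, .ofNat (nat_lit 2)), (nat_lit 16, .negSucc (nat_lit 0)), (nat_lit 17, .ofNat (nat_lit 1)), (nat_lit 18, .negSucc (nat_lit 1)), (nat_lit 19, .ofNat (nat_lit 2)), (nat_lit 21, .negSucc (nat_lit 1)), (nat_lit 22, .negSucc (nat_lit 1)), (nat_lit 23, .ofNat (nat_lit 2)), (nat_lit 24, .ofNat (nat_lit 2)), (nat_lit 25, .negSucc (nat_lit 1)), (nat_lit 26, .ofNat (nat_lit 1)), (nat_lit 27, .negSucc (nat_lit 0)), (nat_lit 28, .ofNat (nat_lit 2)), (nat_lit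 29, .negSucc (nat_lit 1)), (nat_lit 30, .negSucc (nat_lit 1)), (nat_lit 32, .negSucc (nat_lit 1)), (nat_lit 33, .ofNat (nat_lit 2)), (nat_lit 34, .negSucc (nat_lit 1)), (nat_lit 35, .ofNat (nat_lit 2)), (nat_lit 36, .negSucc (nat_lit 1)), (nat_lit 37, .negSucc (nat_lit 1)), (nat_lit 38, .ofNat (nat_lit 2)), (nat_lit 39, .ofNat (nat_lit 2)), (nat_lit 40, .ofNat (nat_lit 2)), (nat_lit 41, .ofNat (nat_lit 2)), (nat_lit 42, .ofNat (nat_lit 2)), (nat_lit 43, .negSucc (nat_lit 5)), (nat_lit 44, .ofNat (nat_lit 2)), (nat_lit 45, .negSucc (nat_lit 1)), (nat_lit 46, .negSucc (nat_lit 1)), (nat_lit 47, .ofNat (nat_lit 2)), (nat_lit 48, .negSucc (nat_lit 1)), (nat_lit 49, .ofNat (nat_lit 2)), (nat_lit 50, .negSucc (nat_lit 1)), (nat_lit 51, .ofNat (nat_lit 2))],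
  [(nat_lit 0, .ofNat (nat_lit 1)), (nat_lit 1, .ofNat (nat_lit 2)), (nat_lit 2, .negSucc (nat_lit 0)), (nat_lit 3, .negSucc (nat_lit 1)), (nat_lit 6, .ofNat (nat_lit 1)), (nat_lit 7, .negSucc (nat_lit 0)), (nat_lit 8, .ofNat (nat_lit 2)), (nat_lit 9, .negSucc (nat_lit 1)), (nat_lit 10, .negSucc (nat_lit 1)), (nat_lit 12, .negSucc (nat_lit 1)), (nat_lit 13, .ofNat (nat_lit 2)), (nat_lit 14, .negSucc (nat_lit 1)), (nat_lit 15, .ofNat (nat_lit 2)), (nat_lit 16, .ofNat (nat_lit 1)), (nat_lit 17, .negSucc (nat_lit 0)), (nat_lit 18, .ofNat (nat_lit 2)), (nat_lit 19, .negSucc (nat_lit 1)), (nat_lit 20, .ofNat (nat_lit 2)), (nat_lit 22, .ofNat (nat_lit 2)), (nat_lit 23, .negSucc (nat_lit 1)), (nat_lit 24, .ofNat (nat_lit 2)), (nat_lit 25, .negSucc (nat_lit 1)), (nat_lit 26, .ofNat (nat_lit 1)), (nat_lit 27, .negSucc (nat_lit 0)), (nat_lit 28, .ofNat (nat_lit 2)), (nat_lit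 29, .negSucc (nat_lit 1)), (nat_lit 30, .negSucc (nat_lit 1)), (nat_lit 32, .negSucc (nat_lit 1)), (nat_lit 33, .ofNat (nat_lit 2)), (nat_lit 34, .negSucc (nat_lit 1)), (nat_lit 35, .ofNat (nat_lit 2)), (nat_lit 36, .ofNat (nat_lit 2)), (nat_lit 37, .negSucc (nat_lit 1)), (nat_lit 38, .ofNat (nat_lit 2)), (nat_lit 39, .negSucc (nat_lit 1)), (nat_lit 40, .ofNat (nat_lit 2)), (nat_lit 41, .negSucc (nat_lit 1)), (nat_lit 42, .negSucc (nat_lit 1)), (nat_lit 43, .ofNat (nat_lit 2)), (nat_lit 44, .negSucc (nat_lit 5)), (nat_lit 45, .ofNat (nat_lit 2)), (nat_lit 46, .ofNat (nat_lit 2)), (nat_lit 47, .ofNat (nat_lit 2)), (nat_lit 48, .ofNat (nat_lit 2)), (nat_lit 49, .ofNat (nat_lit 2)), (nat_lit 50, .negSucc (nat_lit 1)), (nat_lit 51, .negSucc (nat_lit 1))],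
  [(nat_lit 0, .ofNat (nat_lit 1)), (nat_lit 1, .ofNat (nat_lit 2)), (nat_lit 2, .negSucc (nat_lit 0)), (nat_lit 3, .negSucc (nat_lit 1)), (nat_lit 6, .ofNat (nat_lit 1)), (nat_lit 7, .negSucc (nat_lit 0)), (nat_lit 8, .ofNat (nat_lit 2)), (nat_lit 9, .negSucc (nat_lit 1)), (nat_lit 10, .negSucc (nat_lit 1)), (nat_lit 12, .negSucc (nat_lit 1)), (nat_lit 13, .ofNat (nat_lit 2)), (nat_lit 14, .negSucc (nat_lit 1)), (nat_lit 15, .ofNat (nat_lit 2)), (nat_lit 16, .negSucc (nat_lit 0)), (nat_lit 17, .ofNat (nat_lit 1)), (nat_lit 18, .negSucc (nat_lit 1)), (nat_lit 19, .ofNat (nat_lit 2)), (nat_lit 21, .ofNat (nat_lit 2)), (nat_lit 22, .ofNat (nat_lit 2)), (nat_lit 23, .negSucc (nat_lit 1)), (nat_lit 24, .negSucc (nat_lit 1)), (nat_lit 25, .ofNat (nat_lit 2)), (nat_lit 26, .negSucc (nat_lit 0)), (nat_lit 27, .ofNat (nat_lit 1)), (nat_lit 28, .negSucc (nat_lit 1)), (nat_lit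 29, .ofNat (nat_lit 2)), (nat_lit 31, .negSucc (nat_lit 1)), (nat_lit 32, .negSucc (nat_lit 1)), (nat_lit 33, .ofNat (nat_lit 2)), (nat_lit 34, .ofNat (nat_lit 2)), (nat_lit 35, .negSucc (nat_lit 1)), (nat_lit 36, .negSucc (nat_lit 1)), (nat_lit 37, .ofNat (nat_lit 2)), (nat_lit 38, .negSucc (nat_lit 1)), (nat_lit 39, .ofNat (nat_lit 2)), (nat_lit 40, .negSucc (nat_lit 1)), (nat_lit 41, .ofNat (nat_lit 2)), (nat_lit 42, .ofNat (nat_lit 2)), (nat_lit 43, .negSucc (nat_lit 1)), (nat_lit 44, .ofNat (nat_lit 2)), (nat_lit 45, .negSucc (nat_lit 5)), (nat_lit 46, .ofNat (nat_lit 2)), (nat_lit 47, .ofNat (nat_lit 2)), (nat_lit 48, .ofNat (nat_lit 2)), (nat_lit 49, .ofNat (nat_lit 2)), (nat_lit 50, .negSucc (nat_lit 1)), (nat_lit 51, .negSucc (nat_lit 1))],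
  [(nat_lit 0, .ofNat (nat_lit 1)), (nat_lit 1, .ofNat (nat_lit 2)), (nat_lit 2, .negSucc (nat_lit 0)), (nat_lit 3, .negSucc (nat_lit 1)), (nat_lit 6, .negSucc (nat_lit 0)), (nat_lit 7, .ofNat (nat_lit 1)), (nat_lit 8, .negSucc (nat_lit 1)), (nat_lit 9, .ofNat (nat_lit 2)), (nat_lit 11, .negSucc (nat_lit 1)), (nat_lit 12, .negSucc (nat_lit 1)), (nat_lit 13, .ofNat (nat_lit 2)), (nat_lit 14, .ofNat (nat_lit 2)), (nat_lit 15, .negSucc (nat_lit 1)), (nat_lit 16, .ofNat (nat_lit 1)), (nat_lit 17, .negSucc (nat_lit 0)), (nat_lit 18, .ofNat (nat_lit 2)), (nat_lit 19, .negSucc (nat_lit 1)), (nat_lit 20, .ofNat (nat_lit 2)), (nat_lit 22, .ofNat (nat_lit 2)), (nat_lit 23, .negSucc (nat_lit 1)), (nat_lit 24, .ofNat (nat_lit 2)), (nat_lit 25, .negSucc (nat_lit 1)), (nat_lit 26, .negSucc (nat_lit 0)), (nat_lit 27, .ofNat (nat_lit 1)), (nat_lit 28, .negSucc (nat_lit 1)), (nat_lit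 29, .ofNat (nat_lit 2)), (nat_lit 31, .negSucc (nat_lit 1)), (nat_lit 32, .negSucc (nat_lit 1)), (nat_lit 33, .ofNat (nat_lit 2)), (nat_lit 34, .ofNat (nat_lit 2)), (nat_lit 35, .negSucc (nat_lit 1)), (nat_lit 36, .ofNat (nat_lit 2)), (nat_lit 37, .negSucc (nat_lit 1)), (nat_lit 38, .ofNat (nat_lit 2)), (nat_lit 39, .negSucc (nat_lit 1)), (nat_lit 40, .negSucc (nat_lit 1)), (nat_lit 41, .ofNat (nat_lit 2)), (nat_lit 42, .ofNat (nat_lit 2)), (nat_lit 43, .negSucc (nat_lit 1)), (nat_lit 44, .ofNat (nat_lit 2)), (nat_lit 45, .ofNat (nat_lit 2)), (nat_lit 46, .negSucc (nat_lit 5)), (nat_lit 47, .ofNat (nat_lit 2)), (nat_lit 48, .negSucc (nat_lit 1)), (nat_lit 49, .negSucc (nat_lit 1)), (nat_lit 50, .ofNat (nat_lit 2)), (nat_lit 51, .ofNat (nat_lit 2))],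
  [(nat_lit 0, .ofNat (nat_lit 1)), (nat_lit 1, .ofNat (nat_lit 2)), (nat_lit 2, .negSucc (nat_lit 0)), (nat_lit 3, .negSucc (nat_lit 1)), (nat_lit 6, .negSucc (nat_lit 0)), (nat_lit 7, .ofNat (nat_lit 1)), (nat_lit 8, .negSucc (nat_lit 1)), (nat_lit 9, .ofNat (nat_lit 2)), (nat_lit 11, .negSucc (nat_lit 1)), (nat_lit 12, .negSucc (nat_lit 1)), (nat_lit 13, .ofNat (nat_lit 2)), (nat_lit 14, .ofNat (nat_lit 2)), (nat_lit 15, .negSucc (nat_lit 1)), (nat_lit 16, .negSucc (nat_lit 0)), (nat_lit 17, .ofNat (nat_lit 1)), (nat_lit 18, .negSucc (nat_lit 1)), (nat_lit 19, .ofNat (nat_lit 2)), (nat_lit 21, .ofNat (nat_lit 2)), (nat_lit 22, .ofNat (nat_lit 2)), (nat_lit 23, .negSucc (nat_lit 1)), (nat_lit 24, .negSucc (nat_lit 1)), (nat_lit 25, .ofNat (nat_lit 2)), (nat_lit 26, .ofNat (nat_lit 1)), (nat_lit 27, .negSucc (nat_lit 0)), (nat_lit 28, .ofNat (nat_lit 2)), (nat_lit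 29, .negSucc (nat_lit 1)), (nat_lit 30, .negSucc (nat_lit 1)), (nat_lit 32, .negSucc (nat_lit 1)), (nat_lit 33, .ofNat (nat_lit 2)), (nat_lit 34, .negSucc (nat_lit 1)), (nat_lit 35, .ofNat (nat_lit 2)), (nat_lit 36, .negSucc (nat_lit 1)), (nat_lit 37, .ofNat (nat_lit 2)), (nat_lit 38, .negSucc (nat_lit 1)), (nat_lit 39, .ofNat (nat_lit 2)), (nat_lit 40, .ofNat (nat_lit 2)), (nat_lit 41, .negSucc (nat_lit 1)), (nat_lit 42, .negSucc (nat_lit 1)), (nat_lit 43, .ofNat (nat_lit 2)), (nat_lit 44, .ofNat (nat_lit 2)), (nat_lit 45, .ofNat (nat_lit 2)), (nat_lit 46, .ofNat (nat_lit 2)), (nat_lit 47, .negSucc (nat_lit 5)), (nat_lit 48, .negSucc (nat_lit 1)), (nat_lit 49, .negSucc (nat_lit 1)), (nat_lit 50, .ofNat (nat_lit 2)), (nat_lit 51, .ofNat (nat_lit 2))],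
  [(nat_lit 0, .ofNat (nat_lit 1)), (nat_lit 1, .ofNat (nat_lit 2)), (nat_lit 2, .negSucc (nat_lit 0)), (nat_lit 3, .negSucc (nat_lit 1)), (nat_lit 6, .ofNat (nat_lit 1)), (nat_lit 7, .negSucc (nat_lit 0)), (nat_lit 8, .ofNat (nat_lit 2)), (nat_lit 9, .negSucc (nat_lit 1)), (nat_lit 10, .negSucc (nat_lit 1)), (nat_lit 12, .negSucc (nat_lit 1)), (nat_lit 13, .ofNat (nat_lit 2)), (nat_lit 14, .negSucc (nat_lit 1)), (nat_lit 15, .ofNat (nat_lit 2)), (nat_lit 16, .ofNat (nat_lit 1)), (nat_lit 17, .negSucc (nat_lit 0)), (nat_lit 18, .ofNat (nat_lit 2)), (nat_lit 19, .negSucc (nat_lit 1)), (nat_lit 20, .negSucc (nat_lit 1)), (nat_lit 22, .negSucc (nat_lit 1)), (nat_lit 23, .ofNat (nat_lit 2)), (nat_lit 24, .negSucc (nat_lit 1)), (nat_lit 25, .ofNat (nat_lit 2)), (nat_lit 26, .ofNat (nat_lit 1)), (nat_lit 27, .negSucc (nat_lit 0)), (nat_lit 28, .ofNat (nat_lit 2)), (nat_lit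 29, .negSucc (nat_lit 1)), (nat_lit 30, .ofNat (nat_lit 2)), (nat_lit 32, .ofNat (nat_lit 2)), (nat_lit 33, .negSucc (nat_lit 1)), (nat_lit 34, .ofNat (nat_lit 2)), (nat_lit 35, .negSucc (nat_lit 1)), (nat_lit 36, .ofNat (nat_lit 2)), (nat_lit 37, .negSucc (nat_lit 1)), (nat_lit 38, .negSucc (nat_lit 1)), (nat_lit 39, .ofNat (nat_lit 2)), (nat_lit 40, .ofNat (nat_lit 2)), (nat_lit 41, .negSucc (nat_lit 1)), (nat_lit 42, .ofNat (nat_lit 2)), (nat_lit 43, .negSucc (nat_lit 1)), (nat_lit 44, .ofNat (nat_lit 2)), (nat_lit 45, .ofNat (nat_lit 2)), (nat_lit 46, .negSucc (nat_lit 1)), (nat_lit 47, .negSucc (nat_lit 1)), (nat_lit 48, .negSucc (nat_lit 5)), (nat_lit 49, .ofNat (nat_lit 2)), (nat_lit 50, .ofNat (nat_lit 2)), (nat_lit 51, .ofNat (nat_lit 2))],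
  [(nat_lit 0, .ofNat (nat_lit 1)), (nat_lit 1, .ofNat (nat_lit 2)), (nat_lit 2, .negSucc (nat_lit 0)), (nat_lit 3, .negSucc (nat_lit 1)), (nat_lit 6, .ofNat (nat_lit 1)), (nat_lit 7, .negSucc (nat_lit 0)), (nat_lit 8, .ofNat (nat_lit 2)), (nat_lit 9, .negSucc (nat_lit 1)), (nat_lit 10, .negSucc (nat_lit 1)), (nat_lit 12, .negSucc (nat_lit 1)), (nat_lit 13, .ofNat (nat_lit 2)), (nat_lit 14, .negSucc (nat_lit 1)), (nat_lit 15, .ofNat (nat_lit 2)), (nat_lit 16, .negSucc (nat_lit 0)), (nat_lit 17, .ofNat (nat_lit 1)), (nat_lit 18, .negSucc (nat_lit 1)), (nat_lit 19, .ofNat (nat_lit 2)), (nat_lit 21, .negSucc (nat_lit 1)), (nat_lit 22, .negSucc (nat_lit 1)), (nat_lit 23, .ofNat (nat_lit 2)), (nat_lit 24, .ofNat (nat_lit 2)), (nat_lit 25, .negSucc (nat_lit 1)), (nat_lit 26, .negSucc (nat_lit 0)), (nat_lit 27, .ofNat (nat_lit 1)), (nat_lit 28, .negSucc (nat_lit 1)),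 (nat_lit 29, .ofNat (nat_lit 2)), (nat_lit 31, .ofNat (nat_lit 2)), (nat_lit 32, .ofNat (nat_lit 2)), (nat_lit 33, .negSucc (nat_lit 1)), (nat_lit 34, .negSucc (nat_lit 1)), (nat_lit 35, .ofNat (nat_lit 2)), (nat_lit 36, .negSucc (nat_lit 1)), (nat_lit 37, .ofNat (nat_lit 2)), (nat_lit 38, .ofNat (nat_lit 2)), (nat_lit 39, .negSucc (nat_lit 1)), (nat_lit 40, .negSucc (nat_lit 1)), (nat_lit 41, .ofNat (nat_lit 2)), (nat_lit 42, .negSucc (nat_lit 1)), (nat_lit 43, .ofNat (nat_lit 2)), (nat_lit 44, .ofNat (nat_lit 2)), (nat_lit 45, .ofNat (nat_lit 2)), (nat_lit 46, .negSucc (nat_lit 1)), (nat_lit 47, .negSucc (nat_lit 1)), (nat_lit 48, .ofNat (nat_lit 2)), (nat_lit 49, .negSucc (nat_lit 5)), (nat_lit 50, .ofNat (nat_lit 2)), (nat_lit 51, .ofNat (nat_lit 2))],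
  [(nat_lit 0, .ofNat (nat_lit 1)), (nat_lit 1, .ofNat (nat_lit 2)), (nat_lit 2, .negSucc (nat_lit 0)), (nat_lit 3, .negSucc (nat_lit 1)), (nat_lit 6, .negSucc (nat_lit 0)), (nat_lit 7, .ofNat (nat_lit 1)), (nat_lit 8, .negSucc (nat_lit 1)), (nat_lit 9, .ofNat (nat_lit 2)), (nat_lit 11, .negSucc (nat_lit 1)), (nat_lit 12, .negSucc (nat_lit 1)), (nat_lit 13, .ofNat (nat_lit 2)), (nat_lit 14, .ofNat (nat_lit 2)), (nat_lit 15, .negSucc (nat_lit 1)), (nat_lit 16, .ofNat (nat_lit 1)), (nat_lit 17, .negSucc (nat_lit 0)), (nat_lit 18, .ofNat (nat_lit 2)), (nat_lit 19, .negSucc (nat_lit 1)), (nat_lit 20, .negSucc (nat_lit 1)), (nat_lit 22, .negSucc (nat_lit 1)), (nat_lit 23, .ofNat (nat_lit 2)), (nat_lit 24, .negSucc (nat_lit 1)), (nat_lit 25, .ofNat (nat_lit 2)), (nat_lit 26, .negSucc (nat_lit 0)), (nat_lit 27, .ofNat (nat_lit 1)), (nat_lit 28, .negSucc (nat_lit 1)),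 (nat_lit 29, .ofNat (nat_lit 2)), (nat_lit 31, .ofNat (nat_lit 2)), (nat_lit 32, .ofNat (nat_lit 2)), (nat_lit 33, .negSucc (nat_lit 1)), (nat_lit 34, .negSucc (nat_lit 1)), (nat_lit 35, .ofNat (nat_lit 2)), (nat_lit 36, .negSucc (nat_lit 1)), (nat_lit 37, .ofNat (nat_lit 2)), (nat_lit 38, .ofNat (nat_lit 2)), (nat_lit 39, .negSucc (nat_lit 1)), (nat_lit 40, .ofNat (nat_lit 2)), (nat_lit 41, .negSucc (nat_lit 1)), (nat_lit 42, .ofNat (nat_lit 2)), (nat_lit 43, .negSucc (nat_lit 1)), (nat_lit 44, .negSucc (nat_lit 1)), (nat_lit 45, .negSucc (nat_lit 1)), (nat_lit 46, .ofNat (nat_lit 2)), (nat_lit 47, .ofNat (nat_lit 2)), (nat_lit 48, .ofNat (nat_lit 2)), (nat_lit 49, .ofNat (nat_lit 2)), (nat_lit 50, .negSucc (nat_lit 5)), (nat_lit 51, .ofNat (nat_lit 2))],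
  [(nat_lit 0, .ofNat (nat_lit 1)), (nat_lit 1, .ofNat (nat_lit 2)), (nat_lit 2, .negSucc (nat_lit 0)), (nat_lit 3, .negSucc (nat_lit 1)), (nat_lit 6, .negSucc (nat_lit 0)), (nat_lit 7, .ofNat (nat_lit 1)), (nat_lit 8, .negSucc (nat_lit 1)), (nat_lit 9, .ofNat (nat_lit 2)), (nat_lit 11, .negSucc (nat_lit 1)), (nat_lit 12, .negSucc (nat_lit 1)), (nat_lit 13, .ofNat (nat_lit 2)), (nat_lit 14, .ofNat (nat_lit 2)), (nat_lit 15, .negSucc (nat_lit 1)), (nat_lit 16, .negSucc (nat_lit 0)), (nat_lit 17, .ofNat (nat_lit 1)), (nat_lit 18, .negSucc (nat_lit 1)), (nat_lit 19, .ofNat (nat_lit 2)), (nat_lit 21, .negSucc (nat_lit 1)), (nat_lit 22, .negSucc (nat_lit 1)), (nat_lit 23, .ofNat (nat_lit 2)), (nat_lit 24, .ofNat (nat_lit 2)), (nat_lit 25, .negSucc (nat_lit 1)), (nat_lit 26, .ofNat (nat_lit 1)), (nat_lit 27, .negSucc (nat_lit 0)), (nat_lit 28, .ofNat (nat_lit 2)), (nat_lit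 29, .negSucc (nat_lit 1)), (nat_lit 30, .ofNat (nat_lit 2)), (nat_lit 32, .ofNat (nat_lit 2)), (nat_lit 33, .negSucc (nat_lit 1)), (nat_lit 34, .ofNat (nat_lit 2)), (nat_lit 35, .negSucc (nat_lit 1)), (nat_lit 36, .ofNat (nat_lit 2)), (nat_lit 37, .negSucc (nat_lit 1)), (nat_lit 38, .negSucc (nat_lit 1)), (nat_lit 39, .ofNat (nat_lit 2)), (nat_lit 40, .negSucc (nat_lit 1)), (nat_lit 41, .ofNat (nat_lit 2)), (nat_lit 42, .negSucc (nat_lit 1)), (nat_lit 43, .ofNat (nat_lit 2)), (nat_lit 44, .negSucc (nat_lit 1)), (nat_lit 45, .negSucc (nat_lit 1)), (nat_lit 46, .ofNat (nat_lit 2)), (nat_lit 47, .ofNat (nat_lit 2)), (nat_lit 48, .ofNat (nat_lit 2)), (nat_lit 49, .ofNat (nat_lit 2)), (nat_lit 50, .ofNat (nat_lit 2)), (nat_lit 51, .negSucc (nat_lit 5))]]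

/-- The matrix of the root 1, times sixteen. -/
def mat1 : List (List (Nat × Int)) := [
  [(nat_lit 1, .ofNat (nat_lit 16)), (nat_lit 3, .negSucc (nat_lit 15)), (nat_lit 4, .ofNat (nat_lit 8)), (nat_lit 5, .ofNat (nat_lit 8))],
  [(nat_lit 0, .ofNat (nat_lit 4)), (nat_lit 2, .negSucc (nat_lit 3)), (nat_lit 4, .ofNat (nat_lit 4)), (nat_lit 5, .negSucc (nat_lit 3))],
  [(nat_lit 1, .negSucc (nat_lit 15)), (nat_lit 3, .ofNat (nat_lit 16)), (nat_lit 4, .ofNat (nat_lit 8)), (nat_lit 5, .ofNat (nat_lit 8))],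
  [(nat_lit 0, .negSucc (nat_lit 3)), (nat_lit 2, .ofNat (nat_lit 4)), (nat_lit 4, .ofNat (nat_lit 4)), (nat_lit 5, .negSucc (nat_lit 3))],
  [(nat_lit 0, .ofNat (nat_lit 8)), (nat_lit 1, .ofNat (nat_lit 16)), (nat_lit 2, .ofNat (nat_lit 8)), (nat_lit 3, .ofNat (nat_lit 16))],
  [(nat_lit 0, .ofNat (nat_lit 8)), (nat_lit 1, .negSucc (nat_lit 15)), (nat_lit 2, .ofNat (nat_lit 8)), (nat_lit 3, .negSucc (nat_lit 15))],
  [(nat_lit 6, .negSucc (nat_lit 7)), (nat_lit 7, .ofNat (nat_lit 8)), (nat_lit 12, .ofNat (nat_lit 16)), (nat_lit 13, .ofNat (nat_lit 16))],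
  [(nat_lit 6, .ofNat (nat_lit 8)), (nat_lit 7, .negSucc (nat_lit 7)), (nat_lit 12, .ofNat (nat_lit 16)), (nat_lit 13, .ofNat (nat_lit 16))],
  [(nat_lit 8, .negSucc (nat_lit 7)), (nat_lit 9, .ofNat (nat_lit 8)), (nat_lit 14, .ofNat (nat_lit 8)), (nat_lit 15, .ofNat (nat_lit 8))],
  [(nat_lit 8, .ofNat (nat_lit 8)), (nat_lit 9, .negSucc (nat_lit 7)), (nat_lit 14, .ofNat (nat_lit 8)), (nat_lit 15, .ofNat (nat_lit 8))],
  [(nat_lit 10, .negSucc (nat_lit 7)), (nat_lit 11, .ofNat (nat_lit 8)), (nat_lit 12, .ofNat (nat_lit 16)), (nat_lit 13, .negSucc (nat_lit 15))],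
  [(nat_lit 10, .ofNat (nat_lit 8)), (nat_lit 11, .negSucc (nat_lit 7)), (nat_lit 12, .ofNat (nat_lit 16)), (nat_lit 13, .negSucc (nat_lit 15))],
  [(nat_lit 6, .ofNat (nat_lit 4)), (nat_lit 7, .ofNat (nat_lit 4)), (nat_lit 10, .ofNat (nat_lit 4)), (nat_lit 11, .ofNat (nat_lit 4))],
  [(nat_lit 6, .ofNat (nat_lit 4)), (nat_lit 7, .ofNat (nat_lit 4)), (nat_lit 10, .negSucc (nat_lit 3)), (nat_lit 11, .negSucc (nat_lit 3))],
  [(nat_lit 8, .ofNat (nat_lit 8)), (nat_lit 9, .ofNat (nat_lit 8)), (nat_lit 14, .negSucc (nat_lit 7)), (nat_lit 15, .ofNat (nat_lit 8))],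
  [(nat_lit 8, .ofNat (nat_lit 8)), (nat_lit 9, .ofNat (nat_lit 8)), (nat_lit 14, .ofNat (nat_lit 8)), (nat_lit 15, .negSucc (nat_lit 7))],
  [(nat_lit 16, .negSucc (nat_lit 7)), (nat_lit 17, .ofNat (nat_lit 8)), (nat_lit 22, .ofNat (nat_lit 16)), (nat_lit 23, .ofNat (nat_lit 16))],
  [(nat_lit 16, .ofNat (nat_lit 8)), (nat_lit 17, .negSucc (nat_lit 7)), (nat_lit 22, .ofNat (nat_lit 16)), (nat_lit 23, .ofNat (nat_lit 16))],
  [(nat_lit 18, .negSucc (nat_lit 7)), (nat_lit 19, .ofNat (nat_lit 8)), (nat_lit 24, .ofNat (nat_lit 8)), (nat_lit 25, .ofNat (nat_lit 8))],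
  [(nat_lit 18, .ofNat (nat_lit 8)), (nat_lit 19, .negSucc (nat_lit 7)), (nat_lit 24, .ofNat (nat_lit 8)), (nat_lit 25, .ofNat (nat_lit 8))],
  [(nat_lit 20, .negSucc (nat_lit 7)), (nat_lit 21, .ofNat (nat_lit 8)), (nat_lit 22, .ofNat (nat_lit 16)), (nat_lit 23, .negSucc (nat_lit 15))],
  [(nat_lit 20, .ofNat (nat_lit 8)), (nat_lit 21, .negSucc (nat_lit 7)), (nat_lit 22, .ofNat (nat_lit 16)), (nat_lit 23, .negSucc (nat_lit 15))],
  [(nat_lit 16, .ofNat (nat_lit 4)), (nat_lit 17, .ofNat (nat_lit 4)), (nat_lit 20, .ofNat (nat_lit 4)), (nat_lit 21, .ofNat (nat_lit 4))],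
  [(nat_lit 16, .ofNat (nat_lit 4)), (nat_lit 17, .ofNat (nat_lit 4)), (nat_lit 20, .negSucc (nat_lit 3)), (nat_lit 21, .negSucc (nat_lit 3))],
  [(nat_lit 18, .ofNat (nat_lit 8)), (nat_lit 19, .ofNat (nat_lit 8)), (nat_lit 24, .negSucc (nat_lit 7)), (nat_lit 25, .ofNat (nat_lit 8))],
  [(nat_lit 18, .ofNat (nat_lit 8)), (nat_lit 19, .ofNat (nat_lit 8)), (nat_lit 24, .ofNat (nat_lit 8)), (nat_lit 25, .negSucc (nat_lit 7))],
  [(nat_lit 26, .negSucc (nat_lit 7)), (nat_lit 27, .ofNat (nat_lit 8)), (nat_lit 32, .ofNat (nat_lit 16)), (nat_lit 33, .ofNat (nat_lit 16))],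
  [(nat_lit 26, .ofNat (nat_lit 8)), (nat_lit 27, .negSucc (nat_lit 7)), (nat_lit 32, .ofNat (nat_lit 16)), (nat_lit 33, .ofNat (nat_lit 16))],
  [(nat_lit 28, .negSucc (nat_lit 7)), (nat_lit 29, .ofNat (nat_lit 8)), (nat_lit 34, .ofNat (nat_lit 8)), (nat_lit 35, .ofNat (nat_lit 8))],
  [(nat_lit 28, .ofNat (nat_lit 8)), (nat_lit 29, .negSucc (nat_lit 7)), (nat_lit 34, .ofNat (nat_lit 8)), (nat_lit 35, .ofNat (nat_lit 8))],
  [(nat_lit 30, .negSucc (nat_lit 7)), (nat_lit 31, .ofNat (nat_lit 8)), (nat_lit 32, .ofNat (nat_lit 16)), (nat_lit 33, .negSucc (nat_lit 15))],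
  [(nat_lit 30, .ofNat (nat_lit 8)), (nat_lit 31, .negSucc (nat_lit 7)), (nat_lit 32, .ofNat (nat_lit 16)), (nat_lit 33, .negSucc (nat_lit 15))],
  [(nat_lit 26, .ofNat (nat_lit 4)), (nat_lit 27, .ofNat (nat_lit 4)), (nat_lit 30, .ofNat (nat_lit 4)), (nat_lit 31, .ofNat (nat_lit 4))],
  [(nat_lit 26, .ofNat (nat_lit 4)), (nat_lit 27, .ofNat (nat_lit 4)), (nat_lit 30, .negSucc (nat_lit 3)), (nat_lit 31, .negSucc (nat_lit 3))],
  [(nat_lit 28, .ofNat (nat_lit 8)), (nat_lit 29, .ofNat (nat_lit 8)), (nat_lit 34, .negSucc (nat_lit 7)), (nat_lit 35, .ofNat (nat_lit 8))],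
  [(nat_lit 28, .ofNat (nat_lit 8)), (nat_lit 29, .ofNat (nat_lit 8)), (nat_lit 34, .ofNat (nat_lit 8)), (nat_lit 35, .negSucc (nat_lit 7))],
  [(nat_lit 36, .negSucc (nat_lit 7)), (nat_lit 37, .ofNat (nat_lit 8)), (nat_lit 38, .ofNat (nat_lit 8)), (nat_lit 39, .ofNat (nat_lit 8))],
  [(nat_lit 36, .ofNat (nat_lit 8)), (nat_lit 37, .negSucc (nat_lit 7)), (nat_lit 38, .ofNat (nat_lit 8)), (nat_lit 39, .ofNat (nat_lit 8))],
  [(nat_lit 36, .ofNat (nat_lit 8)), (nat_lit 37, .ofNat (nat_lit 8)), (nat_lit 38, .negSucc (nat_lit 7)), (nat_lit 39, .ofNat (nat_lit 8))],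
  [(nat_lit 36, .ofNat (nat_lit 8)), (nat_lit 37, .ofNat (nat_lit 8)), (nat_lit 38, .ofNat (nat_lit 8)), (nat_lit 39, .negSucc (nat_lit 7))],
  [(nat_lit 40, .negSucc (nat_lit 7)), (nat_lit 41, .ofNat (nat_lit 8)), (nat_lit 42, .ofNat (nat_lit 8)), (nat_lit 43, .ofNat (nat_lit 8))],
  [(nat_lit 40, .ofNat (nat_lit 8)), (nat_lit 41, .negSucc (nat_lit 7)), (nat_lit 42, .ofNat (nat_lit 8)), (nat_lit 43, .ofNat (nat_lit 8))],
  [(nat_lit 40, .ofNat (nat_lit 8)), (nat_lit 41, .ofNat (nat_lit 8)), (nat_lit 42, .negSucc (nat_lit 7)), (nat_lit 43, .ofNat (nat_lit 8))],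
  [(nat_lit 40, .ofNat (nat_lit 8)), (nat_lit 41, .ofNat (nat_lit 8)), (nat_lit 42, .ofNat (nat_lit 8)), (nat_lit 43, .negSucc (nat_lit 7))],
  [(nat_lit 44, .negSucc (nat_lit 7)), (nat_lit 45, .ofNat (nat_lit 8)), (nat_lit 46, .ofNat (nat_lit 8)), (nat_lit 47, .ofNat (nat_lit 8))],
  [(nat_lit 44, .ofNat (nat_lit 8)), (nat_lit 45, .negSucc (nat_lit 7)), (nat_lit 46, .ofNat (nat_lit 8)), (nat_lit 47, .ofNat (nat_lit 8))],
  [(nat_lit 44, .ofNat (nat_lit 8)), (nat_lit 45, .ofNat (nat_lit 8)), (nat_lit 46, .negSucc (nat_lit 7)), (nat_lit 47, .ofNat (nat_lit 8))],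
  [(nat_lit 44, .ofNat (nat_lit 8)), (nat_lit 45, .ofNat (nat_lit 8)), (nat_lit 46, .ofNat (nat_lit 8)), (nat_lit 47, .negSucc (nat_lit 7))],
  [(nat_lit 48, .negSucc (nat_lit 7)), (nat_lit 49, .ofNat (nat_lit 8)), (nat_lit 50, .ofNat (nat_lit 8)), (nat_lit 51, .ofNat (nat_lit 8))],
  [(nat_lit 48, .ofNat (nat_lit 8)), (nat_lit 49, .negSucc (nat_lit 7)), (nat_lit 50, .ofNat (nat_lit 8)), (nat_lit 51, .ofNat (nat_lit 8))],
  [(nat_lit 48, .ofNat (nat_lit 8)), (nat_lit 49, .ofNat (nat_lit 8)), (nat_lit 50, .negSucc (nat_lit 7)), (nat_lit 51, .ofNat (nat_lit 8))],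
  [(nat_lit 48, .ofNat (nat_lit 8)), (nat_lit 49, .ofNat (nat_lit 8)), (nat_lit 50, .ofNat (nat_lit 8)), (nat_lit 51, .negSucc (nat_lit 7))]]

/-- The matrix of the root 2, times sixteen. -/
def mat2 : List (List (Nat × Int)) := [
  [(nat_lit 1, .ofNat (nat_lit 16)), (nat_lit 3, .negSucc (nat_lit 15)), (nat_lit 8, .negSucc (nat_lit 15)), (nat_lit 9, .negSucc (nat_lit 15))],
  [(nat_lit 0, .ofNat (nat_lit 4)), (nat_lit 2, .negSucc (nat_lit 3)), (nat_lit 6, .negSucc (nat_lit 3)), (nat_lit 7, .negSucc (nat_lit 3))],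
  [(nat_lit 1, .negSucc (nat_lit 15)), (nat_lit 3, .ofNat (nat_lit 16)), (nat_lit 8, .negSucc (nat_lit 15)), (nat_lit 9, .negSucc (nat_lit 15))],
  [(nat_lit 0, .negSucc (nat_lit 3)), (nat_lit 2, .ofNat (nat_lit 4)), (nat_lit 6, .negSucc (nat_lit 3)), (nat_lit 7, .negSucc (nat_lit 3))],
  [(nat_lit 12, .negSucc (nat_lit 15)), (nat_lit 13, .negSucc (nat_lit 15)), (nat_lit 14, .negSucc (nat_lit 15)), (nat_lit 15, .negSucc (nat_lit 15))],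
  [(nat_lit 12, .ofNat (nat_lit 16)), (nat_lit 13, .ofNat (nat_lit 16)), (nat_lit 14, .negSucc (nat_lit 15)), (nat_lit 15, .negSucc (nat_lit 15))],
  [(nat_lit 1, .negSucc (nat_lit 15)), (nat_lit 3, .negSucc (nat_lit 15)), (nat_lit 8, .ofNat (nat_lit 16)), (nat_lit 9, .negSucc (nat_lit 15))],
  [(nat_lit 1, .negSucc (nat_lit 15)), (nat_lit 3, .negSucc (nat_lit 15)), (nat_lit 8, .negSucc (nat_lit 15)), (nat_lit 9, .ofNat (nat_lit 16))],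
  [(nat_lit 0, .negSucc (nat_lit 3)), (nat_lit 2, .negSucc (nat_lit 3)), (nat_lit 6, .ofNat (nat_lit 4)), (nat_lit 7, .negSucc (nat_lit 3))],
  [(nat_lit 0, .negSucc (nat_lit 3)), (nat_lit 2, .negSucc (nat_lit 3)), (nat_lit 6, .negSucc (nat_lit 3)), (nat_lit 7, .ofNat (nat_lit 4))],
  [(nat_lit 12, .ofNat (nat_lit 16)), (nat_lit 13, .negSucc (nat_lit 15)), (nat_lit 14, .ofNat (nat_lit 16)), (nat_lit 15, .negSucc (nat_lit 15))],
  [(nat_lit 12, .ofNat (nat_lit 16)), (nat_lit 13, .negSucc (nat_lit 15)), (nat_lit 14, .negSucc (nat_lit 15)), (nat_lit 15, .ofNat (nat_lit 16))],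
  [(nat_lit 4, .negSucc (nat_lit 3)), (nat_lit 5, .ofNat (nat_lit 4)), (nat_lit 10, .ofNat (nat_lit 4)), (nat_lit 11, .ofNat (nat_lit 4))],
  [(nat_lit 4, .negSucc (nat_lit 3)), (nat_lit 5, .ofNat (nat_lit 4)), (nat_lit 10, .negSucc (nat_lit 3)), (nat_lit 11, .negSucc (nat_lit 3))],
  [(nat_lit 4, .negSucc (nat_lit 3)), (nat_lit 5, .negSucc (nat_lit 3)), (nat_lit 10, .ofNat (nat_lit 4)), (nat_lit 11, .negSucc (nat_lit 3))],
  [(nat_lit 4, .negSucc (nat_lit 3)), (nat_lit 5, .negSucc (nat_lit 3)), (nat_lit 10, .negSucc (nat_lit 3)), (nat_lit 11, .ofNat (nat_lit 4))],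
  [(nat_lit 16, .negSucc (nat_lit 7)), (nat_lit 17, .ofNat (nat_lit 8)), (nat_lit 26, .ofNat (nat_lit 8)), (nat_lit 27, .ofNat (nat_lit 8))],
  [(nat_lit 16, .ofNat (nat_lit 8)), (nat_lit 17, .negSucc (nat_lit 7)), (nat_lit 26, .ofNat (nat_lit 8)), (nat_lit 27, .ofNat (nat_lit 8))],
  [(nat_lit 18, .negSucc (nat_lit 7)), (nat_lit 19, .ofNat (nat_lit 8)), (nat_lit 28, .ofNat (nat_lit 8)), (nat_lit 29, .ofNat (nat_lit 8))],
  [(nat_lit 18, .ofNat (nat_lit 8)), (nat_lit 19, .negSucc (nat_lit 7)), (nat_lit 28, .ofNat (nat_lit 8)), (nat_lit 29, .ofNat (nat_lit 8))],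
  [(nat_lit 20, .negSucc (nat_lit 15))],
  [(nat_lit 21, .negSucc (nat_lit 15))],
  [(nat_lit 22, .negSucc (nat_lit 7)), (nat_lit 23, .ofNat (nat_lit 8)), (nat_lit 32, .ofNat (nat_lit 8)), (nat_lit 33, .ofNat (nat_lit 8))],
  [(nat_lit 22, .ofNat (nat_lit 8)), (nat_lit 23, .negSucc (nat_lit 7)), (nat_lit 32, .ofNat (nat_lit 8)), (nat_lit 33, .ofNat (nat_lit 8))],
  [(nat_lit 24, .negSucc (nat_lit 7)), (nat_lit 25, .ofNat (nat_lit 8)), (nat_lit 34, .ofNat (nat_lit 8)), (nat_lit 35, .ofNat (nat_lit 8))],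
  [(nat_lit 24, .ofNat (nat_lit 8)), (nat_lit 25, .negSucc (nat_lit 7)), (nat_lit 34, .ofNat (nat_lit 8)), (nat_lit 35, .ofNat (nat_lit 8))],
  [(nat_lit 16, .ofNat (nat_lit 8)), (nat_lit 17, .ofNat (nat_lit 8)), (nat_lit 26, .negSucc (nat_lit 7)), (nat_lit 27, .ofNat (nat_lit 8))],
  [(nat_lit 16, .ofNat (nat_lit 8)), (nat_lit 17, .ofNat (nat_lit 8)), (nat_lit 26, .ofNat (nat_lit 8)), (nat_lit 27, .negSucc (nat_lit 7))],
  [(nat_lit 18, .ofNat (nat_lit 8)), (nat_lit 19, .ofNat (nat_lit 8)), (nat_lit 28, .negSucc (nat_lit 7)), (nat_lit 29, .ofNat (nat_lit 8))],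
  [(nat_lit 18, .ofNat (nat_lit 8)), (nat_lit 19, .ofNat (nat_lit 8)), (nat_lit 28, .ofNat (nat_lit 8)), (nat_lit 29, .negSucc (nat_lit 7))],
  [(nat_lit 30, .negSucc (nat_lit 15))],
  [(nat_lit 31, .negSucc (nat_lit 15))],
  [(nat_lit 22, .ofNat (nat_lit 8)), (nat_lit 23, .ofNat (nat_lit 8)), (nat_lit 32, .negSucc (nat_lit 7)), (nat_lit 33, .ofNat (nat_lit 8))],
  [(nat_lit 22, .ofNat (nat_lit 8)), (nat_lit 23, .ofNat (nat_lit 8)), (nat_lit 32, .ofNat (nat_lit 8)), (nat_lit 33, .negSucc (nat_lit 7))],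
  [(nat_lit 24, .ofNat (nat_lit 8)), (nat_lit 25, .ofNat (nat_lit 8)), (nat_lit 34, .negSucc (nat_lit 7)), (nat_lit 35, .ofNat (nat_lit 8))],
  [(nat_lit 24, .ofNat (nat_lit 8)), (nat_lit 25, .ofNat (nat_lit 8)), (nat_lit 34, .ofNat (nat_lit 8)), (nat_lit 35, .negSucc (nat_lit 7))],
  [(nat_lit 36, .negSucc (nat_lit 7)), (nat_lit 37, .ofNat (nat_lit 8)), (nat_lit 40, .ofNat (nat_lit 8)), (nat_lit 41, .ofNat (nat_lit 8))],
  [(nat_lit 36, .ofNat (nat_lit 8)), (nat_lit 37, .negSucc (nat_lit 7)), (nat_lit 40, .ofNat (nat_lit 8)), (nat_lit 41, .ofNat (nat_lit 8))],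
  [(nat_lit 38, .negSucc (nat_lit 7)), (nat_lit 39, .ofNat (nat_lit 8)), (nat_lit 42, .ofNat (nat_lit 8)), (nat_lit 43, .ofNat (nat_lit 8))],
  [(nat_lit 38, .ofNat (nat_lit 8)), (nat_lit 39, .negSucc (nat_lit 7)), (nat_lit 42, .ofNat (nat_lit 8)), (nat_lit 43, .ofNat (nat_lit 8))],
  [(nat_lit 36, .ofNat (nat_lit 8)), (nat_lit 37, .ofNat (nat_lit 8)), (nat_lit 40, .negSucc (nat_lit 7)), (nat_lit 41, .ofNat (nat_lit 8))],
  [(nat_lit 36, .ofNat (nat_lit 8)), (nat_lit 37, .ofNat (nat_lit 8)), (nat_lit 40, .ofNat (nat_lit 8)), (nat_lit 41, .negSucc (nat_lit 7))],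
  [(nat_lit 38, .ofNat (nat_lit 8)), (nat_lit 39, .ofNat (nat_lit 8)), (nat_lit 42, .negSucc (nat_lit 7)), (nat_lit 43, .ofNat (nat_lit 8))],
  [(nat_lit 38, .ofNat (nat_lit 8)), (nat_lit 39, .ofNat (nat_lit 8)), (nat_lit 42, .ofNat (nat_lit 8)), (nat_lit 43, .negSucc (nat_lit 7))],
  [(nat_lit 44, .negSucc (nat_lit 7)), (nat_lit 45, .ofNat (nat_lit 8)), (nat_lit 48, .ofNat (nat_lit 8)), (nat_lit 49, .ofNat (nat_lit 8))],
  [(nat_lit 44, .ofNat (nat_lit 8)), (nat_lit 45, .negSucc (nat_lit 7)), (nat_lit 48, .ofNat (nat_lit 8)), (nat_lit 49, .ofNat (nat_lit 8))],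
  [(nat_lit 46, .negSucc (nat_lit 7)), (nat_lit 47, .ofNat (nat_lit 8)), (nat_lit 50, .ofNat (nat_lit 8)), (nat_lit 51, .ofNat (nat_lit 8))],
  [(nat_lit 46, .ofNat (nat_lit 8)), (nat_lit 47, .negSucc (nat_lit 7)), (nat_lit 50, .ofNat (nat_lit 8)), (nat_lit 51, .ofNat (nat_lit 8))],
  [(nat_lit 44, .ofNat (nat_lit 8)), (nat_lit 45, .ofNat (nat_lit 8)), (nat_lit 48, .negSucc (nat_lit 7)), (nat_lit 49, .ofNat (nat_lit 8))],
  [(nat_lit 44, .ofNat (nat_lit 8)), (nat_lit 45, .ofNat (nat_lit 8)), (nat_lit 48, .ofNat (nat_lit 8)), (nat_lit 49, .negSucc (nat_lit 7))],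
  [(nat_lit 46, .ofNat (nat_lit 8)), (nat_lit 47, .ofNat (nat_lit 8)), (nat_lit 50, .negSucc (nat_lit 7)), (nat_lit 51, .ofNat (nat_lit 8))],
  [(nat_lit 46, .ofNat (nat_lit 8)), (nat_lit 47, .ofNat (nat_lit 8)), (nat_lit 50, .ofNat (nat_lit 8)), (nat_lit 51, .negSucc (nat_lit 7))]]

/-- The matrix of the root 3, times sixteen. -/
def mat3 : List (List (Nat × Int)) := [
  [(nat_lit 0, .ofNat (nat_lit 8)), (nat_lit 1, .ofNat (nat_lit 16)), (nat_lit 2, .ofNat (nat_lit 8)), (nat_lit 3, .negSucc (nat_lit 15))],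
  [(nat_lit 0, .ofNat (nat_lit 4)), (nat_lit 1, .ofNat (nat_lit 8)), (nat_lit 2, .negSucc (nat_lit 3)), (nat_lit 3, .ofNat (nat_lit 8))],
  [(nat_lit 0, .ofNat (nat_lit 8)), (nat_lit 1, .negSucc (nat_lit 15)), (nat_lit 2, .ofNat (nat_lit 8)), (nat_lit 3, .ofNat (nat_lit 16))],
  [(nat_lit 0, .negSucc (nat_lit 3)), (nat_lit 1, .ofNat (nat_lit 8)), (nat_lit 2, .ofNat (nat_lit 4)), (nat_lit 3, .ofNat (nat_lit 8))],
  [(nat_lit 4, .ofNat (nat_lit 16))],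
  [(nat_lit 5, .ofNat (nat_lit 16))],
  [(nat_lit 6, .ofNat (nat_lit 8)), (nat_lit 7, .ofNat (nat_lit 8)), (nat_lit 8, .ofNat (nat_lit 16)), (nat_lit 9, .negSucc (nat_lit 15))],
  [(nat_lit 6, .ofNat (nat_lit 8)), (nat_lit 7, .ofNat (nat_lit 8)), (nat_lit 8, .negSucc (nat_lit 15)), (nat_lit 9, .ofNat (nat_lit 16))],
  [(nat_lit 6, .ofNat (nat_lit 4)), (nat_lit 7, .negSucc (nat_lit 3)), (nat_lit 8, .ofNat (nat_lit 8)), (nat_lit 9, .ofNat (nat_lit 8))],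
  [(nat_lit 6, .negSucc (nat_lit 3)), (nat_lit 7, .ofNat (nat_lit 4)), (nat_lit 8, .ofNat (nat_lit 8)), (nat_lit 9, .ofNat (nat_lit 8))],
  [(nat_lit 12, .ofNat (nat_lit 16)), (nat_lit 13, .negSucc (nat_lit 15)), (nat_lit 14, .ofNat (nat_lit 16)), (nat_lit 15, .negSucc (nat_lit 15))],
  [(nat_lit 12, .ofNat (nat_lit 16)), (nat_lit 13, .negSucc (nat_lit 15)), (nat_lit 14, .negSucc (nat_lit 15)), (nat_lit 15, .ofNat (nat_lit 16))],
  [(nat_lit 10, .ofNat (nat_lit 4)), (nat_lit 11, .ofNat (nat_lit 4)), (nat_lit 12, .ofNat (nat_lit 8)), (nat_lit 13, .ofNat (nat_lit 8))],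
  [(nat_lit 10, .negSucc (nat_lit 3)), (nat_lit 11, .negSucc (nat_lit 3)), (nat_lit 12, .ofNat (nat_lit 8)), (nat_lit 13, .ofNat (nat_lit 8))],
  [(nat_lit 10, .ofNat (nat_lit 4)), (nat_lit 11, .negSucc (nat_lit 3)), (nat_lit 14, .ofNat (nat_lit 8)), (nat_lit 15, .ofNat (nat_lit 8))],
  [(nat_lit 10, .negSucc (nat_lit 3)), (nat_lit 11, .ofNat (nat_lit 4)), (nat_lit 14, .ofNat (nat_lit 8)), (nat_lit 15, .ofNat (nat_lit 8))],
  [(nat_lit 16, .ofNat (nat_lit 8)), (nat_lit 17, .ofNat (nat_lit 8)), (nat_lit 18, .ofNat (nat_lit 16)), (nat_lit 19, .negSucc (nat_lit 15))],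
  [(nat_lit 16, .ofNat (nat_lit 8)), (nat_lit 17, .ofNat (nat_lit 8)), (nat_lit 18, .negSucc (nat_lit 15)), (nat_lit 19, .ofNat (nat_lit 16))],
  [(nat_lit 16, .ofNat (nat_lit 4)), (nat_lit 17, .negSucc (nat_lit 3)), (nat_lit 18, .ofNat (nat_lit 8)), (nat_lit 19, .ofNat (nat_lit 8))],
  [(nat_lit 16, .negSucc (nat_lit 3)), (nat_lit 17, .ofNat (nat_lit 4)), (nat_lit 18, .ofNat (nat_lit 8)), (nat_lit 19, .ofNat (nat_lit 8))],
  [(nat_lit 22, .ofNat (nat_lit 16)), (nat_lit 23, .negSucc (nat_lit 15)), (nat_lit 24, .ofNat (nat_lit 16)), (nat_lit 25, .negSucc (nat_lit 15))],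
  [(nat_lit 22, .ofNat (nat_lit 16)), (nat_lit 23, .negSucc (nat_lit 15)), (nat_lit 24, .negSucc (nat_lit 15)), (nat_lit 25, .ofNat (nat_lit 16))],
  [(nat_lit 20, .ofNat (nat_lit 4)), (nat_lit 21, .ofNat (nat_lit 4)), (nat_lit 22, .ofNat (nat_lit 8)), (nat_lit 23, .ofNat (nat_lit 8))],
  [(nat_lit 20, .negSucc (nat_lit 3)), (nat_lit 21, .negSucc (nat_lit 3)), (nat_lit 22, .ofNat (nat_lit 8)), (nat_lit 23, .ofNat (nat_lit 8))],
  [(nat_lit 20, .ofNat (nat_lit 4)), (nat_lit 21, .negSucc (nat_lit 3)), (nat_lit 24, .ofNat (nat_lit 8)), (nat_lit 25, .ofNat (nat_lit 8))],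
  [(nat_lit 20, .negSucc (nat_lit 3)), (nat_lit 21, .ofNat (nat_lit 4)), (nat_lit 24, .ofNat (nat_lit 8)), (nat_lit 25, .ofNat (nat_lit 8))],
  [(nat_lit 26, .ofNat (nat_lit 8)), (nat_lit 27, .ofNat (nat_lit 8)), (nat_lit 28, .ofNat (nat_lit 16)), (nat_lit 29, .negSucc (nat_lit 15))],
  [(nat_lit 26, .ofNat (nat_lit 8)), (nat_lit 27, .ofNat (nat_lit 8)), (nat_lit 28, .negSucc (nat_lit 15)), (nat_lit 29, .ofNat (nat_lit 16))],
  [(nat_lit 26, .ofNat (nat_lit 4)), (nat_lit 27, .negSucc (nat_lit 3)), (nat_lit 28, .ofNat (nat_lit 8)), (nat_lit 29, .ofNat (nat_lit 8))],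
  [(nat_lit 26, .negSucc (nat_lit 3)), (nat_lit 27, .ofNat (nat_lit 4)), (nat_lit 28, .ofNat (nat_lit 8)), (nat_lit 29, .ofNat (nat_lit 8))],
  [(nat_lit 32, .ofNat (nat_lit 16)), (nat_lit 33, .negSucc (nat_lit 15)), (nat_lit 34, .ofNat (nat_lit 16)), (nat_lit 35, .negSucc (nat_lit 15))],
  [(nat_lit 32, .ofNat (nat_lit 16)), (nat_lit 33, .negSucc (nat_lit 15)), (nat_lit 34, .negSucc (nat_lit 15)), (nat_lit 35, .ofNat (nat_lit 16))],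
  [(nat_lit 30, .ofNat (nat_lit 4)), (nat_lit 31, .ofNat (nat_lit 4)), (nat_lit 32, .ofNat (nat_lit 8)), (nat_lit 33, .ofNat (nat_lit 8))],
  [(nat_lit 30, .negSucc (nat_lit 3)), (nat_lit 31, .negSucc (nat_lit 3)), (nat_lit 32, .ofNat (nat_lit 8)), (nat_lit 33, .ofNat (nat_lit 8))],
  [(nat_lit 30, .ofNat (nat_lit 4)), (nat_lit 31, .negSucc (nat_lit 3)), (nat_lit 34, .ofNat (nat_lit 8)), (nat_lit 35, .ofNat (nat_lit 8))],
  [(nat_lit 30, .negSucc (nat_lit 3)), (nat_lit 31, .ofNat (nat_lit 4)), (nat_lit 34, .ofNat (nat_lit 8)), (nat_lit 35, .ofNat (nat_lit 8))],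
  [(nat_lit 36, .ofNat (nat_lit 4)), (nat_lit 37, .ofNat (nat_lit 4)), (nat_lit 38, .ofNat (nat_lit 4)), (nat_lit 39, .ofNat (nat_lit 4)), (nat_lit 40, .ofNat (nat_lit 4)), (nat_lit 41, .ofNat (nat_lit 4)), (nat_lit 42, .negSucc (nat_lit 3)), (nat_lit 43, .negSucc (nat_lit 3)), (nat_lit 44, .ofNat (nat_lit 4)), (nat_lit 45, .negSucc (nat_lit 3)), (nat_lit 46, .ofNat (nat_lit 4)), (nat_lit 47, .negSucc (nat_lit 3)), (nat_lit 48, .ofNat (nat_lit 4)), (nat_lit 49, .negSucc (nat_lit 3)), (nat_lit 50, .negSucc (nat_lit 3)), (nat_lit 51, .ofNat (nat_lit 4))],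
  [(nat_lit 36, .ofNat (nat_lit 4)), (nat_lit 37, .ofNat (nat_lit 4)), (nat_lit 38, .ofNat (nat_lit 4)), (nat_lit 39, .ofNat (nat_lit 4)), (nat_lit 40, .ofNat (nat_lit 4)), (nat_lit 41, .ofNat (nat_lit 4)), (nat_lit 42, .negSucc (nat_lit 3)), (nat_lit 43, .negSucc (nat_lit 3)), (nat_lit 44, .negSucc (nat_lit 3)), (nat_lit 45, .ofNat (nat_lit 4)), (nat_lit 46, .negSucc (nat_lit 3)), (nat_lit 47, .ofNat (nat_lit 4)), (nat_lit 48, .negSucc (nat_lit 3)), (nat_lit 49, .ofNat (nat_lit 4)), (nat_lit 50, .ofNat (nat_lit 4)), (nat_lit 51, .negSucc (nat_lit 3))],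
  [(nat_lit 36, .ofNat (nat_lit 4)), (nat_lit 37, .ofNat (nat_lit 4)), (nat_lit 38, .ofNat (nat_lit 4)), (nat_lit 39, .ofNat (nat_lit 4)), (nat_lit 40, .negSucc (nat_lit 3)), (nat_lit 41, .negSucc (nat_lit 3)), (nat_lit 42, .ofNat (nat_lit 4)), (nat_lit 43, .ofNat (nat_lit 4)), (nat_lit 44, .ofNat (nat_lit 4)), (nat_lit 45, .negSucc (nat_lit 3)), (nat_lit 46, .ofNat (nat_lit 4)), (nat_lit 47, .negSucc (nat_lit 3)), (nat_lit 48, .negSucc (nat_lit 3)), (nat_lit 49, .ofNat (nat_lit 4)), (nat_lit 50, .ofNat (nat_lit 4)), (nat_lit 51, .negSucc (nat_lit 3))],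
  [(nat_lit 36, .ofNat (nat_lit 4)), (nat_lit 37, .ofNat (nat_lit 4)), (nat_lit 38, .ofNat (nat_lit 4)), (nat_lit 39, .ofNat (nat_lit 4)), (nat_lit 40, .negSucc (nat_lit 3)), (nat_lit 41, .negSucc (nat_lit 3)), (nat_lit 42, .ofNat (nat_lit 4)), (nat_lit 43, .ofNat (nat_lit 4)), (nat_lit 44, .negSucc (nat_lit 3)), (nat_lit 45, .ofNat (nat_lit 4)), (nat_lit 46, .negSucc (nat_lit 3)), (nat_lit 47, .ofNat (nat_lit 4)), (nat_lit 48, .ofNat (nat_lit 4)), (nat_lit 49, .negSucc (nat_lit 3)), (nat_lit 50, .negSucc (nat_lit 3)), (nat_lit 51, .ofNat (nat_lit 4))],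
  [(nat_lit 36, .ofNat (nat_lit 4)), (nat_lit 37, .ofNat (nat_lit 4)), (nat_lit 38, .negSucc (nat_lit 3)), (nat_lit 39, .negSucc (nat_lit 3)), (nat_lit 40, .ofNat (nat_lit 4)), (nat_lit 41, .ofNat (nat_lit 4)), (nat_lit 42, .ofNat (nat_lit 4)), (nat_lit 43, .ofNat (nat_lit 4)), (nat_lit 44, .ofNat (nat_lit 4)), (nat_lit 45, .negSucc (nat_lit 3)), (nat_lit 46, .negSucc (nat_lit 3)), (nat_lit 47, .ofNat (nat_lit 4)), (nat_lit 48, .ofNat (nat_lit 4)), (nat_lit 49, .negSucc (nat_lit 3)), (nat_lit 50, .ofNat (nat_lit 4)), (nat_lit 51, .negSucc (nat_lit 3))],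
  [(nat_lit 36, .ofNat (nat_lit 4)), (nat_lit 37, .ofNat (nat_lit 4)), (nat_lit 38, .negSucc (nat_lit 3)), (nat_lit 39, .negSucc (nat_lit 3)), (nat_lit 40, .ofNat (nat_lit 4)), (nat_lit 41, .ofNat (nat_lit 4)), (nat_lit 42, .ofNat (nat_lit 4)), (nat_lit 43, .ofNat (nat_lit 4)), (nat_lit 44, .negSucc (nat_lit 3)), (nat_lit 45, .ofNat (nat_lit 4)), (nat_lit 46, .ofNat (nat_lit 4)), (nat_lit 47, .negSucc (nat_lit 3)), (nat_lit 48, .negSucc (nat_lit 3)), (nat_lit 49, .ofNat (nat_lit 4)), (nat_lit 50, .negSucc (nat_lit 3)), (nat_lit 51, .ofNat (nat_lit 4))],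
  [(nat_lit 36, .negSucc (nat_lit 3)), (nat_lit 37, .negSucc (nat_lit 3)), (nat_lit 38, .ofNat (nat_lit 4)), (nat_lit 39, .ofNat (nat_lit 4)), (nat_lit 40, .ofNat (nat_lit 4)), (nat_lit 41, .ofNat (nat_lit 4)), (nat_lit 42, .ofNat (nat_lit 4)), (nat_lit 43, .ofNat (nat_lit 4)), (nat_lit 44, .negSucc (nat_lit 3)), (nat_lit 45, .ofNat (nat_lit 4)), (nat_lit 46, .ofNat (nat_lit 4)), (nat_lit 47, .negSucc (nat_lit 3)), (nat_lit 48, .ofNat (nat_lit 4)), (nat_lit 49, .negSucc (nat_lit 3)), (nat_lit 50, .ofNat (nat_lit 4)), (nat_lit 51, .negSucc (nat_lit 3))],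
  [(nat_lit 36, .negSucc (nat_lit 3)), (nat_lit 37, .negSucc (nat_lit 3)), (nat_lit 38, .ofNat (nat_lit 4)), (nat_lit 39, .ofNat (nat_lit 4)), (nat_lit 40, .ofNat (nat_lit 4)), (nat_lit 41, .ofNat (nat_lit 4)), (nat_lit 42, .ofNat (nat_lit 4)), (nat_lit 43, .ofNat (nat_lit 4)), (nat_lit 44, .ofNat (nat_lit 4)), (nat_lit 45, .negSucc (nat_lit 3)), (nat_lit 46, .negSucc (nat_lit 3)), (nat_lit 47, .ofNat (nat_lit 4)), (nat_lit 48, .negSucc (nat_lit 3)), (nat_lit 49, .ofNat (nat_lit 4)), (nat_lit 50, .negSucc (nat_lit 3)), (nat_lit 51, .ofNat (nat_lit 4))],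
  [(nat_lit 36, .ofNat (nat_lit 4)), (nat_lit 37, .negSucc (nat_lit 3)), (nat_lit 38, .ofNat (nat_lit 4)), (nat_lit 39, .negSucc (nat_lit 3)), (nat_lit 40, .ofNat (nat_lit 4)), (nat_lit 41, .negSucc (nat_lit 3)), (nat_lit 42, .negSucc (nat_lit 3)), (nat_lit 43, .ofNat (nat_lit 4)), (nat_lit 44, .ofNat (nat_lit 4)), (nat_lit 45, .ofNat (nat_lit 4)), (nat_lit 46, .ofNat (nat_lit 4)), (nat_lit 47, .ofNat (nat_lit 4)), (nat_lit 48, .ofNat (nat_lit 4)), (nat_lit 49, .ofNat (nat_lit 4)), (nat_lit 50, .negSucc (nat_lit 3)), (nat_lit 51, .negSucc (nat_lit 3))],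
  [(nat_lit 36, .negSucc (nat_lit 3)), (nat_lit 37, .ofNat (nat_lit 4)), (nat_lit 38, .negSucc (nat_lit 3)), (nat_lit 39, .ofNat (nat_lit 4)), (nat_lit 40, .negSucc (nat_lit 3)), (nat_lit 41, .ofNat (nat_lit 4)), (nat_lit 42, .ofNat (nat_lit 4)), (nat_lit 43, .negSucc (nat_lit 3)), (nat_lit 44, .ofNat (nat_lit 4)), (nat_lit 45, .ofNat (nat_lit 4)), (nat_lit 46, .ofNat (nat_lit 4)), (nat_lit 47, .ofNat (nat_lit 4)), (nat_lit 48, .ofNat (nat_lit 4)), (nat_lit 49, .ofNat (nat_lit 4)), (nat_lit 50, .negSucc (nat_lit 3)), (nat_lit 51, .negSucc (nat_lit 3))],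
  [(nat_lit 36, .ofNat (nat_lit 4)), (nat_lit 37, .negSucc (nat_lit 3)), (nat_lit 38, .ofNat (nat_lit 4)), (nat_lit 39, .negSucc (nat_lit 3)), (nat_lit 40, .negSucc (nat_lit 3)), (nat_lit 41, .ofNat (nat_lit 4)), (nat_lit 42, .ofNat (nat_lit 4)), (nat_lit 43, .negSucc (nat_lit 3)), (nat_lit 44, .ofNat (nat_lit 4)), (nat_lit 45, .ofNat (nat_lit 4)), (nat_lit 46, .ofNat (nat_lit 4)), (nat_lit 47, .ofNat (nat_lit 4)), (nat_lit 48, .negSucc (nat_lit 3)), (nat_lit 49, .negSucc (nat_lit 3)), (nat_lit 50, .ofNat (nat_lit 4)), (nat_lit 51, .ofNat (nat_lit 4))],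
  [(nat_lit 36, .negSucc (nat_lit 3)), (nat_lit 37, .ofNat (nat_lit 4)), (nat_lit 38, .negSucc (nat_lit 3)), (nat_lit 39, .ofNat (nat_lit 4)), (nat_lit 40, .ofNat (nat_lit 4)), (nat_lit 41, .negSucc (nat_lit 3)), (nat_lit 42, .negSucc (nat_lit 3)), (nat_lit 43, .ofNat (nat_lit 4)), (nat_lit 44, .ofNat (nat_lit 4)), (nat_lit 45, .ofNat (nat_lit 4)), (nat_lit 46, .ofNat (nat_lit 4)), (nat_lit 47, .ofNat (nat_lit 4)), (nat_lit 48, .negSucc (nat_lit 3)), (nat_lit 49, .negSucc (nat_lit 3)), (nat_lit 50, .ofNat (nat_lit 4)), (nat_lit 51, .ofNat (nat_lit 4))],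
  [(nat_lit 36, .ofNat (nat_lit 4)), (nat_lit 37, .negSucc (nat_lit 3)), (nat_lit 38, .negSucc (nat_lit 3)), (nat_lit 39, .ofNat (nat_lit 4)), (nat_lit 40, .ofNat (nat_lit 4)), (nat_lit 41, .negSucc (nat_lit 3)), (nat_lit 42, .ofNat (nat_lit 4)), (nat_lit 43, .negSucc (nat_lit 3)), (nat_lit 44, .ofNat (nat_lit 4)), (nat_lit 45, .ofNat (nat_lit 4)), (nat_lit 46, .negSucc (nat_lit 3)), (nat_lit 47, .negSucc (nat_lit 3)), (nat_lit 48, .ofNat (nat_lit 4)), (nat_lit 49, .ofNat (nat_lit 4)), (nat_lit 50, .ofNat (nat_lit 4)), (nat_lit 51, .ofNat (nat_lit 4))],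
  [(nat_lit 36, .negSucc (nat_lit 3)), (nat_lit 37, .ofNat (nat_lit 4)), (nat_lit 38, .ofNat (nat_lit 4)), (nat_lit 39, .negSucc (nat_lit 3)), (nat_lit 40, .negSucc (nat_lit 3)), (nat_lit 41, .ofNat (nat_lit 4)), (nat_lit 42, .negSucc (nat_lit 3)), (nat_lit 43, .ofNat (nat_lit 4)), (nat_lit 44, .ofNat (nat_lit 4)), (nat_lit 45, .ofNat (nat_lit 4)), (nat_lit 46, .negSucc (nat_lit 3)), (nat_lit 47, .negSucc (nat_lit 3)), (nat_lit 48, .ofNat (nat_lit 4)), (nat_lit 49, .ofNat (nat_lit 4)), (nat_lit 50, .ofNat (nat_lit 4)), (nat_lit 51, .ofNat (nat_lit 4))],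
  [(nat_lit 36, .negSucc (nat_lit 3)), (nat_lit 37, .ofNat (nat_lit 4)), (nat_lit 38, .ofNat (nat_lit 4)), (nat_lit 39, .negSucc (nat_lit 3)), (nat_lit 40, .ofNat (nat_lit 4)), (nat_lit 41, .negSucc (nat_lit 3)), (nat_lit 42, .ofNat (nat_lit 4)), (nat_lit 43, .negSucc (nat_lit 3)), (nat_lit 44, .negSucc (nat_lit 3)), (nat_lit 45, .negSucc (nat_lit 3)), (nat_lit 46, .ofNat (nat_lit 4)), (nat_lit 47, .ofNat (nat_lit 4)), (nat_lit 48, .ofNat (nat_lit 4)), (nat_lit 49, .ofNat (nat_lit 4)), (nat_lit 50, .ofNat (nat_lit 4)), (nat_lit 51, .ofNat (nat_lit 4))],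
  [(nat_lit 36, .ofNat (nat_lit 4)), (nat_lit 37, .negSucc (nat_lit 3)), (nat_lit 38, .negSucc (nat_lit 3)), (nat_lit 39, .ofNat (nat_lit 4)), (nat_lit 40, .negSucc (nat_lit 3)), (nat_lit 41, .ofNat (nat_lit 4)), (nat_lit 42, .negSucc (nat_lit 3)), (nat_lit 43, .ofNat (nat_lit 4)), (nat_lit 44, .negSucc (nat_lit 3)), (nat_lit 45, .negSucc (nat_lit 3)), (nat_lit 46, .ofNat (nat_lit 4)), (nat_lit 47, .ofNat (nat_lit 4)), (nat_lit 48, .ofNat (nat_lit 4)), (nat_lit 49, .ofNat (nat_lit 4)), (nat_lit 50, .ofNat (nat_lit 4)), (nat_lit 51, .ofNat (nat_lit 4))]]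

/-- The matrix of the root 4, times sixteen. -/
def mat4 : List (List (Nat × Int)) := [
  [(nat_lit 1, .ofNat (nat_lit 16)), (nat_lit 3, .negSucc (nat_lit 15)), (nat_lit 18, .negSucc (nat_lit 15)), (nat_lit 19, .negSucc (nat_lit 15))],
  [(nat_lit 0, .ofNat (nat_lit 4)), (nat_lit 2, .negSucc (nat_lit 3)), (nat_lit 16, .negSucc (nat_lit 3)), (nat_lit 17, .negSucc (nat_lit 3))],
  [(nat_lit 1, .negSucc (nat_lit 15)), (nat_lit 3, .ofNat (nat_lit 16)), (nat_lit 18, .negSucc (nat_lit 15)), (nat_lit 19, .negSucc (nat_lit 15))],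
  [(nat_lit 0, .negSucc (nat_lit 3)), (nat_lit 2, .ofNat (nat_lit 4)), (nat_lit 16, .negSucc (nat_lit 3)), (nat_lit 17, .negSucc (nat_lit 3))],
  [(nat_lit 22, .negSucc (nat_lit 15)), (nat_lit 23, .negSucc (nat_lit 15)), (nat_lit 24, .negSucc (nat_lit 15)), (nat_lit 25, .negSucc (nat_lit 15))],
  [(nat_lit 22, .ofNat (nat_lit 16)), (nat_lit 23, .ofNat (nat_lit 16)), (nat_lit 24, .negSucc (nat_lit 15)), (nat_lit 25, .negSucc (nat_lit 15))],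
  [(nat_lit 6, .negSucc (nat_lit 7)), (nat_lit 7, .ofNat (nat_lit 8)), (nat_lit 26, .ofNat (nat_lit 8)), (nat_lit 27, .ofNat (nat_lit 8))],
  [(nat_lit 6, .ofNat (nat_lit 8)), (nat_lit 7, .negSucc (nat_lit 7)), (nat_lit 26, .ofNat (nat_lit 8)), (nat_lit 27, .ofNat (nat_lit 8))],
  [(nat_lit 8, .negSucc (nat_lit 7)), (nat_lit 9, .ofNat (nat_lit 8)), (nat_lit 28, .ofNat (nat_lit 8)), (nat_lit 29, .ofNat (nat_lit 8))],
  [(nat_lit 8, .ofNat (nat_lit 8)), (nat_lit 9, .negSucc (nat_lit 7)), (nat_lit 28, .ofNat (nat_lit 8)), (nat_lit 29, .ofNat (nat_lit 8))],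
  [(nat_lit 10, .negSucc (nat_lit 15))],
  [(nat_lit 11, .negSucc (nat_lit 15))],
  [(nat_lit 12, .negSucc (nat_lit 7)), (nat_lit 13, .ofNat (nat_lit 8)), (nat_lit 32, .ofNat (nat_lit 8)), (nat_lit 33, .ofNat (nat_lit 8))],
  [(nat_lit 12, .ofNat (nat_lit 8)), (nat_lit 13, .negSucc (nat_lit 7)), (nat_lit 32, .ofNat (nat_lit 8)), (nat_lit 33, .ofNat (nat_lit 8))],
  [(nat_lit 14, .negSucc (nat_lit 7)), (nat_lit 15, .ofNat (nat_lit 8)), (nat_lit 34, .ofNat (nat_lit 8)), (nat_lit 35, .ofNat (nat_lit 8))],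
  [(nat_lit 14, .ofNat (nat_lit 8)), (nat_lit 15, .negSucc (nat_lit 7)), (nat_lit 34, .ofNat (nat_lit 8)), (nat_lit 35, .ofNat (nat_lit 8))],
  [(nat_lit 1, .negSucc (nat_lit 15)), (nat_lit 3, .negSucc (nat_lit 15)), (nat_lit 18, .ofNat (nat_lit 16)), (nat_lit 19, .negSucc (nat_lit 15))],
  [(nat_lit 1, .negSucc (nat_lit 15)), (nat_lit 3, .negSucc (nat_lit 15)), (nat_lit 18, .negSucc (nat_lit 15)), (nat_lit 19, .ofNat (nat_lit 16))],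
  [(nat_lit 0, .negSucc (nat_lit 3)), (nat_lit 2, .negSucc (nat_lit 3)), (nat_lit 16, .ofNat (nat_lit 4)), (nat_lit 17, .negSucc (nat_lit 3))],
  [(nat_lit 0, .negSucc (nat_lit 3)), (nat_lit 2, .negSucc (nat_lit 3)), (nat_lit 16, .negSucc (nat_lit 3)), (nat_lit 17, .ofNat (nat_lit 4))],
  [(nat_lit 22, .ofNat (nat_lit 16)), (nat_lit 23, .negSucc (nat_lit 15)), (nat_lit 24, .ofNat (nat_lit 16)), (nat_lit 25, .negSucc (nat_lit 15))],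
  [(nat_lit 22, .ofNat (nat_lit 16)), (nat_lit 23, .negSucc (nat_lit 15)), (nat_lit 24, .negSucc (nat_lit 15)), (nat_lit 25, .ofNat (nat_lit 16))],
  [(nat_lit 4, .negSucc (nat_lit 3)), (nat_lit 5, .ofNat (nat_lit 4)), (nat_lit 20, .ofNat (nat_lit 4)), (nat_lit 21, .ofNat (nat_lit 4))],
  [(nat_lit 4, .negSucc (nat_lit 3)), (nat_lit 5, .ofNat (nat_lit 4)), (nat_lit 20, .negSucc (nat_lit 3)), (nat_lit 21, .negSucc (nat_lit 3))],
  [(nat_lit 4, .negSucc (nat_lit 3)), (nat_lit 5, .negSucc (nat_lit 3)), (nat_lit 20, .ofNat (nat_lit 4)), (nat_lit 21, .negSucc (nat_lit 3))],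
  [(nat_lit 4, .negSucc (nat_lit 3)), (nat_lit 5, .negSucc (nat_lit 3)), (nat_lit 20, .negSucc (nat_lit 3)), (nat_lit 21, .ofNat (nat_lit 4))],
  [(nat_lit 6, .ofNat (nat_lit 8)), (nat_lit 7, .ofNat (nat_lit 8)), (nat_lit 26, .negSucc (nat_lit 7)), (nat_lit 27, .ofNat (nat_lit 8))],
  [(nat_lit 6, .ofNat (nat_lit 8)), (nat_lit 7, .ofNat (nat_lit 8)), (nat_lit 26, .ofNat (nat_lit 8)), (nat_lit 27, .negSucc (nat_lit 7))],
  [(nat_lit 8, .ofNat (nat_lit 8)), (nat_lit 9, .ofNat (nat_lit 8)), (nat_lit 28, .negSucc (nat_lit 7)), (nat_lit 29, .ofNat (nat_lit 8))],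
  [(nat_lit 8, .ofNat (nat_lit 8)), (nat_lit 9, .ofNat (nat_lit 8)), (nat_lit 28, .ofNat (nat_lit 8)), (nat_lit 29, .negSucc (nat_lit 7))],
  [(nat_lit 30, .negSucc (nat_lit 15))],
  [(nat_lit 31, .negSucc (nat_lit 15))],
  [(nat_lit 12, .ofNat (nat_lit 8)), (nat_lit 13, .ofNat (nat_lit 8)), (nat_lit 32, .negSucc (nat_lit 7)), (nat_lit 33, .ofNat (nat_lit 8))],
  [(nat_lit 12, .ofNat (nat_lit 8)), (nat_lit 13, .ofNat (nat_lit 8)), (nat_lit 32, .ofNat (nat_lit 8)), (nat_lit 33, .negSucc (nat_lit 7))],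
  [(nat_lit 14, .ofNat (nat_lit 8)), (nat_lit 15, .ofNat (nat_lit 8)), (nat_lit 34, .negSucc (nat_lit 7)), (nat_lit 35, .ofNat (nat_lit 8))],
  [(nat_lit 14, .ofNat (nat_lit 8)), (nat_lit 15, .ofNat (nat_lit 8)), (nat_lit 34, .ofNat (nat_lit 8)), (nat_lit 35, .negSucc (nat_lit 7))],
  [(nat_lit 36, .negSucc (nat_lit 7)), (nat_lit 38, .ofNat (nat_lit 8)), (nat_lit 44, .ofNat (nat_lit 8)), (nat_lit 46, .ofNat (nat_lit 8))],
  [(nat_lit 37, .negSucc (nat_lit 7)), (nat_lit 39, .ofNat (nat_lit 8)), (nat_lit 45, .ofNat (nat_lit 8)), (nat_lit 47, .ofNat (nat_lit 8))],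
  [(nat_lit 36, .ofNat (nat_lit 8)), (nat_lit 38, .negSucc (nat_lit 7)), (nat_lit 44, .ofNat (nat_lit 8)), (nat_lit 46, .ofNat (nat_lit 8))],
  [(nat_lit 37, .ofNat (nat_lit 8)), (nat_lit 39, .negSucc (nat_lit 7)), (nat_lit 45, .ofNat (nat_lit 8)), (nat_lit 47, .ofNat (nat_lit 8))],
  [(nat_lit 40, .negSucc (nat_lit 7)), (nat_lit 42, .ofNat (nat_lit 8)), (nat_lit 48, .ofNat (nat_lit 8)), (nat_lit 50, .ofNat (nat_lit 8))],
  [(nat_lit 41, .negSucc (nat_lit 7)), (nat_lit 43, .ofNat (nat_lit 8)), (nat_lit 49, .ofNat (nat_lit 8)), (nat_lit 51, .ofNat (nat_lit 8))],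
  [(nat_lit 40, .ofNat (nat_lit 8)), (nat_lit 42, .negSucc (nat_lit 7)), (nat_lit 48, .ofNat (nat_lit 8)), (nat_lit 50, .ofNat (nat_lit 8))],
  [(nat_lit 41, .ofNat (nat_lit 8)), (nat_lit 43, .negSucc (nat_lit 7)), (nat_lit 49, .ofNat (nat_lit 8)), (nat_lit 51, .ofNat (nat_lit 8))],
  [(nat_lit 36, .ofNat (nat_lit 8)), (nat_lit 38, .ofNat (nat_lit 8)), (nat_lit 44, .negSucc (nat_lit 7)), (nat_lit 46, .ofNat (nat_lit 8))],
  [(nat_lit 37, .ofNat (nat_lit 8)), (nat_lit 39, .ofNat (nat_lit 8)), (nat_lit 45, .negSucc (nat_lit 7)), (nat_lit 47, .ofNat (nat_lit 8))],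
  [(nat_lit 36, .ofNat (nat_lit 8)), (nat_lit 38, .ofNat (nat_lit 8)), (nat_lit 44, .ofNat (nat_lit 8)), (nat_lit 46, .negSucc (nat_lit 7))],
  [(nat_lit 37, .ofNat (nat_lit 8)), (nat_lit 39, .ofNat (nat_lit 8)), (nat_lit 45, .ofNat (nat_lit 8)), (nat_lit 47, .negSucc (nat_lit 7))],
  [(nat_lit 40, .ofNat (nat_lit 8)), (nat_lit 42, .ofNat (nat_lit 8)), (nat_lit 48, .negSucc (nat_lit 7)), (nat_lit 50, .ofNat (nat_lit 8))],
  [(nat_lit 41, .ofNat (nat_lit 8)), (nat_lit 43, .ofNat (nat_lit 8)), (nat_lit 49, .negSucc (nat_lit 7)), (nat_lit 51, .ofNat (nat_lit 8))],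
  [(nat_lit 40, .ofNat (nat_lit 8)), (nat_lit 42, .ofNat (nat_lit 8)), (nat_lit 48, .ofNat (nat_lit 8)), (nat_lit 50, .negSucc (nat_lit 7))],
  [(nat_lit 41, .ofNat (nat_lit 8)), (nat_lit 43, .ofNat (nat_lit 8)), (nat_lit 49, .ofNat (nat_lit 8)), (nat_lit 51, .negSucc (nat_lit 7))]]

/-- The matrix of the root 5, times sixteen. -/
def mat5 : List (List (Nat × Int)) := [
  [(nat_lit 1, .ofNat (nat_lit 32))],
  [(nat_lit 0, .ofNat (nat_lit 8))],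
  [(nat_lit 3, .ofNat (nat_lit 32))],
  [(nat_lit 2, .ofNat (nat_lit 8))],
  [(nat_lit 4, .ofNat (nat_lit 16))],
  [(nat_lit 5, .negSucc (nat_lit 15))],
  [(nat_lit 8, .ofNat (nat_lit 32))],
  [(nat_lit 9, .ofNat (nat_lit 32))],
  [(nat_lit 6, .ofNat (nat_lit 8))],
  [(nat_lit 7, .ofNat (nat_lit 8))],
  [(nat_lit 10, .negSucc (nat_lit 15))],
  [(nat_lit 11, .negSucc (nat_lit 15))],
  [(nat_lit 12, .negSucc (nat_lit 7)), (nat_lit 13, .ofNat (nat_lit 8)), (nat_lit 14, .ofNat (nat_lit 8)), (nat_lit 15, .ofNat (nat_lit 8))],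
  [(nat_lit 12, .ofNat (nat_lit 8)), (nat_lit 13, .negSucc (nat_lit 7)), (nat_lit 14, .ofNat (nat_lit 8)), (nat_lit 15, .ofNat (nat_lit 8))],
  [(nat_lit 12, .ofNat (nat_lit 8)), (nat_lit 13, .ofNat (nat_lit 8)), (nat_lit 14, .negSucc (nat_lit 7)), (nat_lit 15, .ofNat (nat_lit 8))],
  [(nat_lit 12, .ofNat (nat_lit 8)), (nat_lit 13, .ofNat (nat_lit 8)), (nat_lit 14, .ofNat (nat_lit 8)), (nat_lit 15, .negSucc (nat_lit 7))],
  [(nat_lit 18, .ofNat (nat_lit 32))],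
  [(nat_lit 19, .ofNat (nat_lit 32))],
  [(nat_lit 16, .ofNat (nat_lit 8))],
  [(nat_lit 17, .ofNat (nat_lit 8))],
  [(nat_lit 20, .negSucc (nat_lit 15))],
  [(nat_lit 21, .negSucc (nat_lit 15))],
  [(nat_lit 22, .negSucc (nat_lit 7)), (nat_lit 23, .ofNat (nat_lit 8)), (nat_lit 24, .ofNat (nat_lit 8)), (nat_lit 25, .ofNat (nat_lit 8))],
  [(nat_lit 22, .ofNat (nat_lit 8)), (nat_lit 23, .negSucc (nat_lit 7)), (nat_lit 24, .ofNat (nat_lit 8)), (nat_lit 25, .ofNat (nat_lit 8))],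
  [(nat_lit 22, .ofNat (nat_lit 8)), (nat_lit 23, .ofNat (nat_lit 8)), (nat_lit 24, .negSucc (nat_lit 7)), (nat_lit 25, .ofNat (nat_lit 8))],
  [(nat_lit 22, .ofNat (nat_lit 8)), (nat_lit 23, .ofNat (nat_lit 8)), (nat_lit 24, .ofNat (nat_lit 8)), (nat_lit 25, .negSucc (nat_lit 7))],
  [(nat_lit 28, .ofNat (nat_lit 32))],
  [(nat_lit 29, .ofNat (nat_lit 32))],
  [(nat_lit 26, .ofNat (nat_lit 8))],
  [(nat_lit 27, .ofNat (nat_lit 8))],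
  [(nat_lit 30, .negSucc (nat_lit 15))],
  [(nat_lit 31, .negSucc (nat_lit 15))],
  [(nat_lit 32, .negSucc (nat_lit 7)), (nat_lit 33, .ofNat (nat_lit 8)), (nat_lit 34, .ofNat (nat_lit 8)), (nat_lit 35, .ofNat (nat_lit 8))],
  [(nat_lit 32, .ofNat (nat_lit 8)), (nat_lit 33, .negSucc (nat_lit 7)), (nat_lit 34, .ofNat (nat_lit 8)), (nat_lit 35, .ofNat (nat_lit 8))],
  [(nat_lit 32, .ofNat (nat_lit 8)), (nat_lit 33, .ofNat (nat_lit 8)), (nat_lit 34, .negSucc (nat_lit 7)), (nat_lit 35, .ofNat (nat_lit 8))],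
  [(nat_lit 32, .ofNat (nat_lit 8)), (nat_lit 33, .ofNat (nat_lit 8)), (nat_lit 34, .ofNat (nat_lit 8)), (nat_lit 35, .negSucc (nat_lit 7))],
  [(nat_lit 36, .negSucc (nat_lit 7)), (nat_lit 40, .ofNat (nat_lit 8)), (nat_lit 44, .ofNat (nat_lit 8)), (nat_lit 48, .ofNat (nat_lit 8))],
  [(nat_lit 37, .negSucc (nat_lit 7)), (nat_lit 41, .ofNat (nat_lit 8)), (nat_lit 45, .ofNat (nat_lit 8)), (nat_lit 49, .ofNat (nat_lit 8))],
  [(nat_lit 38, .negSucc (nat_lit 7)), (nat_lit 42, .ofNat (nat_lit 8)), (nat_lit 46, .ofNat (nat_lit 8)), (nat_lit 50, .ofNat (nat_lit 8))],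
  [(nat_lit 39, .negSucc (nat_lit 7)), (nat_lit 43, .ofNat (nat_lit 8)), (nat_lit 47, .ofNat (nat_lit 8)), (nat_lit 51, .ofNat (nat_lit 8))],
  [(nat_lit 36, .ofNat (nat_lit 8)), (nat_lit 40, .negSucc (nat_lit 7)), (nat_lit 44, .ofNat (nat_lit 8)), (nat_lit 48, .ofNat (nat_lit 8))],
  [(nat_lit 37, .ofNat (nat_lit 8)), (nat_lit 41, .negSucc (nat_lit 7)), (nat_lit 45, .ofNat (nat_lit 8)), (nat_lit 49, .ofNat (nat_lit 8))],
  [(nat_lit 38, .ofNat (nat_lit 8)), (nat_lit 42, .negSucc (nat_lit 7)), (nat_lit 46, .ofNat (nat_lit 8)), (nat_lit 50, .ofNat (nat_lit 8))],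
  [(nat_lit 39, .ofNat (nat_lit 8)), (nat_lit 43, .negSucc (nat_lit 7)), (nat_lit 47, .ofNat (nat_lit 8)), (nat_lit 51, .ofNat (nat_lit 8))],
  [(nat_lit 36, .ofNat (nat_lit 8)), (nat_lit 40, .ofNat (nat_lit 8)), (nat_lit 44, .negSucc (nat_lit 7)), (nat_lit 48, .ofNat (nat_lit 8))],
  [(nat_lit 37, .ofNat (nat_lit 8)), (nat_lit 41, .ofNat (nat_lit 8)), (nat_lit 45, .negSucc (nat_lit 7)), (nat_lit 49, .ofNat (nat_lit 8))],
  [(nat_lit 38, .ofNat (nat_lit 8)), (nat_lit 42, .ofNat (nat_lit 8)), (nat_lit 46, .negSucc (nat_lit 7)), (nat_lit 50, .ofNat (nat_lit 8))],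
  [(nat_lit 39, .ofNat (nat_lit 8)), (nat_lit 43, .ofNat (nat_lit 8)), (nat_lit 47, .negSucc (nat_lit 7)), (nat_lit 51, .ofNat (nat_lit 8))],
  [(nat_lit 36, .ofNat (nat_lit 8)), (nat_lit 40, .ofNat (nat_lit 8)), (nat_lit 44, .ofNat (nat_lit 8)), (nat_lit 48, .negSucc (nat_lit 7))],
  [(nat_lit 37, .ofNat (nat_lit 8)), (nat_lit 41, .ofNat (nat_lit 8)), (nat_lit 45, .ofNat (nat_lit 8)), (nat_lit 49, .negSucc (nat_lit 7))],
  [(nat_lit 38, .ofNat (nat_lit 8)), (nat_lit 42, .ofNat (nat_lit 8)), (nat_lit 46, .ofNat (nat_lit 8)), (nat_lit 50, .negSucc (nat_lit 7))],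
  [(nat_lit 39, .ofNat (nat_lit 8)), (nat_lit 43, .ofNat (nat_lit 8)), (nat_lit 47, .ofNat (nat_lit 8)), (nat_lit 51, .negSucc (nat_lit 7))]]

/-- The matrix of the root 6, times sixteen. -/
def mat6 : List (List (Nat × Int)) := [
  [(nat_lit 2, .ofNat (nat_lit 16))],
  [(nat_lit 3, .ofNat (nat_lit 16))],
  [(nat_lit 0, .ofNat (nat_lit 16))],
  [(nat_lit 1, .ofNat (nat_lit 16))],
  [(nat_lit 4, .ofNat (nat_lit 16))],
  [(nat_lit 5, .ofNat (nat_lit 16))],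
  [(nat_lit 7, .ofNat (nat_lit 16))],
  [(nat_lit 6, .ofNat (nat_lit 16))],
  [(nat_lit 9, .ofNat (nat_lit 16))],
  [(nat_lit 8, .ofNat (nat_lit 16))],
  [(nat_lit 10, .negSucc (nat_lit 15))],
  [(nat_lit 11, .negSucc (nat_lit 15))],
  [(nat_lit 13, .ofNat (nat_lit 16))],
  [(nat_lit 12, .ofNat (nat_lit 16))],
  [(nat_lit 15, .ofNat (nat_lit 16))],
  [(nat_lit 14, .ofNat (nat_lit 16))],
  [(nat_lit 17, .ofNat (nat_lit 16))],
  [(nat_lit 16, .ofNat (nat_lit 16))],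
  [(nat_lit 19, .ofNat (nat_lit 16))],
  [(nat_lit 18, .ofNat (nat_lit 16))],
  [(nat_lit 20, .negSucc (nat_lit 15))],
  [(nat_lit 21, .negSucc (nat_lit 15))],
  [(nat_lit 23, .ofNat (nat_lit 16))],
  [(nat_lit 22, .ofNat (nat_lit 16))],
  [(nat_lit 25, .ofNat (nat_lit 16))],
  [(nat_lit 24, .ofNat (nat_lit 16))],
  [(nat_lit 27, .ofNat (nat_lit 16))],
  [(nat_lit 26, .ofNat (nat_lit 16))],
  [(nat_lit 29, .ofNat (nat_lit 16))],
  [(nat_lit 28, .ofNat (nat_lit 16))],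
  [(nat_lit 30, .negSucc (nat_lit 15))],
  [(nat_lit 31, .negSucc (nat_lit 15))],
  [(nat_lit 33, .ofNat (nat_lit 16))],
  [(nat_lit 32, .ofNat (nat_lit 16))],
  [(nat_lit 35, .ofNat (nat_lit 16))],
  [(nat_lit 34, .ofNat (nat_lit 16))],
  [(nat_lit 36, .negSucc (nat_lit 15))],
  [(nat_lit 37, .negSucc (nat_lit 15))],
  [(nat_lit 38, .negSucc (nat_lit 15))],
  [(nat_lit 39, .negSucc (nat_lit 15))],
  [(nat_lit 40, .negSucc (nat_lit 15))],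
  [(nat_lit 41, .negSucc (nat_lit 15))],
  [(nat_lit 42, .negSucc (nat_lit 15))],
  [(nat_lit 43, .negSucc (nat_lit 15))],
  [(nat_lit 44, .negSucc (nat_lit 15))],
  [(nat_lit 45, .negSucc (nat_lit 15))],
  [(nat_lit 46, .negSucc (nat_lit 15))],
  [(nat_lit 47, .negSucc (nat_lit 15))],
  [(nat_lit 48, .negSucc (nat_lit 15))],
  [(nat_lit 49, .negSucc (nat_lit 15))],
  [(nat_lit 50, .negSucc (nat_lit 15))],
  [(nat_lit 51, .negSucc (nat_lit 15))]]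

/-- The matrix of the root 7, times sixteen. -/
def mat7 : List (List (Nat × Int)) := [
  [(nat_lit 0, .ofNat (nat_lit 8)), (nat_lit 1, .ofNat (nat_lit 8)), (nat_lit 3, .negSucc (nat_lit 7)), (nat_lit 4, .ofNat (nat_lit 4)), (nat_lit 5, .ofNat (nat_lit 4)), (nat_lit 8, .negSucc (nat_lit 7)), (nat_lit 9, .negSucc (nat_lit 7)), (nat_lit 10, .ofNat (nat_lit 4)), (nat_lit 11, .ofNat (nat_lit 4)), (nat_lit 12, .negSucc (nat_lit 7)), (nat_lit 13, .ofNat (nat_lit 8)), (nat_lit 14, .ofNat (nat_lit 8)), (nat_lit 15, .ofNat (nat_lit 8))],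
  [(nat_lit 0, .ofNat (nat_lit 2)), (nat_lit 1, .ofNat (nat_lit 8)), (nat_lit 2, .negSucc (nat_lit 1)), (nat_lit 4, .ofNat (nat_lit 2)), (nat_lit 5, .negSucc (nat_lit 1)), (nat_lit 6, .negSucc (nat_lit 1)), (nat_lit 7, .negSucc (nat_lit 1)), (nat_lit 10, .negSucc (nat_lit 1)), (nat_lit 11, .negSucc (nat_lit 1)), (nat_lit 12, .ofNat (nat_lit 8))],
  [(nat_lit 1, .negSucc (nat_lit 7)), (nat_lit 2, .ofNat (nat_lit 8)), (nat_lit 3, .ofNat (nat_lit 8)), (nat_lit 4, .ofNat (nat_lit 4)), (nat_lit 5, .ofNat (nat_lit 4)), (nat_lit 8, .negSucc (nat_lit 7)), (nat_lit 9, .negSucc (nat_lit 7)), (nat_lit 10, .negSucc (nat_lit 3)), (nat_lit 11, .negSucc (nat_lit 3)), (nat_lit 12, .ofNat (nat_lit 8)), (nat_lit 13, .negSucc (nat_lit 7)), (nat_lit 14, .ofNat (nat_lit 8)), (nat_lit 15, .ofNat (nat_lit 8))],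
  [(nat_lit 0, .negSucc (nat_lit 1)), (nat_lit 2, .ofNat (nat_lit 2)), (nat_lit 3, .ofNat (nat_lit 8)), (nat_lit 4, .ofNat (nat_lit 2)), (nat_lit 5, .negSucc (nat_lit 1)), (nat_lit 6, .negSucc (nat_lit 1)), (nat_lit 7, .negSucc (nat_lit 1)), (nat_lit 10, .ofNat (nat_lit 2)), (nat_lit 11, .ofNat (nat_lit 2)), (nat_lit 13, .ofNat (nat_lit 8))],
  [(nat_lit 0, .ofNat (nat_lit 4)), (nat_lit 1, .ofNat (nat_lit 8)), (nat_lit 2, .ofNat (nat_lit 4)), (nat_lit 3, .ofNat (nat_lit 8)), (nat_lit 4, .ofNat (nat_lit 8)), (nat_lit 6, .ofNat (nat_lit 4)), (nat_lit 7, .ofNat (nat_lit 4)), (nat_lit 8, .ofNat (nat_lit 8)), (nat_lit 9, .ofNat (nat_lit 8)), (nat_lit 12, .negSucc (nat_lit 7)), (nat_lit 13, .negSucc (nat_lit 7)), (nat_lit 14, .negSucc (nat_lit 7)), (nat_lit 15, .negSucc (nat_lit 7))],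
  [(nat_lit 0, .ofNat (nat_lit 4)), (nat_lit 1, .negSucc (nat_lit 7)), (nat_lit 2, .ofNat (nat_lit 4)), (nat_lit 3, .negSucc (nat_lit 7)), (nat_lit 5, .ofNat (nat_lit 8)), (nat_lit 6, .negSucc (nat_lit 3)), (nat_lit 7, .negSucc (nat_lit 3)), (nat_lit 8, .ofNat (nat_lit 8)), (nat_lit 9, .ofNat (nat_lit 8)), (nat_lit 12, .ofNat (nat_lit 8)), (nat_lit 13, .ofNat (nat_lit 8)), (nat_lit 14, .negSucc (nat_lit 7)), (nat_lit 15, .negSucc (nat_lit 7))],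
  [(nat_lit 1, .negSucc (nat_lit 7)), (nat_lit 3, .negSucc (nat_lit 7)), (nat_lit 4, .ofNat (nat_lit 4)), (nat_lit 5, .negSucc (nat_lit 3)), (nat_lit 6, .ofNat (nat_lit 8)), (nat_lit 8, .ofNat (nat_lit 8)), (nat_lit 9, .negSucc (nat_lit 7)), (nat_lit 10, .ofNat (nat_lit 4)), (nat_lit 11, .negSucc (nat_lit 3)), (nat_lit 12, .ofNat (nat_lit 8)), (nat_lit 13, .ofNat (nat_lit 8)), (nat_lit 14, .negSucc (nat_lit 7)), (nat_lit 15, .ofNat (nat_lit 8))],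
  [(nat_lit 1, .negSucc (nat_lit 7)), (nat_lit 3, .negSucc (nat_lit 7)), (nat_lit 4, .ofNat (nat_lit 4)), (nat_lit 5, .negSucc (nat_lit 3)), (nat_lit 7, .ofNat (nat_lit 8)), (nat_lit 8, .negSucc (nat_lit 7)), (nat_lit 9, .ofNat (nat_lit 8)), (nat_lit 10, .negSucc (nat_lit 3)), (nat_lit 11, .ofNat (nat_lit 4)), (nat_lit 12, .ofNat (nat_lit 8)), (nat_lit 13, .ofNat (nat_lit 8)), (nat_lit 14, .ofNat (nat_lit 8)), (nat_lit 15, .negSucc (nat_lit 7))],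
  [(nat_lit 0, .negSucc (nat_lit 1)), (nat_lit 2, .negSucc (nat_lit 1)), (nat_lit 4, .ofNat (nat_lit 2)), (nat_lit 5, .ofNat (nat_lit 2)), (nat_lit 6, .ofNat (nat_lit 2)), (nat_lit 7, .negSucc (nat_lit 1)), (nat_lit 8, .ofNat (nat_lit 8)), (nat_lit 10, .negSucc (nat_lit 1)), (nat_lit 11, .ofNat (nat_lit 2)), (nat_lit 14, .ofNat (nat_lit 8))],
  [(nat_lit 0, .negSucc (nat_lit 1)), (nat_lit 2, .negSucc (nat_lit 1)), (nat_lit 4, .ofNat (nat_lit 2)), (nat_lit 5, .ofNat (nat_lit 2)), (nat_lit 6, .negSucc (nat_lit 1)), (nat_lit 7, .ofNat (nat_lit 2)), (nat_lit 9, .ofNat (nat_lit 8)), (nat_lit 10, .ofNat (nat_lit 2)), (nat_lit 11, .negSucc (nat_lit 1)), (nat_lit 15, .ofNat (nat_lit 8))],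
  [(nat_lit 0, .ofNat (nat_lit 4)), (nat_lit 1, .negSucc (nat_lit 7)), (nat_lit 2, .negSucc (nat_lit 3)), (nat_lit 3, .ofNat (nat_lit 8)), (nat_lit 6, .ofNat (nat_lit 4)), (nat_lit 7, .negSucc (nat_lit 3)), (nat_lit 8, .negSucc (nat_lit 7)), (nat_lit 9, .ofNat (nat_lit 8)), (nat_lit 10, .ofNat (nat_lit 8)), (nat_lit 12, .ofNat (nat_lit 8)), (nat_lit 13, .negSucc (nat_lit 7)), (nat_lit 14, .ofNat (nat_lit 8)), (nat_lit 15, .negSucc (nat_lit 7))],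
  [(nat_lit 0, .ofNat (nat_lit 4)), (nat_lit 1, .negSucc (nat_lit 7)), (nat_lit 2, .negSucc (nat_lit 3)), (nat_lit 3, .ofNat (nat_lit 8)), (nat_lit 6, .negSucc (nat_lit 3)), (nat_lit 7, .ofNat (nat_lit 4)), (nat_lit 8, .ofNat (nat_lit 8)), (nat_lit 9, .negSucc (nat_lit 7)), (nat_lit 11, .ofNat (nat_lit 8)), (nat_lit 12, .ofNat (nat_lit 8)), (nat_lit 13, .negSucc (nat_lit 7)), (nat_lit 14, .negSucc (nat_lit 7)), (nat_lit 15, .ofNat (nat_lit 8))],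
  [(nat_lit 0, .negSucc (nat_lit 1)), (nat_lit 1, .ofNat (nat_lit 8)), (nat_lit 2, .ofNat (nat_lit 2)), (nat_lit 4, .negSucc (nat_lit 1)), (nat_lit 5, .ofNat (nat_lit 2)), (nat_lit 6, .ofNat (nat_lit 2)), (nat_lit 7, .ofNat (nat_lit 2)), (nat_lit 10, .ofNat (nat_lit 2)), (nat_lit 11, .ofNat (nat_lit 2)), (nat_lit 12, .ofNat (nat_lit 8))],
  [(nat_lit 0, .ofNat (nat_lit 2)), (nat_lit 2, .negSucc (nat_lit 1)), (nat_lit 3, .ofNat (nat_lit 8)), (nat_lit 4, .negSucc (nat_lit 1)), (nat_lit 5, .ofNat (nat_lit 2)), (nat_lit 6, .ofNat (nat_lit 2)), (nat_lit 7, .ofNat (nat_lit 2)), (nat_lit 10, .negSucc (nat_lit 1)), (nat_lit 11, .negSucc (nat_lit 1)), (nat_lit 13, .ofNat (nat_lit 8))],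
  [(nat_lit 0, .ofNat (nat_lit 2)), (nat_lit 2, .ofNat (nat_lit 2)), (nat_lit 4, .negSucc (nat_lit 1)), (nat_lit 5, .negSucc (nat_lit 1)), (nat_lit 6, .negSucc (nat_lit 1)), (nat_lit 7, .ofNat (nat_lit 2)), (nat_lit 8, .ofNat (nat_lit 8)), (nat_lit 10, .ofNat (nat_lit 2)), (nat_lit 11, .negSucc (nat_lit 1)), (nat_lit 14, .ofNat (nat_lit 8))],
  [(nat_lit 0, .ofNat (nat_lit 2)), (nat_lit 2, .ofNat (nat_lit 2)), (nat_lit 4, .negSucc (nat_lit 1)), (nat_lit 5, .negSucc (nat_lit 1)), (nat_lit 6, .ofNat (nat_lit 2)), (nat_lit 7, .negSucc (nat_lit 1)), (nat_lit 9, .ofNat (nat_lit 8)), (nat_lit 10, .negSucc (nat_lit 1)), (nat_lit 11, .ofNat (nat_lit 2)), (nat_lit 15, .ofNat (nat_lit 8))],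
  [(nat_lit 16, .ofNat (nat_lit 4)), (nat_lit 17, .ofNat (nat_lit 4)), (nat_lit 22, .ofNat (nat_lit 8)), (nat_lit 23, .ofNat (nat_lit 8)), (nat_lit 26, .ofNat (nat_lit 4)), (nat_lit 27, .ofNat (nat_lit 4)), (nat_lit 32, .negSucc (nat_lit 7)), (nat_lit 33, .negSucc (nat_lit 7)), (nat_lit 36, .ofNat (nat_lit 8)), (nat_lit 37, .negSucc (nat_lit 7)), (nat_lit 38, .ofNat (nat_lit 8)), (nat_lit 39, .negSucc (nat_lit 7)), (nat_lit 40, .ofNat (nat_lit 8)), (nat_lit 41, .negSucc (nat_lit 7)), (nat_lit 42, .ofNat (nat_lit 8)), (nat_lit 43, .negSucc (nat_lit 7))],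
  [(nat_lit 16, .ofNat (nat_lit 4)), (nat_lit 17, .ofNat (nat_lit 4)), (nat_lit 22, .ofNat (nat_lit 8)), (nat_lit 23, .ofNat (nat_lit 8)), (nat_lit 26, .ofNat (nat_lit 4)), (nat_lit 27, .ofNat (nat_lit 4)), (nat_lit 32, .negSucc (nat_lit 7)), (nat_lit 33, .negSucc (nat_lit 7)), (nat_lit 36, .negSucc (nat_lit 7)), (nat_lit 37, .ofNat (nat_lit 8)), (nat_lit 38, .negSucc (nat_lit 7)), (nat_lit 39, .ofNat (nat_lit 8)), (nat_lit 40, .negSucc (nat_lit 7)), (nat_lit 41, .ofNat (nat_lit 8)), (nat_lit 42, .negSucc (nat_lit 7)), (nat_lit 43, .ofNat (nat_lit 8))],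
  [(nat_lit 18, .ofNat (nat_lit 4)), (nat_lit 19, .ofNat (nat_lit 4)), (nat_lit 24, .ofNat (nat_lit 4)), (nat_lit 25, .ofNat (nat_lit 4)), (nat_lit 28, .ofNat (nat_lit 4)), (nat_lit 29, .ofNat (nat_lit 4)), (nat_lit 34, .negSucc (nat_lit 3)), (nat_lit 35, .negSucc (nat_lit 3)), (nat_lit 44, .ofNat (nat_lit 4)), (nat_lit 45, .negSucc (nat_lit 3)), (nat_lit 46, .ofNat (nat_lit 4)), (nat_lit 47, .negSucc (nat_lit 3)), (nat_lit 48, .ofNat (nat_lit 4)), (nat_lit 49, .negSucc (nat_lit 3)), (nat_lit 50, .ofNat (nat_lit 4)), (nat_lit 51, .negSucc (nat_lit 3))],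
  [(nat_lit 18, .ofNat (nat_lit 4)), (nat_lit 19, .ofNat (nat_lit 4)), (nat_lit 24, .ofNat (nat_lit 4)), (nat_lit 25, .ofNat (nat_lit 4)), (nat_lit 28, .ofNat (nat_lit 4)), (nat_lit 29, .ofNat (nat_lit 4)), (nat_lit 34, .negSucc (nat_lit 3)), (nat_lit 35, .negSucc (nat_lit 3)), (nat_lit 44, .negSucc (nat_lit 3)), (nat_lit 45, .ofNat (nat_lit 4)), (nat_lit 46, .negSucc (nat_lit 3)), (nat_lit 47, .ofNat (nat_lit 4)), (nat_lit 48, .negSucc (nat_lit 3)), (nat_lit 49, .ofNat (nat_lit 4)), (nat_lit 50, .negSucc (nat_lit 3)), (nat_lit 51, .ofNat (nat_lit 4))],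
  [(nat_lit 20, .ofNat (nat_lit 4)), (nat_lit 21, .ofNat (nat_lit 4)), (nat_lit 22, .ofNat (nat_lit 8)), (nat_lit 23, .negSucc (nat_lit 7)), (nat_lit 30, .ofNat (nat_lit 4)), (nat_lit 31, .ofNat (nat_lit 4)), (nat_lit 32, .negSucc (nat_lit 7)), (nat_lit 33, .ofNat (nat_lit 8)), (nat_lit 36, .ofNat (nat_lit 8)), (nat_lit 37, .negSucc (nat_lit 7)), (nat_lit 38, .ofNat (nat_lit 8)), (nat_lit 39, .negSucc (nat_lit 7)), (nat_lit 40, .negSucc (nat_lit 7)), (nat_lit 41, .ofNat (nat_lit 8)), (nat_lit 42, .negSucc (nat_lit 7)), (nat_lit 43, .ofNat (nat_lit 8))],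
  [(nat_lit 20, .ofNat (nat_lit 4)), (nat_lit 21, .ofNat (nat_lit 4)), (nat_lit 22, .ofNat (nat_lit 8)), (nat_lit 23, .negSucc (nat_lit 7)), (nat_lit 30, .ofNat (nat_lit 4)), (nat_lit 31, .ofNat (nat_lit 4)), (nat_lit 32, .negSucc (nat_lit 7)), (nat_lit 33, .ofNat (nat_lit 8)), (nat_lit 36, .negSucc (nat_lit 7)), (nat_lit 37, .ofNat (nat_lit 8)), (nat_lit 38, .negSucc (nat_lit 7)), (nat_lit 39, .ofNat (nat_lit 8)), (nat_lit 40, .ofNat (nat_lit 8)), (nat_lit 41, .negSucc (nat_lit 7)), (nat_lit 42, .ofNat (nat_lit 8)), (nat_lit 43, .negSucc (nat_lit 7))],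
  [(nat_lit 16, .ofNat (nat_lit 2)), (nat_lit 17, .ofNat (nat_lit 2)), (nat_lit 20, .ofNat (nat_lit 2)), (nat_lit 21, .ofNat (nat_lit 2)), (nat_lit 22, .ofNat (nat_lit 8)), (nat_lit 26, .negSucc (nat_lit 1)), (nat_lit 27, .negSucc (nat_lit 1)), (nat_lit 30, .negSucc (nat_lit 1)), (nat_lit 31, .negSucc (nat_lit 1)), (nat_lit 32, .ofNat (nat_lit 8))],
  [(nat_lit 16, .ofNat (nat_lit 2)), (nat_lit 17, .ofNat (nat_lit 2)), (nat_lit 20, .negSucc (nat_lit 1)), (nat_lit 21, .negSucc (nat_lit 1)), (nat_lit 23, .ofNat (nat_lit 8)), (nat_lit 26, .negSucc (nat_lit 1)), (nat_lit 27, .negSucc (nat_lit 1)), (nat_lit 30, .ofNat (nat_lit 2)), (nat_lit 31, .ofNat (nat_lit 2)), (nat_lit 33, .ofNat (nat_lit 8))],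
  [(nat_lit 18, .ofNat (nat_lit 4)), (nat_lit 19, .ofNat (nat_lit 4)), (nat_lit 24, .ofNat (nat_lit 4)), (nat_lit 25, .ofNat (nat_lit 4)), (nat_lit 28, .negSucc (nat_lit 3)), (nat_lit 29, .negSucc (nat_lit 3)), (nat_lit 34, .ofNat (nat_lit 4)), (nat_lit 35, .ofNat (nat_lit 4)), (nat_lit 44, .ofNat (nat_lit 4)), (nat_lit 45, .negSucc (nat_lit 3)), (nat_lit 46, .ofNat (nat_lit 4)), (nat_lit 47, .negSucc (nat_lit 3)), (nat_lit 48, .negSucc (nat_lit 3)), (nat_lit 49, .ofNat (nat_lit 4)), (nat_lit 50, .negSucc (nat_lit 3)), (nat_lit 51, .ofNat (nat_lit 4))],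
  [(nat_lit 18, .ofNat (nat_lit 4)), (nat_lit 19, .ofNat (nat_lit 4)), (nat_lit 24, .ofNat (nat_lit 4)), (nat_lit 25, .ofNat (nat_lit 4)), (nat_lit 28, .negSucc (nat_lit 3)), (nat_lit 29, .negSucc (nat_lit 3)), (nat_lit 34, .ofNat (nat_lit 4)), (nat_lit 35, .ofNat (nat_lit 4)), (nat_lit 44, .negSucc (nat_lit 3)), (nat_lit 45, .ofNat (nat_lit 4)), (nat_lit 46, .negSucc (nat_lit 3)), (nat_lit 47, .ofNat (nat_lit 4)), (nat_lit 48, .ofNat (nat_lit 4)), (nat_lit 49, .negSucc (nat_lit 3)), (nat_lit 50, .ofNat (nat_lit 4)), (nat_lit 51, .negSucc (nat_lit 3))],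
  [(nat_lit 16, .ofNat (nat_lit 4)), (nat_lit 17, .ofNat (nat_lit 4)), (nat_lit 22, .negSucc (nat_lit 7)), (nat_lit 23, .negSucc (nat_lit 7)), (nat_lit 26, .ofNat (nat_lit 4)), (nat_lit 27, .ofNat (nat_lit 4)), (nat_lit 32, .ofNat (nat_lit 8)), (nat_lit 33, .ofNat (nat_lit 8)), (nat_lit 36, .ofNat (nat_lit 8)), (nat_lit 37, .negSucc (nat_lit 7)), (nat_lit 38, .negSucc (nat_lit 7)), (nat_lit 39, .ofNat (nat_lit 8)), (nat_lit 40, .ofNat (nat_lit 8)), (nat_lit 41, .negSucc (nat_lit 7)), (nat_lit 42, .negSucc (nat_lit 7)), (nat_lit 43, .ofNat (nat_lit 8))],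
  [(nat_lit 16, .ofNat (nat_lit 4)), (nat_lit 17, .ofNat (nat_lit 4)), (nat_lit 22, .negSucc (nat_lit 7)), (nat_lit 23, .negSucc (nat_lit 7)), (nat_lit 26, .ofNat (nat_lit 4)), (nat_lit 27, .ofNat (nat_lit 4)), (nat_lit 32, .ofNat (nat_lit 8)), (nat_lit 33, .ofNat (nat_lit 8)), (nat_lit 36, .negSucc (nat_lit 7)), (nat_lit 37, .ofNat (nat_lit 8)), (nat_lit 38, .ofNat (nat_lit 8)), (nat_lit 39, .negSucc (nat_lit 7)), (nat_lit 40, .negSucc (nat_lit 7)), (nat_lit 41, .ofNat (nat_lit 8)), (nat_lit 42, .ofNat (nat_lit 8)), (nat_lit 43, .negSucc (nat_lit 7))],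
  [(nat_lit 18, .ofNat (nat_lit 4)), (nat_lit 19, .ofNat (nat_lit 4)), (nat_lit 24, .negSucc (nat_lit 3)), (nat_lit 25, .negSucc (nat_lit 3)), (nat_lit 28, .ofNat (nat_lit 4)), (nat_lit 29, .ofNat (nat_lit 4)), (nat_lit 34, .ofNat (nat_lit 4)), (nat_lit 35, .ofNat (nat_lit 4)), (nat_lit 44, .ofNat (nat_lit 4)), (nat_lit 45, .negSucc (nat_lit 3)), (nat_lit 46, .negSucc (nat_lit 3)), (nat_lit 47, .ofNat (nat_lit 4)), (nat_lit 48, .ofNat (nat_lit 4)), (nat_lit 49, .negSucc (nat_lit 3)), (nat_lit 50, .negSucc (nat_lit 3)), (nat_lit 51, .ofNat (nat_lit 4))],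
  [(nat_lit 18, .ofNat (nat_lit 4)), (nat_lit 19, .ofNat (nat_lit 4)), (nat_lit 24, .negSucc (nat_lit 3)), (nat_lit 25, .negSucc (nat_lit 3)), (nat_lit 28, .ofNat (nat_lit 4)), (nat_lit 29, .ofNat (nat_lit 4)), (nat_lit 34, .ofNat (nat_lit 4)), (nat_lit 35, .ofNat (nat_lit 4)), (nat_lit 44, .negSucc (nat_lit 3)), (nat_lit 45, .ofNat (nat_lit 4)), (nat_lit 46, .ofNat (nat_lit 4)), (nat_lit 47, .negSucc (nat_lit 3)), (nat_lit 48, .negSucc (nat_lit 3)), (nat_lit 49, .ofNat (nat_lit 4)), (nat_lit 50, .ofNat (nat_lit 4)), (nat_lit 51, .negSucc (nat_lit 3))],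
  [(nat_lit 20, .ofNat (nat_lit 4)), (nat_lit 21, .ofNat (nat_lit 4)), (nat_lit 22, .negSucc (nat_lit 7)), (nat_lit 23, .ofNat (nat_lit 8)), (nat_lit 30, .ofNat (nat_lit 4)), (nat_lit 31, .ofNat (nat_lit 4)), (nat_lit 32, .ofNat (nat_lit 8)), (nat_lit 33, .negSucc (nat_lit 7)), (nat_lit 36, .ofNat (nat_lit 8)), (nat_lit 37, .negSucc (nat_lit 7)), (nat_lit 38, .negSucc (nat_lit 7)), (nat_lit 39, .ofNat (nat_lit 8)), (nat_lit 40, .negSucc (nat_lit 7)), (nat_lit 41, .ofNat (nat_lit 8)), (nat_lit 42, .ofNat (nat_lit 8)), (nat_lit 43, .negSucc (nat_lit 7))],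
  [(nat_lit 20, .ofNat (nat_lit 4)), (nat_lit 21, .ofNat (nat_lit 4)), (nat_lit 22, .negSucc (nat_lit 7)), (nat_lit 23, .ofNat (nat_lit 8)), (nat_lit 30, .ofNat (nat_lit 4)), (nat_lit 31, .ofNat (nat_lit 4)), (nat_lit 32, .ofNat (nat_lit 8)), (nat_lit 33, .negSucc (nat_lit 7)), (nat_lit 36, .negSucc (nat_lit 7)), (nat_lit 37, .ofNat (nat_lit 8)), (nat_lit 38, .ofNat (nat_lit 8)), (nat_lit 39, .negSucc (nat_lit 7)), (nat_lit 40, .ofNat (nat_lit 8)), (nat_lit 41, .negSucc (nat_lit 7)), (nat_lit 42, .negSucc (nat_lit 7)), (nat_lit 43, .ofNat (nat_lit 8))],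
  [(nat_lit 16, .negSucc (nat_lit 1)), (nat_lit 17, .negSucc (nat_lit 1)), (nat_lit 20, .negSucc (nat_lit 1)), (nat_lit 21, .negSucc (nat_lit 1)), (nat_lit 22, .ofNat (nat_lit 8)), (nat_lit 26, .ofNat (nat_lit 2)), (nat_lit 27, .ofNat (nat_lit 2)), (nat_lit 30, .ofNat (nat_lit 2)), (nat_lit 31, .ofNat (nat_lit 2)), (nat_lit 32, .ofNat (nat_lit 8))],
  [(nat_lit 16, .negSucc (nat_lit 1)), (nat_lit 17, .negSucc (nat_lit 1)), (nat_lit 20, .ofNat (nat_lit 2)), (nat_lit 21, .ofNat (nat_lit 2)), (nat_lit 23, .ofNat (nat_lit 8)), (nat_lit 26, .ofNat (nat_lit 2)), (nat_lit 27, .ofNat (nat_lit 2)), (nat_lit 30, .negSucc (nat_lit 1)), (nat_lit 31, .negSucc (nat_lit 1)), (nat_lit 33, .ofNat (nat_lit 8))],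
  [(nat_lit 18, .negSucc (nat_lit 3)), (nat_lit 19, .negSucc (nat_lit 3)), (nat_lit 24, .ofNat (nat_lit 4)), (nat_lit 25, .ofNat (nat_lit 4)), (nat_lit 28, .ofNat (nat_lit 4)), (nat_lit 29, .ofNat (nat_lit 4)), (nat_lit 34, .ofNat (nat_lit 4)), (nat_lit 35, .ofNat (nat_lit 4)), (nat_lit 44, .negSucc (nat_lit 3)), (nat_lit 45, .ofNat (nat_lit 4)), (nat_lit 46, .ofNat (nat_lit 4)), (nat_lit 47, .negSucc (nat_lit 3)), (nat_lit 48, .ofNat (nat_lit 4)), (nat_lit 49, .negSucc (nat_lit 3)), (nat_lit 50, .negSucc (nat_lit 3)), (nat_lit 51, .ofNat (nat_lit 4))],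
  [(nat_lit 18, .negSucc (nat_lit 3)), (nat_lit 19, .negSucc (nat_lit 3)), (nat_lit 24, .ofNat (nat_lit 4)), (nat_lit 25, .ofNat (nat_lit 4)), (nat_lit 28, .ofNat (nat_lit 4)), (nat_lit 29, .ofNat (nat_lit 4)), (nat_lit 34, .ofNat (nat_lit 4)), (nat_lit 35, .ofNat (nat_lit 4)), (nat_lit 44, .ofNat (nat_lit 4)), (nat_lit 45, .negSucc (nat_lit 3)), (nat_lit 46, .negSucc (nat_lit 3)), (nat_lit 47, .ofNat (nat_lit 4)), (nat_lit 48, .negSucc (nat_lit 3)), (nat_lit 49, .ofNat (nat_lit 4)), (nat_lit 50, .ofNat (nat_lit 4)), (nat_lit 51, .negSucc (nat_lit 3))],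
  [(nat_lit 16, .ofNat (nat_lit 2)), (nat_lit 17, .negSucc (nat_lit 1)), (nat_lit 20, .ofNat (nat_lit 2)), (nat_lit 21, .negSucc (nat_lit 1)), (nat_lit 26, .ofNat (nat_lit 2)), (nat_lit 27, .negSucc (nat_lit 1)), (nat_lit 30, .ofNat (nat_lit 2)), (nat_lit 31, .negSucc (nat_lit 1)), (nat_lit 36, .ofNat (nat_lit 8)), (nat_lit 37, .ofNat (nat_lit 8))],
  [(nat_lit 16, .negSucc (nat_lit 1)), (nat_lit 17, .ofNat (nat_lit 2)), (nat_lit 20, .negSucc (nat_lit 1)), (nat_lit 21, .ofNat (nat_lit 2)), (nat_lit 26, .negSucc (nat_lit 1)), (nat_lit 27, .ofNat (nat_lit 2)), (nat_lit 30, .negSucc (nat_lit 1)), (nat_lit 31, .ofNat (nat_lit 2)), (nat_lit 36, .ofNat (nat_lit 8)), (nat_lit 37, .ofNat (nat_lit 8))],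
  [(nat_lit 16, .ofNat (nat_lit 2)), (nat_lit 17, .negSucc (nat_lit 1)), (nat_lit 20, .ofNat (nat_lit 2)), (nat_lit 21, .negSucc (nat_lit 1)), (nat_lit 26, .negSucc (nat_lit 1)), (nat_lit 27, .ofNat (nat_lit 2)), (nat_lit 30, .negSucc (nat_lit 1)), (nat_lit 31, .ofNat (nat_lit 2)), (nat_lit 38, .ofNat (nat_lit 8)), (nat_lit 39, .ofNat (nat_lit 8))],
  [(nat_lit 16, .negSucc (nat_lit 1)), (nat_lit 17, .ofNat (nat_lit 2)), (nat_lit 20, .negSucc (nat_lit 1)), (nat_lit 21, .ofNat (nat_lit 2)), (nat_lit 26, .ofNat (nat_lit 2)), (nat_lit 27, .negSucc (nat_lit 1)), (nat_lit 30, .ofNat (nat_lit 2)), (nat_lit 31, .negSucc (nat_lit 1)), (nat_lit 38, .ofNat (nat_lit 8)), (nat_lit 39, .ofNat (nat_lit 8))],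
  [(nat_lit 16, .ofNat (nat_lit 2)), (nat_lit 17, .negSucc (nat_lit 1)), (nat_lit 20, .negSucc (nat_lit 1)), (nat_lit 21, .ofNat (nat_lit 2)), (nat_lit 26, .ofNat (nat_lit 2)), (nat_lit 27, .negSucc (nat_lit 1)), (nat_lit 30, .negSucc (nat_lit 1)), (nat_lit 31, .ofNat (nat_lit 2)), (nat_lit 40, .ofNat (nat_lit 8)), (nat_lit 41, .ofNat (nat_lit 8))],
  [(nat_lit 16, .negSucc (nat_lit 1)), (nat_lit 17, .ofNat (nat_lit 2)), (nat_lit 20, .ofNat (nat_lit 2)), (nat_lit 21, .negSucc (nat_lit 1)), (nat_lit 26, .negSucc (nat_lit 1)), (nat_lit 27, .ofNat (nat_lit 2)), (nat_lit 30, .ofNat (nat_lit 2)), (nat_lit 31, .negSucc (nat_lit 1)), (nat_lit 40, .ofNat (nat_lit 8)), (nat_lit 41, .ofNat (nat_lit 8))],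
  [(nat_lit 16, .ofNat (nat_lit 2)), (nat_lit 17, .negSucc (nat_lit 1)), (nat_lit 20, .negSucc (nat_lit 1)), (nat_lit 21, .ofNat (nat_lit 2)), (nat_lit 26, .negSucc (nat_lit 1)), (nat_lit 27, .ofNat (nat_lit 2)), (nat_lit 30, .ofNat (nat_lit 2)), (nat_lit 31, .negSucc (nat_lit 1)), (nat_lit 42, .ofNat (nat_lit 8)), (nat_lit 43, .ofNat (nat_lit 8))],
  [(nat_lit 16, .negSucc (nat_lit 1)), (nat_lit 17, .ofNat (nat_lit 2)), (nat_lit 20, .ofNat (nat_lit 2)), (nat_lit 21, .negSucc (nat_lit 1)), (nat_lit 26, .ofNat (nat_lit 2)), (nat_lit 27, .negSucc (nat_lit 1)), (nat_lit 30, .negSucc (nat_lit 1)), (nat_lit 31, .ofNat (nat_lit 2)), (nat_lit 42, .ofNat (nat_lit 8)), (nat_lit 43, .ofNat (nat_lit 8))],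
  [(nat_lit 18, .ofNat (nat_lit 4)), (nat_lit 19, .negSucc (nat_lit 3)), (nat_lit 24, .ofNat (nat_lit 4)), (nat_lit 25, .negSucc (nat_lit 3)), (nat_lit 28, .ofNat (nat_lit 4)), (nat_lit 29, .negSucc (nat_lit 3)), (nat_lit 34, .negSucc (nat_lit 3)), (nat_lit 35, .ofNat (nat_lit 4)), (nat_lit 44, .ofNat (nat_lit 4)), (nat_lit 45, .ofNat (nat_lit 4)), (nat_lit 46, .ofNat (nat_lit 4)), (nat_lit 47, .ofNat (nat_lit 4)), (nat_lit 48, .ofNat (nat_lit 4)), (nat_lit 49, .ofNat (nat_lit 4)), (nat_lit 50, .negSucc (nat_lit 3)), (nat_lit 51, .negSucc (nat_lit 3))],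
  [(nat_lit 18, .negSucc (nat_lit 3)), (nat_lit 19, .ofNat (nat_lit 4)), (nat_lit 24, .negSucc (nat_lit 3)), (nat_lit 25, .ofNat (nat_lit 4)), (nat_lit 28, .negSucc (nat_lit 3)), (nat_lit 29, .ofNat (nat_lit 4)), (nat_lit 34, .ofNat (nat_lit 4)), (nat_lit 35, .negSucc (nat_lit 3)), (nat_lit 44, .ofNat (nat_lit 4)), (nat_lit 45, .ofNat (nat_lit 4)), (nat_lit 46, .ofNat (nat_lit 4)), (nat_lit 47, .ofNat (nat_lit 4)), (nat_lit 48, .ofNat (nat_lit 4)), (nat_lit 49, .ofNat (nat_lit 4)), (nat_lit 50, .negSucc (nat_lit 3)), (nat_lit 51, .negSucc (nat_lit 3))],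
  [(nat_lit 18, .ofNat (nat_lit 4)), (nat_lit 19, .negSucc (nat_lit 3)), (nat_lit 24, .ofNat (nat_lit 4)), (nat_lit 25, .negSucc (nat_lit 3)), (nat_lit 28, .negSucc (nat_lit 3)), (nat_lit 29, .ofNat (nat_lit 4)), (nat_lit 34, .ofNat (nat_lit 4)), (nat_lit 35, .negSucc (nat_lit 3)), (nat_lit 44, .ofNat (nat_lit 4)), (nat_lit 45, .ofNat (nat_lit 4)), (nat_lit 46, .ofNat (nat_lit 4)), (nat_lit 47, .ofNat (nat_lit 4)), (nat_lit 48, .negSucc (nat_lit 3)), (nat_lit 49, .negSucc (nat_lit 3)), (nat_lit 50, .ofNat (nat_lit 4)), (nat_lit 51, .ofNat (nat_lit 4))],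
  [(nat_lit 18, .negSucc (nat_lit 3)), (nat_lit 19, .ofNat (nat_lit 4)), (nat_lit 24, .negSucc (nat_lit 3)), (nat_lit 25, .ofNat (nat_lit 4)), (nat_lit 28, .ofNat (nat_lit 4)), (nat_lit 29, .negSucc (nat_lit 3)), (nat_lit 34, .negSucc (nat_lit 3)), (nat_lit 35, .ofNat (nat_lit 4)), (nat_lit 44, .ofNat (nat_lit 4)), (nat_lit 45, .ofNat (nat_lit 4)), (nat_lit 46, .ofNat (nat_lit 4)), (nat_lit 47, .ofNat (nat_lit 4)), (nat_lit 48, .negSucc (nat_lit 3)), (nat_lit 49, .negSucc (nat_lit 3)), (nat_lit 50, .ofNat (nat_lit 4)), (nat_lit 51, .ofNat (nat_lit 4))],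
  [(nat_lit 18, .ofNat (nat_lit 4)), (nat_lit 19, .negSucc (nat_lit 3)), (nat_lit 24, .negSucc (nat_lit 3)), (nat_lit 25, .ofNat (nat_lit 4)), (nat_lit 28, .ofNat (nat_lit 4)), (nat_lit 29, .negSucc (nat_lit 3)), (nat_lit 34, .ofNat (nat_lit 4)), (nat_lit 35, .negSucc (nat_lit 3)), (nat_lit 44, .ofNat (nat_lit 4)), (nat_lit 45, .ofNat (nat_lit 4)), (nat_lit 46, .negSucc (nat_lit 3)), (nat_lit 47, .negSucc (nat_lit 3)), (nat_lit 48, .ofNat (nat_lit 4)), (nat_lit 49, .ofNat (nat_lit 4)), (nat_lit 50, .ofNat (nat_lit 4)), (nat_lit 51, .ofNat (nat_lit 4))],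
  [(nat_lit 18, .negSucc (nat_lit 3)), (nat_lit 19, .ofNat (nat_lit 4)), (nat_lit 24, .ofNat (nat_lit 4)), (nat_lit 25, .negSucc (nat_lit 3)), (nat_lit 28, .negSucc (nat_lit 3)), (nat_lit 29, .ofNat (nat_lit 4)), (nat_lit 34, .negSucc (nat_lit 3)), (nat_lit 35, .ofNat (nat_lit 4)), (nat_lit 44, .ofNat (nat_lit 4)), (nat_lit 45, .ofNat (nat_lit 4)), (nat_lit 46, .negSucc (nat_lit 3)), (nat_lit 47, .negSucc (nat_lit 3)), (nat_lit 48, .ofNat (nat_lit 4)), (nat_lit 49, .ofNat (nat_lit 4)), (nat_lit 50, .ofNat (nat_lit 4)), (nat_lit 51, .ofNat (nat_lit 4))],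
  [(nat_lit 18, .ofNat (nat_lit 4)), (nat_lit 19, .negSucc (nat_lit 3)), (nat_lit 24, .negSucc (nat_lit 3)), (nat_lit 25, .ofNat (nat_lit 4)), (nat_lit 28, .negSucc (nat_lit 3)), (nat_lit 29, .ofNat (nat_lit 4)), (nat_lit 34, .negSucc (nat_lit 3)), (nat_lit 35, .ofNat (nat_lit 4)), (nat_lit 44, .negSucc (nat_lit 3)), (nat_lit 45, .negSucc (nat_lit 3)), (nat_lit 46, .ofNat (nat_lit 4)), (nat_lit 47, .ofNat (nat_lit 4)), (nat_lit 48, .ofNat (nat_lit 4)), (nat_lit 49, .ofNat (nat_lit 4)), (nat_lit 50, .ofNat (nat_lit 4)), (nat_lit 51, .ofNat (nat_lit 4))],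
  [(nat_lit 18, .negSucc (nat_lit 3)), (nat_lit 19, .ofNat (nat_lit 4)), (nat_lit 24, .ofNat (nat_lit 4)), (nat_lit 25, .negSucc (nat_lit 3)), (nat_lit 28, .ofNat (nat_lit 4)), (nat_lit 29, .negSucc (nat_lit 3)), (nat_lit 34, .ofNat (nat_lit 4)), (nat_lit 35, .negSucc (nat_lit 3)), (nat_lit 44, .negSucc (nat_lit 3)), (nat_lit 45, .negSucc (nat_lit 3)), (nat_lit 46, .ofNat (nat_lit 4)), (nat_lit 47, .ofNat (nat_lit 4)), (nat_lit 48, .ofNat (nat_lit 4)), (nat_lit 49, .ofNat (nat_lit 4)), (nat_lit 50, .ofNat (nat_lit 4)), (nat_lit 51, .ofNat (nat_lit 4))]]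

/-- The matrix of the root 8, times sixteen. -/
def mat8 : List (List (Nat × Int)) := [
  [(nat_lit 0, .ofNat (nat_lit 8)), (nat_lit 1, .ofNat (nat_lit 8)), (nat_lit 3, .negSucc (nat_lit 7)), (nat_lit 4, .ofNat (nat_lit 4)), (nat_lit 5, .ofNat (nat_lit 4)), (nat_lit 18, .negSucc (nat_lit 7)), (nat_lit 19, .negSucc (nat_lit 7)), (nat_lit 20, .ofNat (nat_lit 4)), (nat_lit 21, .ofNat (nat_lit 4)), (nat_lit 22, .negSucc (nat_lit 7)), (nat_lit 23, .ofNat (nat_lit 8)), (nat_lit 24, .ofNat (nat_lit 8)), (nat_lit 25, .ofNat (nat_lit 8))],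
  [(nat_lit 0, .ofNat (nat_lit 2)), (nat_lit 1, .ofNat (nat_lit 8)), (nat_lit 2, .negSucc (nat_lit 1)), (nat_lit 4, .ofNat (nat_lit 2)), (nat_lit 5, .negSucc (nat_lit 1)), (nat_lit 16, .negSucc (nat_lit 1)), (nat_lit 17, .negSucc (nat_lit 1)), (nat_lit 20, .negSucc (nat_lit 1)), (nat_lit 21, .negSucc (nat_lit 1)), (nat_lit 22, .ofNat (nat_lit 8))],
  [(nat_lit 1, .negSucc (nat_lit 7)), (nat_lit 2, .ofNat (nat_lit 8)), (nat_lit 3, .ofNat (nat_lit 8)), (nat_lit 4, .ofNat (nat_lit 4)), (nat_lit 5, .ofNat (nat_lit 4)), (nat_lit 18, .negSucc (nat_lit 7)), (nat_lit 19, .negSucc (nat_lit 7)), (nat_lit 20, .negSucc (nat_lit 3)), (nat_lit 21, .negSucc (nat_lit 3)), (nat_lit 22, .ofNat (nat_lit 8)), (nat_lit 23, .negSucc (nat_lit 7)), (nat_lit 24, .ofNat (nat_lit 8)), (nat_lit 25, .ofNat (nat_lit 8))],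
  [(nat_lit 0, .negSucc (nat_lit 1)), (nat_lit 2, .ofNat (nat_lit 2)), (nat_lit 3, .ofNat (nat_lit 8)), (nat_lit 4, .ofNat (nat_lit 2)), (nat_lit 5, .negSucc (nat_lit 1)), (nat_lit 16, .negSucc (nat_lit 1)), (nat_lit 17, .negSucc (nat_lit 1)), (nat_lit 20, .ofNat (nat_lit 2)), (nat_lit 21, .ofNat (nat_lit 2)), (nat_lit 23, .ofNat (nat_lit 8))],
  [(nat_lit 0, .ofNat (nat_lit 4)), (nat_lit 1, .ofNat (nat_lit 8)), (nat_lit 2, .ofNat (nat_lit 4)), (nat_lit 3, .ofNat (nat_lit 8)), (nat_lit 4, .ofNat (nat_lit 8)), (nat_lit 16, .ofNat (nat_lit 4)), (nat_lit 17, .ofNat (nat_lit 4)), (nat_lit 18, .ofNat (nat_lit 8)), (nat_lit 19, .ofNat (nat_lit 8)), (nat_lit 22, .negSucc (nat_lit 7)), (nat_lit 23, .negSucc (nat_lit 7)), (nat_lit 24, .negSucc (nat_lit 7)), (nat_lit 25, .negSucc (nat_lit 7))],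
  [(nat_lit 0, .ofNat (nat_lit 4)), (nat_lit 1, .negSucc (nat_lit 7)), (nat_lit 2, .ofNat (nat_lit 4)), (nat_lit 3, .negSucc (nat_lit 7)), (nat_lit 5, .ofNat (nat_lit 8)), (nat_lit 16, .negSucc (nat_lit 3)), (nat_lit 17, .negSucc (nat_lit 3)), (nat_lit 18, .ofNat (nat_lit 8)), (nat_lit 19, .ofNat (nat_lit 8)), (nat_lit 22, .ofNat (nat_lit 8)), (nat_lit 23, .ofNat (nat_lit 8)), (nat_lit 24, .negSucc (nat_lit 7)), (nat_lit 25, .negSucc (nat_lit 7))],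
  [(nat_lit 6, .ofNat (nat_lit 4)), (nat_lit 7, .ofNat (nat_lit 4)), (nat_lit 12, .ofNat (nat_lit 8)), (nat_lit 13, .ofNat (nat_lit 8)), (nat_lit 26, .ofNat (nat_lit 4)), (nat_lit 27, .ofNat (nat_lit 4)), (nat_lit 32, .negSucc (nat_lit 7)), (nat_lit 33, .negSucc (nat_lit 7)), (nat_lit 36, .ofNat (nat_lit 8)), (nat_lit 37, .ofNat (nat_lit 8)), (nat_lit 38, .negSucc (nat_lit 7)), (nat_lit 39, .negSucc (nat_lit 7)), (nat_lit 44, .ofNat (nat_lit 8)), (nat_lit 45, .ofNat (nat_lit 8)), (nat_lit 46, .negSucc (nat_lit 7)), (nat_lit 47, .negSucc (nat_lit 7))],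
  [(nat_lit 6, .ofNat (nat_lit 4)), (nat_lit 7, .ofNat (nat_lit 4)), (nat_lit 12, .ofNat (nat_lit 8)), (nat_lit 13, .ofNat (nat_lit 8)), (nat_lit 26, .ofNat (nat_lit 4)), (nat_lit 27, .ofNat (nat_lit 4)), (nat_lit 32, .negSucc (nat_lit 7)), (nat_lit 33, .negSucc (nat_lit 7)), (nat_lit 36, .negSucc (nat_lit 7)), (nat_lit 37, .negSucc (nat_lit 7)), (nat_lit 38, .ofNat (nat_lit 8)), (nat_lit 39, .ofNat (nat_lit 8)), (nat_lit 44, .negSucc (nat_lit 7)), (nat_lit 45, .negSucc (nat_lit 7)), (nat_lit 46, .ofNat (nat_lit 8)), (nat_lit 47, .ofNat (nat_lit 8))],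
  [(nat_lit 8, .ofNat (nat_lit 4)), (nat_lit 9, .ofNat (nat_lit 4)), (nat_lit 14, .ofNat (nat_lit 4)), (nat_lit 15, .ofNat (nat_lit 4)), (nat_lit 28, .ofNat (nat_lit 4)), (nat_lit 29, .ofNat (nat_lit 4)), (nat_lit 34, .negSucc (nat_lit 3)), (nat_lit 35, .negSucc (nat_lit 3)), (nat_lit 40, .ofNat (nat_lit 4)), (nat_lit 41, .ofNat (nat_lit 4)), (nat_lit 42, .negSucc (nat_lit 3)), (nat_lit 43, .negSucc (nat_lit 3)), (nat_lit 48, .ofNat (nat_lit 4)), (nat_lit 49, .ofNat (nat_lit 4)), (nat_lit 50, .negSucc (nat_lit 3)), (nat_lit 51, .negSucc (nat_lit 3))],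
  [(nat_lit 8, .ofNat (nat_lit 4)), (nat_lit 9, .ofNat (nat_lit 4)), (nat_lit 14, .ofNat (nat_lit 4)), (nat_lit 15, .ofNat (nat_lit 4)), (nat_lit 28, .ofNat (nat_lit 4)), (nat_lit 29, .ofNat (nat_lit 4)), (nat_lit 34, .negSucc (nat_lit 3)), (nat_lit 35, .negSucc (nat_lit 3)), (nat_lit 40, .negSucc (nat_lit 3)), (nat_lit 41, .negSucc (nat_lit 3)), (nat_lit 42, .ofNat (nat_lit 4)), (nat_lit 43, .ofNat (nat_lit 4)), (nat_lit 48, .negSucc (nat_lit 3)), (nat_lit 49, .negSucc (nat_lit 3)), (nat_lit 50, .ofNat (nat_lit 4)), (nat_lit 51, .ofNat (nat_lit 4))],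
  [(nat_lit 10, .ofNat (nat_lit 4)), (nat_lit 11, .ofNat (nat_lit 4)), (nat_lit 12, .ofNat (nat_lit 8)), (nat_lit 13, .negSucc (nat_lit 7)), (nat_lit 30, .ofNat (nat_lit 4)), (nat_lit 31, .ofNat (nat_lit 4)), (nat_lit 32, .negSucc (nat_lit 7)), (nat_lit 33, .ofNat (nat_lit 8)), (nat_lit 36, .ofNat (nat_lit 8)), (nat_lit 37, .ofNat (nat_lit 8)), (nat_lit 38, .negSucc (nat_lit 7)), (nat_lit 39, .negSucc (nat_lit 7)), (nat_lit 44, .negSucc (nat_lit 7)), (nat_lit 45, .negSucc (nat_lit 7)), (nat_lit 46, .ofNat (nat_lit 8)), (nat_lit 47, .ofNat (nat_lit 8))],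
  [(nat_lit 10, .ofNat (nat_lit 4)), (nat_lit 11, .ofNat (nat_lit 4)), (nat_lit 12, .ofNat (nat_lit 8)), (nat_lit 13, .negSucc (nat_lit 7)), (nat_lit 30, .ofNat (nat_lit 4)), (nat_lit 31, .ofNat (nat_lit 4)), (nat_lit 32, .negSucc (nat_lit 7)), (nat_lit 33, .ofNat (nat_lit 8)), (nat_lit 36, .negSucc (nat_lit 7)), (nat_lit 37, .negSucc (nat_lit 7)), (nat_lit 38, .ofNat (nat_lit 8)), (nat_lit 39, .ofNat (nat_lit 8)), (nat_lit 44, .ofNat (nat_lit 8)), (nat_lit 45, .ofNat (nat_lit 8)), (nat_lit 46, .negSucc (nat_lit 7)), (nat_lit 47, .negSucc (nat_lit 7))],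
  [(nat_lit 6, .ofNat (nat_lit 2)), (nat_lit 7, .ofNat (nat_lit 2)), (nat_lit 10, .ofNat (nat_lit 2)), (nat_lit 11, .ofNat (nat_lit 2)), (nat_lit 12, .ofNat (nat_lit 8)), (nat_lit 26, .negSucc (nat_lit 1)), (nat_lit 27, .negSucc (nat_lit 1)), (nat_lit 30, .negSucc (nat_lit 1)), (nat_lit 31, .negSucc (nat_lit 1)), (nat_lit 32, .ofNat (nat_lit 8))],
  [(nat_lit 6, .ofNat (nat_lit 2)), (nat_lit 7, .ofNat (nat_lit 2)), (nat_lit 10, .negSucc (nat_lit 1)), (nat_lit 11, .negSucc (nat_lit 1)), (nat_lit 13, .ofNat (nat_lit 8)), (nat_lit 26, .negSucc (nat_lit 1)), (nat_lit 27, .negSucc (nat_lit 1)), (nat_lit 30, .ofNat (nat_lit 2)), (nat_lit 31, .ofNat (nat_lit 2)), (nat_lit 33, .ofNat (nat_lit 8))],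
  [(nat_lit 8, .ofNat (nat_lit 4)), (nat_lit 9, .ofNat (nat_lit 4)), (nat_lit 14, .ofNat (nat_lit 4)), (nat_lit 15, .ofNat (nat_lit 4)), (nat_lit 28, .negSucc (nat_lit 3)), (nat_lit 29, .negSucc (nat_lit 3)), (nat_lit 34, .ofNat (nat_lit 4)), (nat_lit 35, .ofNat (nat_lit 4)), (nat_lit 40, .ofNat (nat_lit 4)), (nat_lit 41, .ofNat (nat_lit 4)), (nat_lit 42, .negSucc (nat_lit 3)), (nat_lit 43, .negSucc (nat_lit 3)), (nat_lit 48, .negSucc (nat_lit 3)), (nat_lit 49, .negSucc (nat_lit 3)), (nat_lit 50, .ofNat (nat_lit 4)), (nat_lit 51, .ofNat (nat_lit 4))],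
  [(nat_lit 8, .ofNat (nat_lit 4)), (nat_lit 9, .ofNat (nat_lit 4)), (nat_lit 14, .ofNat (nat_lit 4)), (nat_lit 15, .ofNat (nat_lit 4)), (nat_lit 28, .negSucc (nat_lit 3)), (nat_lit 29, .negSucc (nat_lit 3)), (nat_lit 34, .ofNat (nat_lit 4)), (nat_lit 35, .ofNat (nat_lit 4)), (nat_lit 40, .negSucc (nat_lit 3)), (nat_lit 41, .negSucc (nat_lit 3)), (nat_lit 42, .ofNat (nat_lit 4)), (nat_lit 43, .ofNat (nat_lit 4)), (nat_lit 48, .ofNat (nat_lit 4)), (nat_lit 49, .ofNat (nat_lit 4)), (nat_lit 50, .negSucc (nat_lit 3)), (nat_lit 51, .negSucc (nat_lit 3))],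
  [(nat_lit 1, .negSucc (nat_lit 7)), (nat_lit 3, .negSucc (nat_lit 7)), (nat_lit 4, .ofNat (nat_lit 4)), (nat_lit 5, .negSucc (nat_lit 3)), (nat_lit 16, .ofNat (nat_lit 8)), (nat_lit 18, .ofNat (nat_lit 8)), (nat_lit 19, .negSucc (nat_lit 7)), (nat_lit 20, .ofNat (nat_lit 4)), (nat_lit 21, .negSucc (nat_lit 3)), (nat_lit 22, .ofNat (nat_lit 8)), (nat_lit 23, .ofNat (nat_lit 8)), (nat_lit 24, .negSucc (nat_lit 7)), (nat_lit 25, .ofNat (nat_lit 8))],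
  [(nat_lit 1, .negSucc (nat_lit 7)), (nat_lit 3, .negSucc (nat_lit 7)), (nat_lit 4, .ofNat (nat_lit 4)), (nat_lit 5, .negSucc (nat_lit 3)), (nat_lit 17, .ofNat (nat_lit 8)), (nat_lit 18, .negSucc (nat_lit 7)), (nat_lit 19, .ofNat (nat_lit 8)), (nat_lit 20, .negSucc (nat_lit 3)), (nat_lit 21, .ofNat (nat_lit 4)), (nat_lit 22, .ofNat (nat_lit 8)), (nat_lit 23, .ofNat (nat_lit 8)), (nat_lit 24, .ofNat (nat_lit 8)), (nat_lit 25, .negSucc (nat_lit 7))],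
  [(nat_lit 0, .negSucc (nat_lit 1)), (nat_lit 2, .negSucc (nat_lit 1)), (nat_lit 4, .ofNat (nat_lit 2)), (nat_lit 5, .ofNat (nat_lit 2)), (nat_lit 16, .ofNat (nat_lit 2)), (nat_lit 17, .negSucc (nat_lit 1)), (nat_lit 18, .ofNat (nat_lit 8)), (nat_lit 20, .negSucc (nat_lit 1)), (nat_lit 21, .ofNat (nat_lit 2)), (nat_lit 24, .ofNat (nat_lit 8))],
  [(nat_lit 0, .negSucc (nat_lit 1)), (nat_lit 2, .negSucc (nat_lit 1)), (nat_lit 4, .ofNat (nat_lit 2)), (nat_lit 5, .ofNat (nat_lit 2)), (nat_lit 16, .negSucc (nat_lit 1)), (nat_lit 17, .ofNat (nat_lit 2)), (nat_lit 19, .ofNat (nat_lit 8)), (nat_lit 20, .ofNat (nat_lit 2)), (nat_lit 21, .negSucc (nat_lit 1)), (nat_lit 25, .ofNat (nat_lit 8))],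
  [(nat_lit 0, .ofNat (nat_lit 4)), (nat_lit 1, .negSucc (nat_lit 7)), (nat_lit 2, .negSucc (nat_lit 3)), (nat_lit 3, .ofNat (nat_lit 8)), (nat_lit 16, .ofNat (nat_lit 4)), (nat_lit 17, .negSucc (nat_lit 3)), (nat_lit 18, .negSucc (nat_lit 7)), (nat_lit 19, .ofNat (nat_lit 8)), (nat_lit 20, .ofNat (nat_lit 8)), (nat_lit 22, .ofNat (nat_lit 8)), (nat_lit 23, .negSucc (nat_lit 7)), (nat_lit 24, .ofNat (nat_lit 8)), (nat_lit 25, .negSucc (nat_lit 7))],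
  [(nat_lit 0, .ofNat (nat_lit 4)), (nat_lit 1, .negSucc (nat_lit 7)), (nat_lit 2, .negSucc (nat_lit 3)), (nat_lit 3, .ofNat (nat_lit 8)), (nat_lit 16, .negSucc (nat_lit 3)), (nat_lit 17, .ofNat (nat_lit 4)), (nat_lit 18, .ofNat (nat_lit 8)), (nat_lit 19, .negSucc (nat_lit 7)), (nat_lit 21, .ofNat (nat_lit 8)), (nat_lit 22, .ofNat (nat_lit 8)), (nat_lit 23, .negSucc (nat_lit 7)), (nat_lit 24, .negSucc (nat_lit 7)), (nat_lit 25, .ofNat (nat_lit 8))],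
  [(nat_lit 0, .negSucc (nat_lit 1)), (nat_lit 1, .ofNat (nat_lit 8)), (nat_lit 2, .ofNat (nat_lit 2)), (nat_lit 4, .negSucc (nat_lit 1)), (nat_lit 5, .ofNat (nat_lit 2)), (nat_lit 16, .ofNat (nat_lit 2)), (nat_lit 17, .ofNat (nat_lit 2)), (nat_lit 20, .ofNat (nat_lit 2)), (nat_lit 21, .ofNat (nat_lit 2)), (nat_lit 22, .ofNat (nat_lit 8))],
  [(nat_lit 0, .ofNat (nat_lit 2)), (nat_lit 2, .negSucc (nat_lit 1)), (nat_lit 3, .ofNat (nat_lit 8)), (nat_lit 4, .negSucc (nat_lit 1)), (nat_lit 5, .ofNat (nat_lit 2)), (nat_lit 16, .ofNat (nat_lit 2)), (nat_lit 17, .ofNat (nat_lit 2)), (nat_lit 20, .negSucc (nat_lit 1)), (nat_lit 21, .negSucc (nat_lit 1)), (nat_lit 23, .ofNat (nat_lit 8))],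
  [(nat_lit 0, .ofNat (nat_lit 2)), (nat_lit 2, .ofNat (nat_lit 2)), (nat_lit 4, .negSucc (nat_lit 1)), (nat_lit 5, .negSucc (nat_lit 1)), (nat_lit 16, .negSucc (nat_lit 1)), (nat_lit 17, .ofNat (nat_lit 2)), (nat_lit 18, .ofNat (nat_lit 8)), (nat_lit 20, .ofNat (nat_lit 2)), (nat_lit 21, .negSucc (nat_lit 1)), (nat_lit 24, .ofNat (nat_lit 8))],
  [(nat_lit 0, .ofNat (nat_lit 2)), (nat_lit 2, .ofNat (nat_lit 2)), (nat_lit 4, .negSucc (nat_lit 1)), (nat_lit 5, .negSucc (nat_lit 1)), (nat_lit 16, .ofNat (nat_lit 2)), (nat_lit 17, .negSucc (nat_lit 1)), (nat_lit 19, .ofNat (nat_lit 8)), (nat_lit 20, .negSucc (nat_lit 1)), (nat_lit 21, .ofNat (nat_lit 2)), (nat_lit 25, .ofNat (nat_lit 8))],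
  [(nat_lit 6, .ofNat (nat_lit 4)), (nat_lit 7, .ofNat (nat_lit 4)), (nat_lit 12, .negSucc (nat_lit 7)), (nat_lit 13, .negSucc (nat_lit 7)), (nat_lit 26, .ofNat (nat_lit 4)), (nat_lit 27, .ofNat (nat_lit 4)), (nat_lit 32, .ofNat (nat_lit 8)), (nat_lit 33, .ofNat (nat_lit 8)), (nat_lit 36, .ofNat (nat_lit 8)), (nat_lit 37, .negSucc (nat_lit 7)), (nat_lit 38, .negSucc (nat_lit 7)), (nat_lit 39, .ofNat (nat_lit 8)), (nat_lit 44, .ofNat (nat_lit 8)), (nat_lit 45, .negSucc (nat_lit 7)), (nat_lit 46, .negSucc (nat_lit 7)), (nat_lit 47, .ofNat (nat_lit 8))],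
  [(nat_lit 6, .ofNat (nat_lit 4)), (nat_lit 7, .ofNat (nat_lit 4)), (nat_lit 12, .negSucc (nat_lit 7)), (nat_lit 13, .negSucc (nat_lit 7)), (nat_lit 26, .ofNat (nat_lit 4)), (nat_lit 27, .ofNat (nat_lit 4)), (nat_lit 32, .ofNat (nat_lit 8)), (nat_lit 33, .ofNat (nat_lit 8)), (nat_lit 36, .negSucc (nat_lit 7)), (nat_lit 37, .ofNat (nat_lit 8)), (nat_lit 38, .ofNat (nat_lit 8)), (nat_lit 39, .negSucc (nat_lit 7)), (nat_lit 44, .negSucc (nat_lit 7)), (nat_lit 45, .ofNat (nat_lit 8)), (nat_lit 46, .ofNat (nat_lit 8)), (nat_lit 47, .negSucc (nat_lit 7))],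
  [(nat_lit 8, .ofNat (nat_lit 4)), (nat_lit 9, .ofNat (nat_lit 4)), (nat_lit 14, .negSucc (nat_lit 3)), (nat_lit 15, .negSucc (nat_lit 3)), (nat_lit 28, .ofNat (nat_lit 4)), (nat_lit 29, .ofNat (nat_lit 4)), (nat_lit 34, .ofNat (nat_lit 4)), (nat_lit 35, .ofNat (nat_lit 4)), (nat_lit 40, .ofNat (nat_lit 4)), (nat_lit 41, .negSucc (nat_lit 3)), (nat_lit 42, .negSucc (nat_lit 3)), (nat_lit 43, .ofNat (nat_lit 4)), (nat_lit 48, .ofNat (nat_lit 4)), (nat_lit 49, .negSucc (nat_lit 3)), (nat_lit 50, .negSucc (nat_lit 3)), (nat_lit 51, .ofNat (nat_lit 4))],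
  [(nat_lit 8, .ofNat (nat_lit 4)), (nat_lit 9, .ofNat (nat_lit 4)), (nat_lit 14, .negSucc (nat_lit 3)), (nat_lit 15, .negSucc (nat_lit 3)), (nat_lit 28, .ofNat (nat_lit 4)), (nat_lit 29, .ofNat (nat_lit 4)), (nat_lit 34, .ofNat (nat_lit 4)), (nat_lit 35, .ofNat (nat_lit 4)), (nat_lit 40, .negSucc (nat_lit 3)), (nat_lit 41, .ofNat (nat_lit 4)), (nat_lit 42, .ofNat (nat_lit 4)), (nat_lit 43, .negSucc (nat_lit 3)), (nat_lit 48, .negSucc (nat_lit 3)), (nat_lit 49, .ofNat (nat_lit 4)), (nat_lit 50, .ofNat (nat_lit 4)), (nat_lit 51, .negSucc (nat_lit 3))],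
  [(nat_lit 10, .ofNat (nat_lit 4)), (nat_lit 11, .ofNat (nat_lit 4)), (nat_lit 12, .negSucc (nat_lit 7)), (nat_lit 13, .ofNat (nat_lit 8)), (nat_lit 30, .ofNat (nat_lit 4)), (nat_lit 31, .ofNat (nat_lit 4)), (nat_lit 32, .ofNat (nat_lit 8)), (nat_lit 33, .negSucc (nat_lit 7)), (nat_lit 36, .ofNat (nat_lit 8)), (nat_lit 37, .negSucc (nat_lit 7)), (nat_lit 38, .negSucc (nat_lit 7)), (nat_lit 39, .ofNat (nat_lit 8)), (nat_lit 44, .negSucc (nat_lit 7)), (nat_lit 45, .ofNat (nat_lit 8)), (nat_lit 46, .ofNat (nat_lit 8)), (nat_lit 47, .negSucc (nat_lit 7))],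
  [(nat_lit 10, .ofNat (nat_lit 4)), (nat_lit 11, .ofNat (nat_lit 4)), (nat_lit 12, .negSucc (nat_lit 7)), (nat_lit 13, .ofNat (nat_lit 8)), (nat_lit 30, .ofNat (nat_lit 4)), (nat_lit 31, .ofNat (nat_lit 4)), (nat_lit 32, .ofNat (nat_lit 8)), (nat_lit 33, .negSucc (nat_lit 7)), (nat_lit 36, .negSucc (nat_lit 7)), (nat_lit 37, .ofNat (nat_lit 8)), (nat_lit 38, .ofNat (nat_lit 8)), (nat_lit 39, .negSucc (nat_lit 7)), (nat_lit 44, .ofNat (nat_lit 8)), (nat_lit 45, .negSucc (nat_lit 7)), (nat_lit 46, .negSucc (nat_lit 7)), (nat_lit 47, .ofNat (nat_lit 8))],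
  [(nat_lit 6, .negSucc (nat_lit 1)), (nat_lit 7, .negSucc (nat_lit 1)), (nat_lit 10, .negSucc (nat_lit 1)), (nat_lit 11, .negSucc (nat_lit 1)), (nat_lit 12, .ofNat (nat_lit 8)), (nat_lit 26, .ofNat (nat_lit 2)), (nat_lit 27, .ofNat (nat_lit 2)), (nat_lit 30, .ofNat (nat_lit 2)), (nat_lit 31, .ofNat (nat_lit 2)), (nat_lit 32, .ofNat (nat_lit 8))],
  [(nat_lit 6, .negSucc (nat_lit 1)), (nat_lit 7, .negSucc (nat_lit 1)), (nat_lit 10, .ofNat (nat_lit 2)), (nat_lit 11, .ofNat (nat_lit 2)), (nat_lit 13, .ofNat (nat_lit 8)), (nat_lit 26, .ofNat (nat_lit 2)), (nat_lit 27, .ofNat (nat_lit 2)), (nat_lit 30, .negSucc (nat_lit 1)), (nat_lit 31, .negSucc (nat_lit 1)), (nat_lit 33, .ofNat (nat_lit 8))],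
  [(nat_lit 8, .negSucc (nat_lit 3)), (nat_lit 9, .negSucc (nat_lit 3)), (nat_lit 14, .ofNat (nat_lit 4)), (nat_lit 15, .ofNat (nat_lit 4)), (nat_lit 28, .ofNat (nat_lit 4)), (nat_lit 29, .ofNat (nat_lit 4)), (nat_lit 34, .ofNat (nat_lit 4)), (nat_lit 35, .ofNat (nat_lit 4)), (nat_lit 40, .negSucc (nat_lit 3)), (nat_lit 41, .ofNat (nat_lit 4)), (nat_lit 42, .ofNat (nat_lit 4)), (nat_lit 43, .negSucc (nat_lit 3)), (nat_lit 48, .ofNat (nat_lit 4)), (nat_lit 49, .negSucc (nat_lit 3)), (nat_lit 50, .negSucc (nat_lit 3)), (nat_lit 51, .ofNat (nat_lit 4))],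
  [(nat_lit 8, .negSucc (nat_lit 3)), (nat_lit 9, .negSucc (nat_lit 3)), (nat_lit 14, .ofNat (nat_lit 4)), (nat_lit 15, .ofNat (nat_lit 4)), (nat_lit 28, .ofNat (nat_lit 4)), (nat_lit 29, .ofNat (nat_lit 4)), (nat_lit 34, .ofNat (nat_lit 4)), (nat_lit 35, .ofNat (nat_lit 4)), (nat_lit 40, .ofNat (nat_lit 4)), (nat_lit 41, .negSucc (nat_lit 3)), (nat_lit 42, .negSucc (nat_lit 3)), (nat_lit 43, .ofNat (nat_lit 4)), (nat_lit 48, .negSucc (nat_lit 3)), (nat_lit 49, .ofNat (nat_lit 4)), (nat_lit 50, .ofNat (nat_lit 4)), (nat_lit 51, .negSucc (nat_lit 3))],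
  [(nat_lit 6, .ofNat (nat_lit 2)), (nat_lit 7, .negSucc (nat_lit 1)), (nat_lit 10, .ofNat (nat_lit 2)), (nat_lit 11, .negSucc (nat_lit 1)), (nat_lit 26, .ofNat (nat_lit 2)), (nat_lit 27, .negSucc (nat_lit 1)), (nat_lit 30, .ofNat (nat_lit 2)), (nat_lit 31, .negSucc (nat_lit 1)), (nat_lit 36, .ofNat (nat_lit 8)), (nat_lit 38, .ofNat (nat_lit 8))],
  [(nat_lit 6, .ofNat (nat_lit 2)), (nat_lit 7, .negSucc (nat_lit 1)), (nat_lit 10, .ofNat (nat_lit 2)), (nat_lit 11, .negSucc (nat_lit 1)), (nat_lit 26, .negSucc (nat_lit 1)), (nat_lit 27, .ofNat (nat_lit 2)), (nat_lit 30, .negSucc (nat_lit 1)), (nat_lit 31, .ofNat (nat_lit 2)), (nat_lit 37, .ofNat (nat_lit 8)), (nat_lit 39, .ofNat (nat_lit 8))],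
  [(nat_lit 6, .negSucc (nat_lit 1)), (nat_lit 7, .ofNat (nat_lit 2)), (nat_lit 10, .negSucc (nat_lit 1)), (nat_lit 11, .ofNat (nat_lit 2)), (nat_lit 26, .negSucc (nat_lit 1)), (nat_lit 27, .ofNat (nat_lit 2)), (nat_lit 30, .negSucc (nat_lit 1)), (nat_lit 31, .ofNat (nat_lit 2)), (nat_lit 36, .ofNat (nat_lit 8)), (nat_lit 38, .ofNat (nat_lit 8))],
  [(nat_lit 6, .negSucc (nat_lit 1)), (nat_lit 7, .ofNat (nat_lit 2)), (nat_lit 10, .negSucc (nat_lit 1)), (nat_lit 11, .ofNat (nat_lit 2)), (nat_lit 26, .ofNat (nat_lit 2)), (nat_lit 27, .negSucc (nat_lit 1)), (nat_lit 30, .ofNat (nat_lit 2)), (nat_lit 31, .negSucc (nat_lit 1)), (nat_lit 37, .ofNat (nat_lit 8)), (nat_lit 39, .ofNat (nat_lit 8))],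
  [(nat_lit 8, .ofNat (nat_lit 4)), (nat_lit 9, .negSucc (nat_lit 3)), (nat_lit 14, .ofNat (nat_lit 4)), (nat_lit 15, .negSucc (nat_lit 3)), (nat_lit 28, .ofNat (nat_lit 4)), (nat_lit 29, .negSucc (nat_lit 3)), (nat_lit 34, .negSucc (nat_lit 3)), (nat_lit 35, .ofNat (nat_lit 4)), (nat_lit 40, .ofNat (nat_lit 4)), (nat_lit 41, .ofNat (nat_lit 4)), (nat_lit 42, .ofNat (nat_lit 4)), (nat_lit 43, .ofNat (nat_lit 4)), (nat_lit 48, .ofNat (nat_lit 4)), (nat_lit 49, .negSucc (nat_lit 3)), (nat_lit 50, .ofNat (nat_lit 4)), (nat_lit 51, .negSucc (nat_lit 3))],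
  [(nat_lit 8, .ofNat (nat_lit 4)), (nat_lit 9, .negSucc (nat_lit 3)), (nat_lit 14, .ofNat (nat_lit 4)), (nat_lit 15, .negSucc (nat_lit 3)), (nat_lit 28, .negSucc (nat_lit 3)), (nat_lit 29, .ofNat (nat_lit 4)), (nat_lit 34, .ofNat (nat_lit 4)), (nat_lit 35, .negSucc (nat_lit 3)), (nat_lit 40, .ofNat (nat_lit 4)), (nat_lit 41, .ofNat (nat_lit 4)), (nat_lit 42, .ofNat (nat_lit 4)), (nat_lit 43, .ofNat (nat_lit 4)), (nat_lit 48, .negSucc (nat_lit 3)), (nat_lit 49, .ofNat (nat_lit 4)), (nat_lit 50, .negSucc (nat_lit 3)), (nat_lit 51, .ofNat (nat_lit 4))],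
  [(nat_lit 8, .negSucc (nat_lit 3)), (nat_lit 9, .ofNat (nat_lit 4)), (nat_lit 14, .negSucc (nat_lit 3)), (nat_lit 15, .ofNat (nat_lit 4)), (nat_lit 28, .negSucc (nat_lit 3)), (nat_lit 29, .ofNat (nat_lit 4)), (nat_lit 34, .ofNat (nat_lit 4)), (nat_lit 35, .negSucc (nat_lit 3)), (nat_lit 40, .ofNat (nat_lit 4)), (nat_lit 41, .ofNat (nat_lit 4)), (nat_lit 42, .ofNat (nat_lit 4)), (nat_lit 43, .ofNat (nat_lit 4)), (nat_lit 48, .ofNat (nat_lit 4)), (nat_lit 49, .negSucc (nat_lit 3)), (nat_lit 50, .ofNat (nat_lit 4)), (nat_lit 51, .negSucc (nat_lit 3))],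
  [(nat_lit 8, .negSucc (nat_lit 3)), (nat_lit 9, .ofNat (nat_lit 4)), (nat_lit 14, .negSucc (nat_lit 3)), (nat_lit 15, .ofNat (nat_lit 4)), (nat_lit 28, .ofNat (nat_lit 4)), (nat_lit 29, .negSucc (nat_lit 3)), (nat_lit 34, .negSucc (nat_lit 3)), (nat_lit 35, .ofNat (nat_lit 4)), (nat_lit 40, .ofNat (nat_lit 4)), (nat_lit 41, .ofNat (nat_lit 4)), (nat_lit 42, .ofNat (nat_lit 4)), (nat_lit 43, .ofNat (nat_lit 4)), (nat_lit 48, .negSucc (nat_lit 3)), (nat_lit 49, .ofNat (nat_lit 4)), (nat_lit 50, .negSucc (nat_lit 3)), (nat_lit 51, .ofNat (nat_lit 4))],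
  [(nat_lit 6, .ofNat (nat_lit 2)), (nat_lit 7, .negSucc (nat_lit 1)), (nat_lit 10, .negSucc (nat_lit 1)), (nat_lit 11, .ofNat (nat_lit 2)), (nat_lit 26, .ofNat (nat_lit 2)), (nat_lit 27, .negSucc (nat_lit 1)), (nat_lit 30, .negSucc (nat_lit 1)), (nat_lit 31, .ofNat (nat_lit 2)), (nat_lit 44, .ofNat (nat_lit 8)), (nat_lit 46, .ofNat (nat_lit 8))],
  [(nat_lit 6, .ofNat (nat_lit 2)), (nat_lit 7, .negSucc (nat_lit 1)), (nat_lit 10, .negSucc (nat_lit 1)), (nat_lit 11, .ofNat (nat_lit 2)), (nat_lit 26, .negSucc (nat_lit 1)), (nat_lit 27, .ofNat (nat_lit 2)), (nat_lit 30, .ofNat (nat_lit 2)), (nat_lit 31, .negSucc (nat_lit 1)), (nat_lit 45, .ofNat (nat_lit 8)), (nat_lit 47, .ofNat (nat_lit 8))],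
  [(nat_lit 6, .negSucc (nat_lit 1)), (nat_lit 7, .ofNat (nat_lit 2)), (nat_lit 10, .ofNat (nat_lit 2)), (nat_lit 11, .negSucc (nat_lit 1)), (nat_lit 26, .negSucc (nat_lit 1)), (nat_lit 27, .ofNat (nat_lit 2)), (nat_lit 30, .ofNat (nat_lit 2)), (nat_lit 31, .negSucc (nat_lit 1)), (nat_lit 44, .ofNat (nat_lit 8)), (nat_lit 46, .ofNat (nat_lit 8))],
  [(nat_lit 6, .negSucc (nat_lit 1)), (nat_lit 7, .ofNat (nat_lit 2)), (nat_lit 10, .ofNat (nat_lit 2)), (nat_lit 11, .negSucc (nat_lit 1)), (nat_lit 26, .ofNat (nat_lit 2)), (nat_lit 27, .negSucc (nat_lit 1)), (nat_lit 30, .negSucc (nat_lit 1)), (nat_lit 31, .ofNat (nat_lit 2)), (nat_lit 45, .ofNat (nat_lit 8)), (nat_lit 47, .ofNat (nat_lit 8))],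
  [(nat_lit 8, .ofNat (nat_lit 4)), (nat_lit 9, .negSucc (nat_lit 3)), (nat_lit 14, .negSucc (nat_lit 3)), (nat_lit 15, .ofNat (nat_lit 4)), (nat_lit 28, .ofNat (nat_lit 4)), (nat_lit 29, .negSucc (nat_lit 3)), (nat_lit 34, .ofNat (nat_lit 4)), (nat_lit 35, .negSucc (nat_lit 3)), (nat_lit 40, .ofNat (nat_lit 4)), (nat_lit 41, .negSucc (nat_lit 3)), (nat_lit 42, .ofNat (nat_lit 4)), (nat_lit 43, .negSucc (nat_lit 3)), (nat_lit 48, .ofNat (nat_lit 4)), (nat_lit 49, .ofNat (nat_lit 4)), (nat_lit 50, .ofNat (nat_lit 4)), (nat_lit 51, .ofNat (nat_lit 4))],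
  [(nat_lit 8, .ofNat (nat_lit 4)), (nat_lit 9, .negSucc (nat_lit 3)), (nat_lit 14, .negSucc (nat_lit 3)), (nat_lit 15, .ofNat (nat_lit 4)), (nat_lit 28, .negSucc (nat_lit 3)), (nat_lit 29, .ofNat (nat_lit 4)), (nat_lit 34, .negSucc (nat_lit 3)), (nat_lit 35, .ofNat (nat_lit 4)), (nat_lit 40, .negSucc (nat_lit 3)), (nat_lit 41, .ofNat (nat_lit 4)), (nat_lit 42, .negSucc (nat_lit 3)), (nat_lit 43, .ofNat (nat_lit 4)), (nat_lit 48, .ofNat (nat_lit 4)), (nat_lit 49, .ofNat (nat_lit 4)), (nat_lit 50, .ofNat (nat_lit 4)), (nat_lit 51, .ofNat (nat_lit 4))],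
  [(nat_lit 8, .negSucc (nat_lit 3)), (nat_lit 9, .ofNat (nat_lit 4)), (nat_lit 14, .ofNat (nat_lit 4)), (nat_lit 15, .negSucc (nat_lit 3)), (nat_lit 28, .negSucc (nat_lit 3)), (nat_lit 29, .ofNat (nat_lit 4)), (nat_lit 34, .negSucc (nat_lit 3)), (nat_lit 35, .ofNat (nat_lit 4)), (nat_lit 40, .ofNat (nat_lit 4)), (nat_lit 41, .negSucc (nat_lit 3)), (nat_lit 42, .ofNat (nat_lit 4)), (nat_lit 43, .negSucc (nat_lit 3)), (nat_lit 48, .ofNat (nat_lit 4)), (nat_lit 49, .ofNat (nat_lit 4)), (nat_lit 50, .ofNat (nat_lit 4)), (nat_lit 51, .ofNat (nat_lit 4))],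
  [(nat_lit 8, .negSucc (nat_lit 3)), (nat_lit 9, .ofNat (nat_lit 4)), (nat_lit 14, .ofNat (nat_lit 4)), (nat_lit 15, .negSucc (nat_lit 3)), (nat_lit 28, .ofNat (nat_lit 4)), (nat_lit 29, .negSucc (nat_lit 3)), (nat_lit 34, .ofNat (nat_lit 4)), (nat_lit 35, .negSucc (nat_lit 3)), (nat_lit 40, .negSucc (nat_lit 3)), (nat_lit 41, .ofNat (nat_lit 4)), (nat_lit 42, .negSucc (nat_lit 3)), (nat_lit 43, .ofNat (nat_lit 4)), (nat_lit 48, .ofNat (nat_lit 4)), (nat_lit 49, .ofNat (nat_lit 4)), (nat_lit 50, .ofNat (nat_lit 4)), (nat_lit 51, .ofNat (nat_lit 4))]]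

/-- The matrix of the root 9, times sixteen. -/
def mat9 : List (List (Nat × Int)) := [
  [(nat_lit 0, .ofNat (nat_lit 8)), (nat_lit 1, .ofNat (nat_lit 16)), (nat_lit 6, .ofNat (nat_lit 8)), (nat_lit 8, .negSucc (nat_lit 15))],
  [(nat_lit 0, .ofNat (nat_lit 4)), (nat_lit 1, .ofNat (nat_lit 8)), (nat_lit 6, .negSucc (nat_lit 3)), (nat_lit 8, .ofNat (nat_lit 8))],
  [(nat_lit 2, .ofNat (nat_lit 8)), (nat_lit 3, .ofNat (nat_lit 16)), (nat_lit 7, .ofNat (nat_lit 8)), (nat_lit 9, .negSucc (nat_lit 15))],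
  [(nat_lit 2, .ofNat (nat_lit 4)), (nat_lit 3, .ofNat (nat_lit 8)), (nat_lit 7, .negSucc (nat_lit 3)), (nat_lit 9, .ofNat (nat_lit 8))],
  [(nat_lit 4, .ofNat (nat_lit 16))],
  [(nat_lit 12, .ofNat (nat_lit 16)), (nat_lit 13, .ofNat (nat_lit 16)), (nat_lit 14, .negSucc (nat_lit 15)), (nat_lit 15, .negSucc (nat_lit 15))],
  [(nat_lit 0, .ofNat (nat_lit 8)), (nat_lit 1, .negSucc (nat_lit 15)), (nat_lit 6, .ofNat (nat_lit 8)), (nat_lit 8, .ofNat (nat_lit 16))],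
  [(nat_lit 2, .ofNat (nat_lit 8)), (nat_lit 3, .negSucc (nat_lit 15)), (nat_lit 7, .ofNat (nat_lit 8)), (nat_lit 9, .ofNat (nat_lit 16))],
  [(nat_lit 0, .negSucc (nat_lit 3)), (nat_lit 1, .ofNat (nat_lit 8)), (nat_lit 6, .ofNat (nat_lit 4)), (nat_lit 8, .ofNat (nat_lit 8))],
  [(nat_lit 2, .negSucc (nat_lit 3)), (nat_lit 3, .ofNat (nat_lit 8)), (nat_lit 7, .ofNat (nat_lit 4)), (nat_lit 9, .ofNat (nat_lit 8))],
  [(nat_lit 10, .ofNat (nat_lit 16))],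
  [(nat_lit 12, .ofNat (nat_lit 16)), (nat_lit 13, .negSucc (nat_lit 15)), (nat_lit 14, .negSucc (nat_lit 15)), (nat_lit 15, .ofNat (nat_lit 16))],
  [(nat_lit 5, .ofNat (nat_lit 4)), (nat_lit 11, .ofNat (nat_lit 4)), (nat_lit 12, .ofNat (nat_lit 8)), (nat_lit 14, .ofNat (nat_lit 8))],
  [(nat_lit 5, .ofNat (nat_lit 4)), (nat_lit 11, .negSucc (nat_lit 3)), (nat_lit 13, .ofNat (nat_lit 8)), (nat_lit 15, .ofNat (nat_lit 8))],
  [(nat_lit 5, .negSucc (nat_lit 3)), (nat_lit 11, .negSucc (nat_lit 3)), (nat_lit 12, .ofNat (nat_lit 8)), (nat_lit 14, .ofNat (nat_lit 8))],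
  [(nat_lit 5, .negSucc (nat_lit 3)), (nat_lit 11, .ofNat (nat_lit 4)), (nat_lit 13, .ofNat (nat_lit 8)), (nat_lit 15, .ofNat (nat_lit 8))],
  [(nat_lit 16, .ofNat (nat_lit 8)), (nat_lit 18, .ofNat (nat_lit 16)), (nat_lit 26, .ofNat (nat_lit 8)), (nat_lit 28, .negSucc (nat_lit 15))],
  [(nat_lit 17, .ofNat (nat_lit 8)), (nat_lit 19, .ofNat (nat_lit 16)), (nat_lit 27, .ofNat (nat_lit 8)), (nat_lit 29, .negSucc (nat_lit 15))],
  [(nat_lit 16, .ofNat (nat_lit 4)), (nat_lit 18, .ofNat (nat_lit 8)), (nat_lit 26, .negSucc (nat_lit 3)), (nat_lit 28, .ofNat (nat_lit 8))],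
  [(nat_lit 17, .ofNat (nat_lit 4)), (nat_lit 19, .ofNat (nat_lit 8)), (nat_lit 27, .negSucc (nat_lit 3)), (nat_lit 29, .ofNat (nat_lit 8))],
  [(nat_lit 36, .ofNat (nat_lit 16)), (nat_lit 40, .negSucc (nat_lit 15)), (nat_lit 44, .ofNat (nat_lit 16)), (nat_lit 48, .negSucc (nat_lit 15))],
  [(nat_lit 37, .ofNat (nat_lit 16)), (nat_lit 41, .negSucc (nat_lit 15)), (nat_lit 45, .ofNat (nat_lit 16)), (nat_lit 49, .negSucc (nat_lit 15))],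
  [(nat_lit 22, .ofNat (nat_lit 4)), (nat_lit 23, .ofNat (nat_lit 4)), (nat_lit 24, .ofNat (nat_lit 4)), (nat_lit 25, .ofNat (nat_lit 4)), (nat_lit 32, .ofNat (nat_lit 4)), (nat_lit 33, .ofNat (nat_lit 4)), (nat_lit 34, .negSucc (nat_lit 3)), (nat_lit 35, .negSucc (nat_lit 3)), (nat_lit 38, .ofNat (nat_lit 4)), (nat_lit 39, .ofNat (nat_lit 4)), (nat_lit 42, .negSucc (nat_lit 3)), (nat_lit 43, .negSucc (nat_lit 3)), (nat_lit 46, .ofNat (nat_lit 4)), (nat_lit 47, .ofNat (nat_lit 4)), (nat_lit 50, .negSucc (nat_lit 3)), (nat_lit 51, .negSucc (nat_lit 3))],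
  [(nat_lit 22, .ofNat (nat_lit 4)), (nat_lit 23, .ofNat (nat_lit 4)), (nat_lit 24, .ofNat (nat_lit 4)), (nat_lit 25, .ofNat (nat_lit 4)), (nat_lit 32, .ofNat (nat_lit 4)), (nat_lit 33, .ofNat (nat_lit 4)), (nat_lit 34, .negSucc (nat_lit 3)), (nat_lit 35, .negSucc (nat_lit 3)), (nat_lit 38, .negSucc (nat_lit 3)), (nat_lit 39, .negSucc (nat_lit 3)), (nat_lit 42, .ofNat (nat_lit 4)), (nat_lit 43, .ofNat (nat_lit 4)), (nat_lit 46, .negSucc (nat_lit 3)), (nat_lit 47, .negSucc (nat_lit 3)), (nat_lit 50, .ofNat (nat_lit 4)), (nat_lit 51, .ofNat (nat_lit 4))],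
  [(nat_lit 22, .ofNat (nat_lit 4)), (nat_lit 23, .ofNat (nat_lit 4)), (nat_lit 24, .ofNat (nat_lit 4)), (nat_lit 25, .ofNat (nat_lit 4)), (nat_lit 32, .negSucc (nat_lit 3)), (nat_lit 33, .negSucc (nat_lit 3)), (nat_lit 34, .ofNat (nat_lit 4)), (nat_lit 35, .ofNat (nat_lit 4)), (nat_lit 38, .ofNat (nat_lit 4)), (nat_lit 39, .negSucc (nat_lit 3)), (nat_lit 42, .negSucc (nat_lit 3)), (nat_lit 43, .ofNat (nat_lit 4)), (nat_lit 46, .ofNat (nat_lit 4)), (nat_lit 47, .negSucc (nat_lit 3)), (nat_lit 50, .negSucc (nat_lit 3)), (nat_lit 51, .ofNat (nat_lit 4))],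
  [(nat_lit 22, .ofNat (nat_lit 4)), (nat_lit 23, .ofNat (nat_lit 4)), (nat_lit 24, .ofNat (nat_lit 4)), (nat_lit 25, .ofNat (nat_lit 4)), (nat_lit 32, .negSucc (nat_lit 3)), (nat_lit 33, .negSucc (nat_lit 3)), (nat_lit 34, .ofNat (nat_lit 4)), (nat_lit 35, .ofNat (nat_lit 4)), (nat_lit 38, .negSucc (nat_lit 3)), (nat_lit 39, .ofNat (nat_lit 4)), (nat_lit 42, .ofNat (nat_lit 4)), (nat_lit 43, .negSucc (nat_lit 3)), (nat_lit 46, .negSucc (nat_lit 3)), (nat_lit 47, .ofNat (nat_lit 4)), (nat_lit 50, .ofNat (nat_lit 4)), (nat_lit 51, .negSucc (nat_lit 3))],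
  [(nat_lit 16, .ofNat (nat_lit 8)), (nat_lit 18, .negSucc (nat_lit 15)), (nat_lit 26, .ofNat (nat_lit 8)), (nat_lit 28, .ofNat (nat_lit 16))],
  [(nat_lit 17, .ofNat (nat_lit 8)), (nat_lit 19, .negSucc (nat_lit 15)), (nat_lit 27, .ofNat (nat_lit 8)), (nat_lit 29, .ofNat (nat_lit 16))],
  [(nat_lit 16, .negSucc (nat_lit 3)), (nat_lit 18, .ofNat (nat_lit 8)), (nat_lit 26, .ofNat (nat_lit 4)), (nat_lit 28, .ofNat (nat_lit 8))],
  [(nat_lit 17, .negSucc (nat_lit 3)), (nat_lit 19, .ofNat (nat_lit 8)), (nat_lit 27, .ofNat (nat_lit 4)), (nat_lit 29, .ofNat (nat_lit 8))],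
  [(nat_lit 36, .ofNat (nat_lit 16)), (nat_lit 40, .negSucc (nat_lit 15)), (nat_lit 44, .negSucc (nat_lit 15)), (nat_lit 48, .ofNat (nat_lit 16))],
  [(nat_lit 37, .ofNat (nat_lit 16)), (nat_lit 41, .negSucc (nat_lit 15)), (nat_lit 45, .negSucc (nat_lit 15)), (nat_lit 49, .ofNat (nat_lit 16))],
  [(nat_lit 22, .ofNat (nat_lit 4)), (nat_lit 23, .ofNat (nat_lit 4)), (nat_lit 24, .negSucc (nat_lit 3)), (nat_lit 25, .negSucc (nat_lit 3)), (nat_lit 32, .ofNat (nat_lit 4)), (nat_lit 33, .ofNat (nat_lit 4)), (nat_lit 34, .ofNat (nat_lit 4)), (nat_lit 35, .ofNat (nat_lit 4)), (nat_lit 38, .ofNat (nat_lit 4)), (nat_lit 39, .ofNat (nat_lit 4)), (nat_lit 42, .negSucc (nat_lit 3)), (nat_lit 43, .negSucc (nat_lit 3)), (nat_lit 46, .negSucc (nat_lit 3)), (nat_lit 47, .negSucc (nat_lit 3)), (nat_lit 50, .ofNat (nat_lit 4)), (nat_lit 51, .ofNat (nat_lit 4))],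
  [(nat_lit 22, .ofNat (nat_lit 4)), (nat_lit 23, .ofNat (nat_lit 4)), (nat_lit 24, .negSucc (nat_lit 3)), (nat_lit 25, .negSucc (nat_lit 3)), (nat_lit 32, .ofNat (nat_lit 4)), (nat_lit 33, .ofNat (nat_lit 4)), (nat_lit 34, .ofNat (nat_lit 4)), (nat_lit 35, .ofNat (nat_lit 4)), (nat_lit 38, .negSucc (nat_lit 3)), (nat_lit 39, .negSucc (nat_lit 3)), (nat_lit 42, .ofNat (nat_lit 4)), (nat_lit 43, .ofNat (nat_lit 4)), (nat_lit 46, .ofNat (nat_lit 4)), (nat_lit 47, .ofNat (nat_lit 4)), (nat_lit 50, .negSucc (nat_lit 3)), (nat_lit 51, .negSucc (nat_lit 3))],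
  [(nat_lit 22, .negSucc (nat_lit 3)), (nat_lit 23, .negSucc (nat_lit 3)), (nat_lit 24, .ofNat (nat_lit 4)), (nat_lit 25, .ofNat (nat_lit 4)), (nat_lit 32, .ofNat (nat_lit 4)), (nat_lit 33, .ofNat (nat_lit 4)), (nat_lit 34, .ofNat (nat_lit 4)), (nat_lit 35, .ofNat (nat_lit 4)), (nat_lit 38, .negSucc (nat_lit 3)), (nat_lit 39, .ofNat (nat_lit 4)), (nat_lit 42, .ofNat (nat_lit 4)), (nat_lit 43, .negSucc (nat_lit 3)), (nat_lit 46, .ofNat (nat_lit 4)), (nat_lit 47, .negSucc (nat_lit 3)), (nat_lit 50, .negSucc (nat_lit 3)), (nat_lit 51, .ofNat (nat_lit 4))],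
  [(nat_lit 22, .negSucc (nat_lit 3)), (nat_lit 23, .negSucc (nat_lit 3)), (nat_lit 24, .ofNat (nat_lit 4)), (nat_lit 25, .ofNat (nat_lit 4)), (nat_lit 32, .ofNat (nat_lit 4)), (nat_lit 33, .ofNat (nat_lit 4)), (nat_lit 34, .ofNat (nat_lit 4)), (nat_lit 35, .ofNat (nat_lit 4)), (nat_lit 38, .ofNat (nat_lit 4)), (nat_lit 39, .negSucc (nat_lit 3)), (nat_lit 42, .negSucc (nat_lit 3)), (nat_lit 43, .ofNat (nat_lit 4)), (nat_lit 46, .negSucc (nat_lit 3)), (nat_lit 47, .ofNat (nat_lit 4)), (nat_lit 50, .ofNat (nat_lit 4)), (nat_lit 51, .negSucc (nat_lit 3))],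
  [(nat_lit 20, .ofNat (nat_lit 4)), (nat_lit 30, .ofNat (nat_lit 4)), (nat_lit 36, .ofNat (nat_lit 8)), (nat_lit 40, .ofNat (nat_lit 8))],
  [(nat_lit 21, .ofNat (nat_lit 4)), (nat_lit 31, .ofNat (nat_lit 4)), (nat_lit 37, .ofNat (nat_lit 8)), (nat_lit 41, .ofNat (nat_lit 8))],
  [(nat_lit 22, .ofNat (nat_lit 4)), (nat_lit 23, .negSucc (nat_lit 3)), (nat_lit 24, .ofNat (nat_lit 4)), (nat_lit 25, .negSucc (nat_lit 3)), (nat_lit 32, .ofNat (nat_lit 4)), (nat_lit 33, .negSucc (nat_lit 3)), (nat_lit 34, .negSucc (nat_lit 3)), (nat_lit 35, .ofNat (nat_lit 4)), (nat_lit 38, .ofNat (nat_lit 4)), (nat_lit 39, .ofNat (nat_lit 4)), (nat_lit 42, .ofNat (nat_lit 4)), (nat_lit 43, .ofNat (nat_lit 4)), (nat_lit 46, .ofNat (nat_lit 4)), (nat_lit 47, .negSucc (nat_lit 3)), (nat_lit 50, .ofNat (nat_lit 4)), (nat_lit 51, .negSucc (nat_lit 3))],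
  [(nat_lit 22, .ofNat (nat_lit 4)), (nat_lit 23, .negSucc (nat_lit 3)), (nat_lit 24, .negSucc (nat_lit 3)), (nat_lit 25, .ofNat (nat_lit 4)), (nat_lit 32, .ofNat (nat_lit 4)), (nat_lit 33, .negSucc (nat_lit 3)), (nat_lit 34, .ofNat (nat_lit 4)), (nat_lit 35, .negSucc (nat_lit 3)), (nat_lit 38, .ofNat (nat_lit 4)), (nat_lit 39, .ofNat (nat_lit 4)), (nat_lit 42, .ofNat (nat_lit 4)), (nat_lit 43, .ofNat (nat_lit 4)), (nat_lit 46, .negSucc (nat_lit 3)), (nat_lit 47, .ofNat (nat_lit 4)), (nat_lit 50, .negSucc (nat_lit 3)), (nat_lit 51, .ofNat (nat_lit 4))],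
  [(nat_lit 20, .negSucc (nat_lit 3)), (nat_lit 30, .negSucc (nat_lit 3)), (nat_lit 36, .ofNat (nat_lit 8)), (nat_lit 40, .ofNat (nat_lit 8))],
  [(nat_lit 21, .negSucc (nat_lit 3)), (nat_lit 31, .negSucc (nat_lit 3)), (nat_lit 37, .ofNat (nat_lit 8)), (nat_lit 41, .ofNat (nat_lit 8))],
  [(nat_lit 22, .negSucc (nat_lit 3)), (nat_lit 23, .ofNat (nat_lit 4)), (nat_lit 24, .negSucc (nat_lit 3)), (nat_lit 25, .ofNat (nat_lit 4)), (nat_lit 32, .negSucc (nat_lit 3)), (nat_lit 33, .ofNat (nat_lit 4)), (nat_lit 34, .ofNat (nat_lit 4)), (nat_lit 35, .negSucc (nat_lit 3)), (nat_lit 38, .ofNat (nat_lit 4)), (nat_lit 39, .ofNat (nat_lit 4)), (nat_lit 42, .ofNat (nat_lit 4)), (nat_lit 43, .ofNat (nat_lit 4)), (nat_lit 46, .ofNat (nat_lit 4)), (nat_lit 47, .negSucc (nat_lit 3)), (nat_lit 50, .ofNat (nat_lit 4)), (nat_lit 51, .negSucc (nat_lit 3))],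
  [(nat_lit 22, .negSucc (nat_lit 3)), (nat_lit 23, .ofNat (nat_lit 4)), (nat_lit 24, .ofNat (nat_lit 4)), (nat_lit 25, .negSucc (nat_lit 3)), (nat_lit 32, .negSucc (nat_lit 3)), (nat_lit 33, .ofNat (nat_lit 4)), (nat_lit 34, .negSucc (nat_lit 3)), (nat_lit 35, .ofNat (nat_lit 4)), (nat_lit 38, .ofNat (nat_lit 4)), (nat_lit 39, .ofNat (nat_lit 4)), (nat_lit 42, .ofNat (nat_lit 4)), (nat_lit 43, .ofNat (nat_lit 4)), (nat_lit 46, .negSucc (nat_lit 3)), (nat_lit 47, .ofNat (nat_lit 4)), (nat_lit 50, .negSucc (nat_lit 3)), (nat_lit 51, .ofNat (nat_lit 4))],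
  [(nat_lit 20, .ofNat (nat_lit 4)), (nat_lit 30, .negSucc (nat_lit 3)), (nat_lit 44, .ofNat (nat_lit 8)), (nat_lit 48, .ofNat (nat_lit 8))],
  [(nat_lit 21, .ofNat (nat_lit 4)), (nat_lit 31, .negSucc (nat_lit 3)), (nat_lit 45, .ofNat (nat_lit 8)), (nat_lit 49, .ofNat (nat_lit 8))],
  [(nat_lit 22, .ofNat (nat_lit 4)), (nat_lit 23, .negSucc (nat_lit 3)), (nat_lit 24, .ofNat (nat_lit 4)), (nat_lit 25, .negSucc (nat_lit 3)), (nat_lit 32, .negSucc (nat_lit 3)), (nat_lit 33, .ofNat (nat_lit 4)), (nat_lit 34, .ofNat (nat_lit 4)), (nat_lit 35, .negSucc (nat_lit 3)), (nat_lit 38, .ofNat (nat_lit 4)), (nat_lit 39, .negSucc (nat_lit 3)), (nat_lit 42, .ofNat (nat_lit 4)), (nat_lit 43, .negSucc (nat_lit 3)), (nat_lit 46, .ofNat (nat_lit 4)), (nat_lit 47, .ofNat (nat_lit 4)), (nat_lit 50, .ofNat (nat_lit 4)), (nat_lit 51, .ofNat (nat_lit 4))],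
  [(nat_lit 22, .ofNat (nat_lit 4)), (nat_lit 23, .negSucc (nat_lit 3)), (nat_lit 24, .negSucc (nat_lit 3)), (nat_lit 25, .ofNat (nat_lit 4)), (nat_lit 32, .negSucc (nat_lit 3)), (nat_lit 33, .ofNat (nat_lit 4)), (nat_lit 34, .negSucc (nat_lit 3)), (nat_lit 35, .ofNat (nat_lit 4)), (nat_lit 38, .negSucc (nat_lit 3)), (nat_lit 39, .ofNat (nat_lit 4)), (nat_lit 42, .negSucc (nat_lit 3)), (nat_lit 43, .ofNat (nat_lit 4)), (nat_lit 46, .ofNat (nat_lit 4)), (nat_lit 47, .ofNat (nat_lit 4)), (nat_lit 50, .ofNat (nat_lit 4)), (nat_lit 51, .ofNat (nat_lit 4))],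
  [(nat_lit 20, .negSucc (nat_lit 3)), (nat_lit 30, .ofNat (nat_lit 4)), (nat_lit 44, .ofNat (nat_lit 8)), (nat_lit 48, .ofNat (nat_lit 8))],
  [(nat_lit 21, .negSucc (nat_lit 3)), (nat_lit 31, .ofNat (nat_lit 4)), (nat_lit 45, .ofNat (nat_lit 8)), (nat_lit 49, .ofNat (nat_lit 8))],
  [(nat_lit 22, .negSucc (nat_lit 3)), (nat_lit 23, .ofNat (nat_lit 4)), (nat_lit 24, .negSucc (nat_lit 3)), (nat_lit 25, .ofNat (nat_lit 4)), (nat_lit 32, .ofNat (nat_lit 4)), (nat_lit 33, .negSucc (nat_lit 3)), (nat_lit 34, .negSucc (nat_lit 3)), (nat_lit 35, .ofNat (nat_lit 4)), (nat_lit 38, .ofNat (nat_lit 4)), (nat_lit 39, .negSucc (nat_lit 3)), (nat_lit 42, .ofNat (nat_lit 4)), (nat_lit 43, .negSucc (nat_lit 3)), (nat_lit 46, .ofNat (nat_lit 4)), (nat_lit 47, .ofNat (nat_lit 4)), (nat_lit 50, .ofNat (nat_lit 4)), (nat_lit 51, .ofNat (nat_lit 4))],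
  [(nat_lit 22, .negSucc (nat_lit 3)), (nat_lit 23, .ofNat (nat_lit 4)), (nat_lit 24, .ofNat (nat_lit 4)), (nat_lit 25, .negSucc (nat_lit 3)), (nat_lit 32, .ofNat (nat_lit 4)), (nat_lit 33, .negSucc (nat_lit 3)), (nat_lit 34, .ofNat (nat_lit 4)), (nat_lit 35, .negSucc (nat_lit 3)), (nat_lit 38, .negSucc (nat_lit 3)), (nat_lit 39, .ofNat (nat_lit 4)), (nat_lit 42, .negSucc (nat_lit 3)), (nat_lit 43, .ofNat (nat_lit 4)), (nat_lit 46, .ofNat (nat_lit 4)), (nat_lit 47, .ofNat (nat_lit 4)), (nat_lit 50, .ofNat (nat_lit 4)), (nat_lit 51, .ofNat (nat_lit 4))]]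

/-- The matrix of the root 10, times sixteen. -/
def mat10 : List (List (Nat × Int)) := [
  [(nat_lit 0, .ofNat (nat_lit 16))],
  [(nat_lit 1, .ofNat (nat_lit 16))],
  [(nat_lit 2, .ofNat (nat_lit 16))],
  [(nat_lit 3, .ofNat (nat_lit 16))],
  [(nat_lit 4, .ofNat (nat_lit 16))],
  [(nat_lit 5, .ofNat (nat_lit 16))],
  [(nat_lit 6, .ofNat (nat_lit 16))],
  [(nat_lit 7, .ofNat (nat_lit 16))],
  [(nat_lit 8, .ofNat (nat_lit 16))],
  [(nat_lit 9, .ofNat (nat_lit 16))],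
  [(nat_lit 10, .ofNat (nat_lit 16))],
  [(nat_lit 11, .ofNat (nat_lit 16))],
  [(nat_lit 12, .ofNat (nat_lit 16))],
  [(nat_lit 13, .ofNat (nat_lit 16))],
  [(nat_lit 14, .ofNat (nat_lit 16))],
  [(nat_lit 15, .ofNat (nat_lit 16))],
  [(nat_lit 17, .ofNat (nat_lit 16))],
  [(nat_lit 16, .ofNat (nat_lit 16))],
  [(nat_lit 19, .ofNat (nat_lit 16))],
  [(nat_lit 18, .ofNat (nat_lit 16))],
  [(nat_lit 21, .ofNat (nat_lit 16))],
  [(nat_lit 20, .ofNat (nat_lit 16))],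
  [(nat_lit 22, .ofNat (nat_lit 16))],
  [(nat_lit 23, .ofNat (nat_lit 16))],
  [(nat_lit 25, .ofNat (nat_lit 16))],
  [(nat_lit 24, .ofNat (nat_lit 16))],
  [(nat_lit 27, .ofNat (nat_lit 16))],
  [(nat_lit 26, .ofNat (nat_lit 16))],
  [(nat_lit 29, .ofNat (nat_lit 16))],
  [(nat_lit 28, .ofNat (nat_lit 16))],
  [(nat_lit 31, .ofNat (nat_lit 16))],
  [(nat_lit 30, .ofNat (nat_lit 16))],
  [(nat_lit 32, .ofNat (nat_lit 16))],
  [(nat_lit 33, .ofNat (nat_lit 16))],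
  [(nat_lit 35, .ofNat (nat_lit 16))],
  [(nat_lit 34, .ofNat (nat_lit 16))],
  [(nat_lit 37, .ofNat (nat_lit 16))],
  [(nat_lit 36, .ofNat (nat_lit 16))],
  [(nat_lit 39, .ofNat (nat_lit 16))],
  [(nat_lit 38, .ofNat (nat_lit 16))],
  [(nat_lit 41, .ofNat (nat_lit 16))],
  [(nat_lit 40, .ofNat (nat_lit 16))],
  [(nat_lit 43, .ofNat (nat_lit 16))],
  [(nat_lit 42, .ofNat (nat_lit 16))],
  [(nat_lit 45, .ofNat (nat_lit 16))],
  [(nat_lit 44, .ofNat (nat_lit 16))],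
  [(nat_lit 47, .ofNat (nat_lit 16))],
  [(nat_lit 46, .ofNat (nat_lit 16))],
  [(nat_lit 49, .ofNat (nat_lit 16))],
  [(nat_lit 48, .ofNat (nat_lit 16))],
  [(nat_lit 51, .ofNat (nat_lit 16))],
  [(nat_lit 50, .ofNat (nat_lit 16))]]

/-- The matrix of the root 11, times sixteen. -/
def mat11 : List (List (Nat × Int)) := [
  [(nat_lit 0, .ofNat (nat_lit 8)), (nat_lit 1, .ofNat (nat_lit 16)), (nat_lit 16, .ofNat (nat_lit 8)), (nat_lit 18, .negSucc (nat_lit 15))],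
  [(nat_lit 0, .ofNat (nat_lit 4)), (nat_lit 1, .ofNat (nat_lit 8)), (nat_lit 16, .negSucc (nat_lit 3)), (nat_lit 18, .ofNat (nat_lit 8))],
  [(nat_lit 2, .ofNat (nat_lit 8)), (nat_lit 3, .ofNat (nat_lit 16)), (nat_lit 17, .ofNat (nat_lit 8)), (nat_lit 19, .negSucc (nat_lit 15))],
  [(nat_lit 2, .ofNat (nat_lit 4)), (nat_lit 3, .ofNat (nat_lit 8)), (nat_lit 17, .negSucc (nat_lit 3)), (nat_lit 19, .ofNat (nat_lit 8))],
  [(nat_lit 4, .ofNat (nat_lit 16))],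
  [(nat_lit 22, .ofNat (nat_lit 16)), (nat_lit 23, .ofNat (nat_lit 16)), (nat_lit 24, .negSucc (nat_lit 15)), (nat_lit 25, .negSucc (nat_lit 15))],
  [(nat_lit 6, .ofNat (nat_lit 8)), (nat_lit 8, .ofNat (nat_lit 16)), (nat_lit 26, .ofNat (nat_lit 8)), (nat_lit 28, .negSucc (nat_lit 15))],
  [(nat_lit 7, .ofNat (nat_lit 8)), (nat_lit 9, .ofNat (nat_lit 16)), (nat_lit 27, .ofNat (nat_lit 8)), (nat_lit 29, .negSucc (nat_lit 15))],
  [(nat_lit 6, .ofNat (nat_lit 4)), (nat_lit 8, .ofNat (nat_lit 8)), (nat_lit 26, .negSucc (nat_lit 3)), (nat_lit 28, .ofNat (nat_lit 8))],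
  [(nat_lit 7, .ofNat (nat_lit 4)), (nat_lit 9, .ofNat (nat_lit 8)), (nat_lit 27, .negSucc (nat_lit 3)), (nat_lit 29, .ofNat (nat_lit 8))],
  [(nat_lit 36, .ofNat (nat_lit 16)), (nat_lit 40, .ofNat (nat_lit 16)), (nat_lit 44, .negSucc (nat_lit 15)), (nat_lit 48, .negSucc (nat_lit 15))],
  [(nat_lit 38, .ofNat (nat_lit 16)), (nat_lit 42, .ofNat (nat_lit 16)), (nat_lit 46, .negSucc (nat_lit 15)), (nat_lit 50, .negSucc (nat_lit 15))],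
  [(nat_lit 12, .ofNat (nat_lit 4)), (nat_lit 13, .ofNat (nat_lit 4)), (nat_lit 14, .ofNat (nat_lit 4)), (nat_lit 15, .ofNat (nat_lit 4)), (nat_lit 32, .ofNat (nat_lit 4)), (nat_lit 33, .ofNat (nat_lit 4)), (nat_lit 34, .negSucc (nat_lit 3)), (nat_lit 35, .negSucc (nat_lit 3)), (nat_lit 37, .ofNat (nat_lit 4)), (nat_lit 39, .ofNat (nat_lit 4)), (nat_lit 41, .ofNat (nat_lit 4)), (nat_lit 43, .ofNat (nat_lit 4)), (nat_lit 45, .negSucc (nat_lit 3)), (nat_lit 47, .negSucc (nat_lit 3)), (nat_lit 49, .negSucc (nat_lit 3)), (nat_lit 51, .negSucc (nat_lit 3))],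
  [(nat_lit 12, .ofNat (nat_lit 4)), (nat_lit 13, .ofNat (nat_lit 4)), (nat_lit 14, .ofNat (nat_lit 4)), (nat_lit 15, .ofNat (nat_lit 4)), (nat_lit 32, .ofNat (nat_lit 4)), (nat_lit 33, .ofNat (nat_lit 4)), (nat_lit 34, .negSucc (nat_lit 3)), (nat_lit 35, .negSucc (nat_lit 3)), (nat_lit 37, .negSucc (nat_lit 3)), (nat_lit 39, .negSucc (nat_lit 3)), (nat_lit 41, .negSucc (nat_lit 3)), (nat_lit 43, .negSucc (nat_lit 3)), (nat_lit 45, .ofNat (nat_lit 4)), (nat_lit 47, .ofNat (nat_lit 4)), (nat_lit 49, .ofNat (nat_lit 4)), (nat_lit 51, .ofNat (nat_lit 4))],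
  [(nat_lit 12, .ofNat (nat_lit 4)), (nat_lit 13, .ofNat (nat_lit 4)), (nat_lit 14, .ofNat (nat_lit 4)), (nat_lit 15, .ofNat (nat_lit 4)), (nat_lit 32, .negSucc (nat_lit 3)), (nat_lit 33, .negSucc (nat_lit 3)), (nat_lit 34, .ofNat (nat_lit 4)), (nat_lit 35, .ofNat (nat_lit 4)), (nat_lit 37, .ofNat (nat_lit 4)), (nat_lit 39, .negSucc (nat_lit 3)), (nat_lit 41, .ofNat (nat_lit 4)), (nat_lit 43, .negSucc (nat_lit 3)), (nat_lit 45, .negSucc (nat_lit 3)), (nat_lit 47, .ofNat (nat_lit 4)), (nat_lit 49, .negSucc (nat_lit 3)), (nat_lit 51, .ofNat (nat_lit 4))],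
  [(nat_lit 12, .ofNat (nat_lit 4)), (nat_lit 13, .ofNat (nat_lit 4)), (nat_lit 14, .ofNat (nat_lit 4)), (nat_lit 15, .ofNat (nat_lit 4)), (nat_lit 32, .negSucc (nat_lit 3)), (nat_lit 33, .negSucc (nat_lit 3)), (nat_lit 34, .ofNat (nat_lit 4)), (nat_lit 35, .ofNat (nat_lit 4)), (nat_lit 37, .negSucc (nat_lit 3)), (nat_lit 39, .ofNat (nat_lit 4)), (nat_lit 41, .negSucc (nat_lit 3)), (nat_lit 43, .ofNat (nat_lit 4)), (nat_lit 45, .ofNat (nat_lit 4)), (nat_lit 47, .negSucc (nat_lit 3)), (nat_lit 49, .ofNat (nat_lit 4)), (nat_lit 51, .negSucc (nat_lit 3))],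
  [(nat_lit 0, .ofNat (nat_lit 8)), (nat_lit 1, .negSucc (nat_lit 15)), (nat_lit 16, .ofNat (nat_lit 8)), (nat_lit 18, .ofNat (nat_lit 16))],
  [(nat_lit 2, .ofNat (nat_lit 8)), (nat_lit 3, .negSucc (nat_lit 15)), (nat_lit 17, .ofNat (nat_lit 8)), (nat_lit 19, .ofNat (nat_lit 16))],
  [(nat_lit 0, .negSucc (nat_lit 3)), (nat_lit 1, .ofNat (nat_lit 8)), (nat_lit 16, .ofNat (nat_lit 4)), (nat_lit 18, .ofNat (nat_lit 8))],
  [(nat_lit 2, .negSucc (nat_lit 3)), (nat_lit 3, .ofNat (nat_lit 8)), (nat_lit 17, .ofNat (nat_lit 4)), (nat_lit 19, .ofNat (nat_lit 8))],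
  [(nat_lit 20, .ofNat (nat_lit 16))],
  [(nat_lit 22, .ofNat (nat_lit 16)), (nat_lit 23, .negSucc (nat_lit 15)), (nat_lit 24, .negSucc (nat_lit 15)), (nat_lit 25, .ofNat (nat_lit 16))],
  [(nat_lit 5, .ofNat (nat_lit 4)), (nat_lit 21, .ofNat (nat_lit 4)), (nat_lit 22, .ofNat (nat_lit 8)), (nat_lit 24, .ofNat (nat_lit 8))],
  [(nat_lit 5, .ofNat (nat_lit 4)), (nat_lit 21, .negSucc (nat_lit 3)), (nat_lit 23, .ofNat (nat_lit 8)), (nat_lit 25, .ofNat (nat_lit 8))],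
  [(nat_lit 5, .negSucc (nat_lit 3)), (nat_lit 21, .negSucc (nat_lit 3)), (nat_lit 22, .ofNat (nat_lit 8)), (nat_lit 24, .ofNat (nat_lit 8))],
  [(nat_lit 5, .negSucc (nat_lit 3)), (nat_lit 21, .ofNat (nat_lit 4)), (nat_lit 23, .ofNat (nat_lit 8)), (nat_lit 25, .ofNat (nat_lit 8))],
  [(nat_lit 6, .ofNat (nat_lit 8)), (nat_lit 8, .negSucc (nat_lit 15)), (nat_lit 26, .ofNat (nat_lit 8)), (nat_lit 28, .ofNat (nat_lit 16))],
  [(nat_lit 7, .ofNat (nat_lit 8)), (nat_lit 9, .negSucc (nat_lit 15)), (nat_lit 27, .ofNat (nat_lit 8)), (nat_lit 29, .ofNat (nat_lit 16))],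
  [(nat_lit 6, .negSucc (nat_lit 3)), (nat_lit 8, .ofNat (nat_lit 8)), (nat_lit 26, .ofNat (nat_lit 4)), (nat_lit 28, .ofNat (nat_lit 8))],
  [(nat_lit 7, .negSucc (nat_lit 3)), (nat_lit 9, .ofNat (nat_lit 8)), (nat_lit 27, .ofNat (nat_lit 4)), (nat_lit 29, .ofNat (nat_lit 8))],
  [(nat_lit 36, .ofNat (nat_lit 16)), (nat_lit 40, .negSucc (nat_lit 15)), (nat_lit 44, .negSucc (nat_lit 15)), (nat_lit 48, .ofNat (nat_lit 16))],
  [(nat_lit 38, .ofNat (nat_lit 16)), (nat_lit 42, .negSucc (nat_lit 15)), (nat_lit 46, .negSucc (nat_lit 15)), (nat_lit 50, .ofNat (nat_lit 16))],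
  [(nat_lit 12, .ofNat (nat_lit 4)), (nat_lit 13, .ofNat (nat_lit 4)), (nat_lit 14, .negSucc (nat_lit 3)), (nat_lit 15, .negSucc (nat_lit 3)), (nat_lit 32, .ofNat (nat_lit 4)), (nat_lit 33, .ofNat (nat_lit 4)), (nat_lit 34, .ofNat (nat_lit 4)), (nat_lit 35, .ofNat (nat_lit 4)), (nat_lit 37, .ofNat (nat_lit 4)), (nat_lit 39, .ofNat (nat_lit 4)), (nat_lit 41, .negSucc (nat_lit 3)), (nat_lit 43, .negSucc (nat_lit 3)), (nat_lit 45, .negSucc (nat_lit 3)), (nat_lit 47, .negSucc (nat_lit 3)), (nat_lit 49, .ofNat (nat_lit 4)), (nat_lit 51, .ofNat (nat_lit 4))],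
  [(nat_lit 12, .ofNat (nat_lit 4)), (nat_lit 13, .ofNat (nat_lit 4)), (nat_lit 14, .negSucc (nat_lit 3)), (nat_lit 15, .negSucc (nat_lit 3)), (nat_lit 32, .ofNat (nat_lit 4)), (nat_lit 33, .ofNat (nat_lit 4)), (nat_lit 34, .ofNat (nat_lit 4)), (nat_lit 35, .ofNat (nat_lit 4)), (nat_lit 37, .negSucc (nat_lit 3)), (nat_lit 39, .negSucc (nat_lit 3)), (nat_lit 41, .ofNat (nat_lit 4)), (nat_lit 43, .ofNat (nat_lit 4)), (nat_lit 45, .ofNat (nat_lit 4)), (nat_lit 47, .ofNat (nat_lit 4)), (nat_lit 49, .negSucc (nat_lit 3)), (nat_lit 51, .negSucc (nat_lit 3))],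
  [(nat_lit 12, .negSucc (nat_lit 3)), (nat_lit 13, .negSucc (nat_lit 3)), (nat_lit 14, .ofNat (nat_lit 4)), (nat_lit 15, .ofNat (nat_lit 4)), (nat_lit 32, .ofNat (nat_lit 4)), (nat_lit 33, .ofNat (nat_lit 4)), (nat_lit 34, .ofNat (nat_lit 4)), (nat_lit 35, .ofNat (nat_lit 4)), (nat_lit 37, .negSucc (nat_lit 3)), (nat_lit 39, .ofNat (nat_lit 4)), (nat_lit 41, .ofNat (nat_lit 4)), (nat_lit 43, .negSucc (nat_lit 3)), (nat_lit 45, .ofNat (nat_lit 4)), (nat_lit 47, .negSucc (nat_lit 3)), (nat_lit 49, .negSucc (nat_lit 3)), (nat_lit 51, .ofNat (nat_lit 4))],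
  [(nat_lit 12, .negSucc (nat_lit 3)), (nat_lit 13, .negSucc (nat_lit 3)), (nat_lit 14, .ofNat (nat_lit 4)), (nat_lit 15, .ofNat (nat_lit 4)), (nat_lit 32, .ofNat (nat_lit 4)), (nat_lit 33, .ofNat (nat_lit 4)), (nat_lit 34, .ofNat (nat_lit 4)), (nat_lit 35, .ofNat (nat_lit 4)), (nat_lit 37, .ofNat (nat_lit 4)), (nat_lit 39, .negSucc (nat_lit 3)), (nat_lit 41, .negSucc (nat_lit 3)), (nat_lit 43, .ofNat (nat_lit 4)), (nat_lit 45, .negSucc (nat_lit 3)), (nat_lit 47, .ofNat (nat_lit 4)), (nat_lit 49, .ofNat (nat_lit 4)), (nat_lit 51, .negSucc (nat_lit 3))],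
  [(nat_lit 10, .ofNat (nat_lit 4)), (nat_lit 30, .ofNat (nat_lit 4)), (nat_lit 36, .ofNat (nat_lit 8)), (nat_lit 44, .ofNat (nat_lit 8))],
  [(nat_lit 12, .ofNat (nat_lit 4)), (nat_lit 13, .negSucc (nat_lit 3)), (nat_lit 14, .ofNat (nat_lit 4)), (nat_lit 15, .negSucc (nat_lit 3)), (nat_lit 32, .ofNat (nat_lit 4)), (nat_lit 33, .negSucc (nat_lit 3)), (nat_lit 34, .negSucc (nat_lit 3)), (nat_lit 35, .ofNat (nat_lit 4)), (nat_lit 37, .ofNat (nat_lit 4)), (nat_lit 39, .ofNat (nat_lit 4)), (nat_lit 41, .ofNat (nat_lit 4)), (nat_lit 43, .negSucc (nat_lit 3)), (nat_lit 45, .ofNat (nat_lit 4)), (nat_lit 47, .ofNat (nat_lit 4)), (nat_lit 49, .ofNat (nat_lit 4)), (nat_lit 51, .negSucc (nat_lit 3))],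
  [(nat_lit 11, .ofNat (nat_lit 4)), (nat_lit 31, .ofNat (nat_lit 4)), (nat_lit 38, .ofNat (nat_lit 8)), (nat_lit 46, .ofNat (nat_lit 8))],
  [(nat_lit 12, .ofNat (nat_lit 4)), (nat_lit 13, .negSucc (nat_lit 3)), (nat_lit 14, .negSucc (nat_lit 3)), (nat_lit 15, .ofNat (nat_lit 4)), (nat_lit 32, .ofNat (nat_lit 4)), (nat_lit 33, .negSucc (nat_lit 3)), (nat_lit 34, .ofNat (nat_lit 4)), (nat_lit 35, .negSucc (nat_lit 3)), (nat_lit 37, .ofNat (nat_lit 4)), (nat_lit 39, .ofNat (nat_lit 4)), (nat_lit 41, .negSucc (nat_lit 3)), (nat_lit 43, .ofNat (nat_lit 4)), (nat_lit 45, .ofNat (nat_lit 4)), (nat_lit 47, .ofNat (nat_lit 4)), (nat_lit 49, .negSucc (nat_lit 3)), (nat_lit 51, .ofNat (nat_lit 4))],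
  [(nat_lit 10, .ofNat (nat_lit 4)), (nat_lit 30, .negSucc (nat_lit 3)), (nat_lit 40, .ofNat (nat_lit 8)), (nat_lit 48, .ofNat (nat_lit 8))],
  [(nat_lit 12, .ofNat (nat_lit 4)), (nat_lit 13, .negSucc (nat_lit 3)), (nat_lit 14, .ofNat (nat_lit 4)), (nat_lit 15, .negSucc (nat_lit 3)), (nat_lit 32, .negSucc (nat_lit 3)), (nat_lit 33, .ofNat (nat_lit 4)), (nat_lit 34, .ofNat (nat_lit 4)), (nat_lit 35, .negSucc (nat_lit 3)), (nat_lit 37, .ofNat (nat_lit 4)), (nat_lit 39, .negSucc (nat_lit 3)), (nat_lit 41, .ofNat (nat_lit 4)), (nat_lit 43, .ofNat (nat_lit 4)), (nat_lit 45, .ofNat (nat_lit 4)), (nat_lit 47, .negSucc (nat_lit 3)), (nat_lit 49, .ofNat (nat_lit 4)), (nat_lit 51, .ofNat (nat_lit 4))],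
  [(nat_lit 11, .ofNat (nat_lit 4)), (nat_lit 31, .negSucc (nat_lit 3)), (nat_lit 42, .ofNat (nat_lit 8)), (nat_lit 50, .ofNat (nat_lit 8))],
  [(nat_lit 12, .ofNat (nat_lit 4)), (nat_lit 13, .negSucc (nat_lit 3)), (nat_lit 14, .negSucc (nat_lit 3)), (nat_lit 15, .ofNat (nat_lit 4)), (nat_lit 32, .negSucc (nat_lit 3)), (nat_lit 33, .ofNat (nat_lit 4)), (nat_lit 34, .negSucc (nat_lit 3)), (nat_lit 35, .ofNat (nat_lit 4)), (nat_lit 37, .negSucc (nat_lit 3)), (nat_lit 39, .ofNat (nat_lit 4)), (nat_lit 41, .ofNat (nat_lit 4)), (nat_lit 43, .ofNat (nat_lit 4)), (nat_lit 45, .negSucc (nat_lit 3)), (nat_lit 47, .ofNat (nat_lit 4)), (nat_lit 49, .ofNat (nat_lit 4)), (nat_lit 51, .ofNat (nat_lit 4))],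
  [(nat_lit 10, .negSucc (nat_lit 3)), (nat_lit 30, .negSucc (nat_lit 3)), (nat_lit 36, .ofNat (nat_lit 8)), (nat_lit 44, .ofNat (nat_lit 8))],
  [(nat_lit 12, .negSucc (nat_lit 3)), (nat_lit 13, .ofNat (nat_lit 4)), (nat_lit 14, .negSucc (nat_lit 3)), (nat_lit 15, .ofNat (nat_lit 4)), (nat_lit 32, .negSucc (nat_lit 3)), (nat_lit 33, .ofNat (nat_lit 4)), (nat_lit 34, .ofNat (nat_lit 4)), (nat_lit 35, .negSucc (nat_lit 3)), (nat_lit 37, .ofNat (nat_lit 4)), (nat_lit 39, .ofNat (nat_lit 4)), (nat_lit 41, .ofNat (nat_lit 4)), (nat_lit 43, .negSucc (nat_lit 3)), (nat_lit 45, .ofNat (nat_lit 4)), (nat_lit 47, .ofNat (nat_lit 4)), (nat_lit 49, .ofNat (nat_lit 4)), (nat_lit 51, .negSucc (nat_lit 3))],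
  [(nat_lit 11, .negSucc (nat_lit 3)), (nat_lit 31, .negSucc (nat_lit 3)), (nat_lit 38, .ofNat (nat_lit 8)), (nat_lit 46, .ofNat (nat_lit 8))],
  [(nat_lit 12, .negSucc (nat_lit 3)), (nat_lit 13, .ofNat (nat_lit 4)), (nat_lit 14, .ofNat (nat_lit 4)), (nat_lit 15, .negSucc (nat_lit 3)), (nat_lit 32, .negSucc (nat_lit 3)), (nat_lit 33, .ofNat (nat_lit 4)), (nat_lit 34, .negSucc (nat_lit 3)), (nat_lit 35, .ofNat (nat_lit 4)), (nat_lit 37, .ofNat (nat_lit 4)), (nat_lit 39, .ofNat (nat_lit 4)), (nat_lit 41, .negSucc (nat_lit 3)), (nat_lit 43, .ofNat (nat_lit 4)), (nat_lit 45, .ofNat (nat_lit 4)), (nat_lit 47, .ofNat (nat_lit 4)), (nat_lit 49, .negSucc (nat_lit 3)), (nat_lit 51, .ofNat (nat_lit 4))],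
  [(nat_lit 10, .negSucc (nat_lit 3)), (nat_lit 30, .ofNat (nat_lit 4)), (nat_lit 40, .ofNat (nat_lit 8)), (nat_lit 48, .ofNat (nat_lit 8))],
  [(nat_lit 12, .negSucc (nat_lit 3)), (nat_lit 13, .ofNat (nat_lit 4)), (nat_lit 14, .negSucc (nat_lit 3)), (nat_lit 15, .ofNat (nat_lit 4)), (nat_lit 32, .ofNat (nat_lit 4)), (nat_lit 33, .negSucc (nat_lit 3)), (nat_lit 34, .negSucc (nat_lit 3)), (nat_lit 35, .ofNat (nat_lit 4)), (nat_lit 37, .ofNat (nat_lit 4)), (nat_lit 39, .negSucc (nat_lit 3)), (nat_lit 41, .ofNat (nat_lit 4)), (nat_lit 43, .ofNat (nat_lit 4)), (nat_lit 45, .ofNat (nat_lit 4)), (nat_lit 47, .negSucc (nat_lit 3)), (nat_lit 49, .ofNat (nat_lit 4)), (nat_lit 51, .ofNat (nat_lit 4))],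
  [(nat_lit 11, .negSucc (nat_lit 3)), (nat_lit 31, .ofNat (nat_lit 4)), (nat_lit 42, .ofNat (nat_lit 8)), (nat_lit 50, .ofNat (nat_lit 8))],
  [(nat_lit 12, .negSucc (nat_lit 3)), (nat_lit 13, .ofNat (nat_lit 4)), (nat_lit 14, .ofNat (nat_lit 4)), (nat_lit 15, .negSucc (nat_lit 3)), (nat_lit 32, .ofNat (nat_lit 4)), (nat_lit 33, .negSucc (nat_lit 3)), (nat_lit 34, .ofNat (nat_lit 4)), (nat_lit 35, .negSucc (nat_lit 3)), (nat_lit 37, .negSucc (nat_lit 3)), (nat_lit 39, .ofNat (nat_lit 4)), (nat_lit 41, .ofNat (nat_lit 4)), (nat_lit 43, .ofNat (nat_lit 4)), (nat_lit 45, .negSucc (nat_lit 3)), (nat_lit 47, .ofNat (nat_lit 4)), (nat_lit 49, .ofNat (nat_lit 4)), (nat_lit 51, .ofNat (nat_lit 4))]]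

/-- The matrix of the root 12, times sixteen. -/
def mat12 : List (List (Nat × Int)) := [
  [(nat_lit 0, .ofNat (nat_lit 16))],
  [(nat_lit 1, .ofNat (nat_lit 16))],
  [(nat_lit 2, .ofNat (nat_lit 16))],
  [(nat_lit 3, .ofNat (nat_lit 16))],
  [(nat_lit 4, .ofNat (nat_lit 16))],
  [(nat_lit 5, .ofNat (nat_lit 16))],
  [(nat_lit 7, .ofNat (nat_lit 16))],
  [(nat_lit 6, .ofNat (nat_lit 16))],
  [(nat_lit 9, .ofNat (nat_lit 16))],
  [(nat_lit 8, .ofNat (nat_lit 16))],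
  [(nat_lit 11, .ofNat (nat_lit 16))],
  [(nat_lit 10, .ofNat (nat_lit 16))],
  [(nat_lit 12, .ofNat (nat_lit 16))],
  [(nat_lit 13, .ofNat (nat_lit 16))],
  [(nat_lit 15, .ofNat (nat_lit 16))],
  [(nat_lit 14, .ofNat (nat_lit 16))],
  [(nat_lit 16, .ofNat (nat_lit 16))],
  [(nat_lit 17, .ofNat (nat_lit 16))],
  [(nat_lit 18, .ofNat (nat_lit 16))],
  [(nat_lit 19, .ofNat (nat_lit 16))],
  [(nat_lit 20, .ofNat (nat_lit 16))],
  [(nat_lit 21, .ofNat (nat_lit 16))],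
  [(nat_lit 22, .ofNat (nat_lit 16))],
  [(nat_lit 23, .ofNat (nat_lit 16))],
  [(nat_lit 24, .ofNat (nat_lit 16))],
  [(nat_lit 25, .ofNat (nat_lit 16))],
  [(nat_lit 27, .ofNat (nat_lit 16))],
  [(nat_lit 26, .ofNat (nat_lit 16))],
  [(nat_lit 29, .ofNat (nat_lit 16))],
  [(nat_lit 28, .ofNat (nat_lit 16))],
  [(nat_lit 31, .ofNat (nat_lit 16))],
  [(nat_lit 30, .ofNat (nat_lit 16))],
  [(nat_lit 32, .ofNat (nat_lit 16))],
  [(nat_lit 33, .ofNat (nat_lit 16))],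
  [(nat_lit 35, .ofNat (nat_lit 16))],
  [(nat_lit 34, .ofNat (nat_lit 16))],
  [(nat_lit 38, .ofNat (nat_lit 16))],
  [(nat_lit 39, .ofNat (nat_lit 16))],
  [(nat_lit 36, .ofNat (nat_lit 16))],
  [(nat_lit 37, .ofNat (nat_lit 16))],
  [(nat_lit 42, .ofNat (nat_lit 16))],
  [(nat_lit 43, .ofNat (nat_lit 16))],
  [(nat_lit 40, .ofNat (nat_lit 16))],
  [(nat_lit 41, .ofNat (nat_lit 16))],
  [(nat_lit 46, .ofNat (nat_lit 16))],
  [(nat_lit 47, .ofNat (nat_lit 16))],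
  [(nat_lit 44, .ofNat (nat_lit 16))],
  [(nat_lit 45, .ofNat (nat_lit 16))],
  [(nat_lit 50, .ofNat (nat_lit 16))],
  [(nat_lit 51, .ofNat (nat_lit 16))],
  [(nat_lit 48, .ofNat (nat_lit 16))],
  [(nat_lit 49, .ofNat (nat_lit 16))]]

/-- The matrix of the root 13, times sixteen. -/
def mat13 : List (List (Nat × Int)) := [
  [(nat_lit 0, .ofNat (nat_lit 16))],
  [(nat_lit 1, .ofNat (nat_lit 16))],
  [(nat_lit 2, .ofNat (nat_lit 16))],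
  [(nat_lit 3, .ofNat (nat_lit 16))],
  [(nat_lit 4, .ofNat (nat_lit 16))],
  [(nat_lit 5, .ofNat (nat_lit 16))],
  [(nat_lit 6, .ofNat (nat_lit 16))],
  [(nat_lit 7, .ofNat (nat_lit 16))],
  [(nat_lit 8, .ofNat (nat_lit 16))],
  [(nat_lit 9, .ofNat (nat_lit 16))],
  [(nat_lit 10, .ofNat (nat_lit 16))],
  [(nat_lit 11, .ofNat (nat_lit 16))],
  [(nat_lit 12, .ofNat (nat_lit 16))],
  [(nat_lit 13, .ofNat (nat_lit 16))],
  [(nat_lit 14, .ofNat (nat_lit 16))],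
  [(nat_lit 15, .ofNat (nat_lit 16))],
  [(nat_lit 16, .ofNat (nat_lit 16))],
  [(nat_lit 17, .ofNat (nat_lit 16))],
  [(nat_lit 18, .ofNat (nat_lit 16))],
  [(nat_lit 19, .ofNat (nat_lit 16))],
  [(nat_lit 20, .negSucc (nat_lit 15))],
  [(nat_lit 21, .negSucc (nat_lit 15))],
  [(nat_lit 23, .ofNat (nat_lit 16))],
  [(nat_lit 22, .ofNat (nat_lit 16))],
  [(nat_lit 25, .ofNat (nat_lit 16))],
  [(nat_lit 24, .ofNat (nat_lit 16))],
  [(nat_lit 26, .ofNat (nat_lit 16))],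
  [(nat_lit 27, .ofNat (nat_lit 16))],
  [(nat_lit 28, .ofNat (nat_lit 16))],
  [(nat_lit 29, .ofNat (nat_lit 16))],
  [(nat_lit 30, .negSucc (nat_lit 15))],
  [(nat_lit 31, .negSucc (nat_lit 15))],
  [(nat_lit 33, .ofNat (nat_lit 16))],
  [(nat_lit 32, .ofNat (nat_lit 16))],
  [(nat_lit 35, .ofNat (nat_lit 16))],
  [(nat_lit 34, .ofNat (nat_lit 16))],
  [(nat_lit 40, .ofNat (nat_lit 16))],
  [(nat_lit 41, .ofNat (nat_lit 16))],
  [(nat_lit 42, .ofNat (nat_lit 16))],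
  [(nat_lit 43, .ofNat (nat_lit 16))],
  [(nat_lit 36, .ofNat (nat_lit 16))],
  [(nat_lit 37, .ofNat (nat_lit 16))],
  [(nat_lit 38, .ofNat (nat_lit 16))],
  [(nat_lit 39, .ofNat (nat_lit 16))],
  [(nat_lit 48, .ofNat (nat_lit 16))],
  [(nat_lit 49, .ofNat (nat_lit 16))],
  [(nat_lit 50, .ofNat (nat_lit 16))],
  [(nat_lit 51, .ofNat (nat_lit 16))],
  [(nat_lit 44, .ofNat (nat_lit 16))],
  [(nat_lit 45, .ofNat (nat_lit 16))],
  [(nat_lit 46, .ofNat (nat_lit 16))],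
  [(nat_lit 47, .ofNat (nat_lit 16))]]

/-- The matrix of the root 14, times sixteen. -/
def mat14 : List (List (Nat × Int)) := [
  [(nat_lit 0, .ofNat (nat_lit 16))],
  [(nat_lit 1, .ofNat (nat_lit 16))],
  [(nat_lit 2, .ofNat (nat_lit 16))],
  [(nat_lit 3, .ofNat (nat_lit 16))],
  [(nat_lit 4, .ofNat (nat_lit 16))],
  [(nat_lit 5, .ofNat (nat_lit 16))],
  [(nat_lit 6, .ofNat (nat_lit 16))],
  [(nat_lit 7, .ofNat (nat_lit 16))],
  [(nat_lit 8, .ofNat (nat_lit 16))],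
  [(nat_lit 9, .ofNat (nat_lit 16))],
  [(nat_lit 10, .negSucc (nat_lit 15))],
  [(nat_lit 11, .negSucc (nat_lit 15))],
  [(nat_lit 13, .ofNat (nat_lit 16))],
  [(nat_lit 12, .ofNat (nat_lit 16))],
  [(nat_lit 15, .ofNat (nat_lit 16))],
  [(nat_lit 14, .ofNat (nat_lit 16))],
  [(nat_lit 16, .ofNat (nat_lit 16))],
  [(nat_lit 17, .ofNat (nat_lit 16))],
  [(nat_lit 18, .ofNat (nat_lit 16))],
  [(nat_lit 19, .ofNat (nat_lit 16))],
  [(nat_lit 20, .ofNat (nat_lit 16))],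
  [(nat_lit 21, .ofNat (nat_lit 16))],
  [(nat_lit 22, .ofNat (nat_lit 16))],
  [(nat_lit 23, .ofNat (nat_lit 16))],
  [(nat_lit 24, .ofNat (nat_lit 16))],
  [(nat_lit 25, .ofNat (nat_lit 16))],
  [(nat_lit 26, .ofNat (nat_lit 16))],
  [(nat_lit 27, .ofNat (nat_lit 16))],
  [(nat_lit 28, .ofNat (nat_lit 16))],
  [(nat_lit 29, .ofNat (nat_lit 16))],
  [(nat_lit 30, .negSucc (nat_lit 15))],
  [(nat_lit 31, .negSucc (nat_lit 15))],
  [(nat_lit 33, .ofNat (nat_lit 16))],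
  [(nat_lit 32, .ofNat (nat_lit 16))],
  [(nat_lit 35, .ofNat (nat_lit 16))],
  [(nat_lit 34, .ofNat (nat_lit 16))],
  [(nat_lit 44, .ofNat (nat_lit 16))],
  [(nat_lit 45, .ofNat (nat_lit 16))],
  [(nat_lit 46, .ofNat (nat_lit 16))],
  [(nat_lit 47, .ofNat (nat_lit 16))],
  [(nat_lit 48, .ofNat (nat_lit 16))],
  [(nat_lit 49, .ofNat (nat_lit 16))],
  [(nat_lit 50, .ofNat (nat_lit 16))],
  [(nat_lit 51, .ofNat (nat_lit 16))],
  [(nat_lit 36, .ofNat (nat_lit 16))],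
  [(nat_lit 37, .ofNat (nat_lit 16))],
  [(nat_lit 38, .ofNat (nat_lit 16))],
  [(nat_lit 39, .ofNat (nat_lit 16))],
  [(nat_lit 40, .ofNat (nat_lit 16))],
  [(nat_lit 41, .ofNat (nat_lit 16))],
  [(nat_lit 42, .ofNat (nat_lit 16))],
  [(nat_lit 43, .ofNat (nat_lit 16))]]

/-- The matrix of the root 15, times sixteen. -/
def mat15 : List (List (Nat × Int)) := [
  [(nat_lit 0, .negSucc (nat_lit 5)), (nat_lit 1, .ofNat (nat_lit 8)), (nat_lit 2, .negSucc (nat_lit 1)), (nat_lit 4, .ofNat (nat_lit 6)), (nat_lit 5, .ofNat (nat_lit 2)), (nat_lit 6, .negSucc (nat_lit 1)), (nat_lit 7, .negSucc (nat_lit 1)), (nat_lit 10, .ofNat (nat_lit 2)), (nat_lit 11, .ofNat (nat_lit 2)), (nat_lit 12, .negSucc (nat_lit 7)), (nat_lit 16, .negSucc (nat_lit 1)), (nat_lit 17, .negSucc (nat_lit 1)), (nat_lit 20, .ofNat (nat_lit 2)), (nat_lit 21, .ofNat (nat_lit 2)), (nat_lit 22, .negSucc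 (nat_lit 7)), (nat_lit 26, .negSucc (nat_lit 1)), (nat_lit 27, .negSucc (nat_lit 1)), (nat_lit 30, .ofNat (nat_lit 2)), (nat_lit 31, .ofNat (nat_lit 2)), (nat_lit 32, .negSucc (nat_lit 7)), (nat_lit 36, .negSucc (nat_lit 7)), (nat_lit 37, .negSucc (nat_lit 7)), (nat_lit 38, .negSucc (nat_lit 7)), (nat_lit 39, .negSucc (nat_lit 7))],
  [(nat_lit 0, .ofNat (nat_lit 2)), (nat_lit 2, .negSucc (nat_lit 1)), (nat_lit 4, .ofNat (nat_lit 2)), (nat_lit 5, .negSucc (nat_lit 1)), (nat_lit 6, .negSucc (nat_lit 1)), (nat_lit 7, .negSucc (nat_lit 1)), (nat_lit 10, .negSucc (nat_lit 1)), (nat_lit 11, .negSucc (nat_lit 1)), (nat_lit 16, .negSucc (nat_lit 1)), (nat_lit 17, .negSucc (nat_lit 1)), (nat_lit 20, .negSucc (nat_lit 1)), (nat_lit 21, .negSucc (nat_lit 1)), (nat_lit 26, .negSucc (nat_lit 1)), (nat_lit 27, .negSucc (nat_lit 1)), (nat_lit 30, .negSucc (nat_lit 1)), (nat_lit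 31, .negSucc (nat_lit 1))],
  [(nat_lit 0, .negSucc (nat_lit 1)), (nat_lit 1, .negSucc (nat_lit 7)), (nat_lit 2, .negSucc (nat_lit 5)), (nat_lit 4, .ofNat (nat_lit 2)), (nat_lit 5, .ofNat (nat_lit 6)), (nat_lit 6, .ofNat (nat_lit 2)), (nat_lit 7, .ofNat (nat_lit 2)), (nat_lit 10, .negSucc (nat_lit 1)), (nat_lit 11, .negSucc (nat_lit 1)), (nat_lit 12, .ofNat (nat_lit 8)), (nat_lit 16, .ofNat (nat_lit 2)), (nat_lit 17, .ofNat (nat_lit 2)), (nat_lit 20, .negSucc (nat_lit 1)), (nat_lit 21, .negSucc (nat_lit 1)), (nat_lit 22, .ofNat (nat_lit 8)), (nat_lit 26, .ofNat (nat_lit 2)), (nat_lit 27, .ofNat (nat_lit 2)), (nat_lit 30, .negSucc (nat_lit 1)), (nat_lit 31, .negSucc (nat_lit 1)), (nat_lit 32, .ofNat (nat_lit 8)), (nat_lit 36, .negSucc (nat_lit 7)), (nat_lit 37, .negSucc (nat_lit 7)), (nat_lit 38, .negSucc (nat_lit 7)), (nat_lit 39, .negSucc (nat_lit 7))],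
  [(nat_lit 3, .negSucc (nat_lit 7)), (nat_lit 13, .ofNat (nat_lit 8)), (nat_lit 23, .ofNat (nat_lit 8)), (nat_lit 33, .ofNat (nat_lit 8))],
  [(nat_lit 0, .ofNat (nat_lit 6)), (nat_lit 1, .ofNat (nat_lit 8)), (nat_lit 2, .ofNat (nat_lit 2)), (nat_lit 4, .negSucc (nat_lit 5)), (nat_lit 5, .negSucc (nat_lit 1)), (nat_lit 6, .ofNat (nat_lit 2)), (nat_lit 7, .ofNat (nat_lit 2)), (nat_lit 10, .negSucc (nat_lit 1)), (nat_lit 11, .negSucc (nat_lit 1)), (nat_lit 12, .negSucc (nat_lit 7)), (nat_lit 16, .ofNat (nat_lit 2)), (nat_lit 17, .ofNat (nat_lit 2)), (nat_lit 20, .negSucc (nat_lit 1)), (nat_lit 21, .negSucc (nat_lit 1)), (nat_lit 22, .negSucc (nat_lit 7)), (nat_lit 26, .ofNat (nat_lit 2)), (nat_lit 27, .ofNat (nat_lit 2)), (nat_lit 30, .negSucc (nat_lit 1)), (nat_lit 31, .negSucc (nat_lit 1)), (nat_lit 32, .negSucc (nat_lit 7)), (nat_lit 36, .negSucc (nat_lit 7)),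 (nat_lit 37, .negSucc (nat_lit 7)), (nat_lit 38, .negSucc (nat_lit 7)), (nat_lit 39, .negSucc (nat_lit 7))],
  [(nat_lit 0, .ofNat (nat_lit 2)), (nat_lit 1, .negSucc (nat_lit 7)), (nat_lit 2, .ofNat (nat_lit 6)), (nat_lit 4, .negSucc (nat_lit 1)), (nat_lit 5, .negSucc (nat_lit 5)), (nat_lit 6, .negSucc (nat_lit 1)), (nat_lit 7, .negSucc (nat_lit 1)), (nat_lit 10, .ofNat (nat_lit 2)), (nat_lit 11, .ofNat (nat_lit 2)), (nat_lit 12, .ofNat (nat_lit 8)), (nat_lit 16, .negSucc (nat_lit 1)), (nat_lit 17, .negSucc (nat_lit 1)), (nat_lit 20, .ofNat (nat_lit 2)), (nat_lit 21, .ofNat (nat_lit 2)), (nat_lit 22, .ofNat (nat_lit 8)), (nat_lit 26, .negSucc (nat_lit 1)), (nat_lit 27, .negSucc (nat_lit 1)), (nat_lit 30, .ofNat (nat_lit 2)), (nat_lit 31, .ofNat (nat_lit 2)), (nat_lit 32, .ofNat (nat_lit 8)), (nat_lit 36, .negSucc (nat_lit 7)), (nat_lit 37, .negSucc (nat_lit 7)),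 (nat_lit 38, .negSucc (nat_lit 7)), (nat_lit 39, .negSucc (nat_lit 7))],
  [(nat_lit 0, .negSucc (nat_lit 1)), (nat_lit 1, .negSucc (nat_lit 7)), (nat_lit 2, .ofNat (nat_lit 2)), (nat_lit 4, .ofNat (nat_lit 2)), (nat_lit 5, .negSucc (nat_lit 1)), (nat_lit 6, .negSucc (nat_lit 5)), (nat_lit 7, .ofNat (nat_lit 2)), (nat_lit 10, .ofNat (nat_lit 6)), (nat_lit 11, .negSucc (nat_lit 1)), (nat_lit 12, .ofNat (nat_lit 8)), (nat_lit 16, .ofNat (nat_lit 2)), (nat_lit 17, .ofNat (nat_lit 2)), (nat_lit 20, .negSucc (nat_lit 1)), (nat_lit 21, .negSucc (nat_lit 1)), (nat_lit 22, .negSucc (nat_lit 7)), (nat_lit 26, .ofNat (nat_lit 2)), (nat_lit 27, .ofNat (nat_lit 2)), (nat_lit 30, .negSucc (nat_lit 1)), (nat_lit 31, .negSucc (nat_lit 1)), (nat_lit 32, .negSucc (nat_lit 7)), (nat_lit 36, .ofNat (nat_lit 8)), (nat_lit 37, .ofNat (nat_lit 8)), (nat_lit 38, .negSucc (nat_lit 7)),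 (nat_lit 39, .negSucc (nat_lit 7))],
  [(nat_lit 0, .negSucc (nat_lit 1)), (nat_lit 1, .negSucc (nat_lit 7)), (nat_lit 2, .ofNat (nat_lit 2)), (nat_lit 4, .ofNat (nat_lit 2)), (nat_lit 5, .negSucc (nat_lit 1)), (nat_lit 6, .ofNat (nat_lit 2)), (nat_lit 7, .negSucc (nat_lit 5)), (nat_lit 10, .negSucc (nat_lit 1)), (nat_lit 11, .ofNat (nat_lit 6)), (nat_lit 12, .ofNat (nat_lit 8)), (nat_lit 16, .ofNat (nat_lit 2)), (nat_lit 17, .ofNat (nat_lit 2)), (nat_lit 20, .negSucc (nat_lit 1)), (nat_lit 21, .negSucc (nat_lit 1)), (nat_lit 22, .negSucc (nat_lit 7)), (nat_lit 26, .ofNat (nat_lit 2)), (nat_lit 27, .ofNat (nat_lit 2)), (nat_lit 30, .negSucc (nat_lit 1)), (nat_lit 31, .negSucc (nat_lit 1)), (nat_lit 32, .negSucc (nat_lit 7)), (nat_lit 36, .negSucc (nat_lit 7)), (nat_lit 37, .negSucc (nat_lit 7)), (nat_lit 38, .ofNat (nat_lit 8)), (nat_lit 39, .ofNat (nat_lit 8))],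
  [(nat_lit 8, .negSucc (nat_lit 7)), (nat_lit 14, .ofNat (nat_lit 8)), (nat_lit 40, .ofNat (nat_lit 8)), (nat_lit 41, .ofNat (nat_lit 8))],
  [(nat_lit 9, .negSucc (nat_lit 7)), (nat_lit 15, .ofNat (nat_lit 8)), (nat_lit 42, .ofNat (nat_lit 8)), (nat_lit 43, .ofNat (nat_lit 8))],
  [(nat_lit 0, .ofNat (nat_lit 2)), (nat_lit 1, .negSucc (nat_lit 7)), (nat_lit 2, .negSucc (nat_lit 1)), (nat_lit 4, .negSucc (nat_lit 1)), (nat_lit 5, .ofNat (nat_lit 2)), (nat_lit 6, .ofNat (nat_lit 6)), (nat_lit 7, .negSucc (nat_lit 1)), (nat_lit 10, .negSucc (nat_lit 5)), (nat_lit 11, .ofNat (nat_lit 2)), (nat_lit 12, .ofNat (nat_lit 8)), (nat_lit 16, .negSucc (nat_lit 1)), (nat_lit 17, .negSucc (nat_lit 1)), (nat_lit 20, .ofNat (nat_lit 2)), (nat_lit 21, .ofNat (nat_lit 2)), (nat_lit 22, .negSucc (nat_lit 7)), (nat_lit 26, .negSucc (nat_lit 1)), (nat_lit 27, .negSucc (nat_lit 1)),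 (nat_lit 30, .ofNat (nat_lit 2)), (nat_lit 31, .ofNat (nat_lit 2)), (nat_lit 32, .negSucc (nat_lit 7)), (nat_lit 36, .ofNat (nat_lit 8)), (nat_lit 37, .ofNat (nat_lit 8)), (nat_lit 38, .negSucc (nat_lit 7)), (nat_lit 39, .negSucc (nat_lit 7))],
  [(nat_lit 0, .ofNat (nat_lit 2)), (nat_lit 1, .negSucc (nat_lit 7)), (nat_lit 2, .negSucc (nat_lit 1)), (nat_lit 4, .negSucc (nat_lit 1)), (nat_lit 5, .ofNat (nat_lit 2)), (nat_lit 6, .negSucc (nat_lit 1)), (nat_lit 7, .ofNat (nat_lit 6)), (nat_lit 10, .ofNat (nat_lit 2)), (nat_lit 11, .negSucc (nat_lit 5)), (nat_lit 12, .ofNat (nat_lit 8)), (nat_lit 16, .negSucc (nat_lit 1)), (nat_lit 17, .negSucc (nat_lit 1)), (nat_lit 20, .ofNat (nat_lit 2)), (nat_lit 21, .ofNat (nat_lit 2)), (nat_lit 22, .negSucc (nat_lit 7)), (nat_lit 26, .negSucc (nat_lit 1)), (nat_lit 27, .negSucc (nat_lit 1)), (nat_lit 30, .ofNat (nat_lit 2)),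 (nat_lit 31, .ofNat (nat_lit 2)), (nat_lit 32, .negSucc (nat_lit 7)), (nat_lit 36, .negSucc (nat_lit 7)), (nat_lit 37, .negSucc (nat_lit 7)), (nat_lit 38, .ofNat (nat_lit 8)), (nat_lit 39, .ofNat (nat_lit 8))],
  [(nat_lit 0, .negSucc (nat_lit 1)), (nat_lit 2, .ofNat (nat_lit 2)), (nat_lit 4, .negSucc (nat_lit 1)), (nat_lit 5, .ofNat (nat_lit 2)), (nat_lit 6, .ofNat (nat_lit 2)), (nat_lit 7, .ofNat (nat_lit 2)), (nat_lit 10, .ofNat (nat_lit 2)), (nat_lit 11, .ofNat (nat_lit 2)), (nat_lit 16, .negSucc (nat_lit 1)), (nat_lit 17, .negSucc (nat_lit 1)), (nat_lit 20, .negSucc (nat_lit 1)), (nat_lit 21, .negSucc (nat_lit 1)), (nat_lit 26, .negSucc (nat_lit 1)), (nat_lit 27, .negSucc (nat_lit 1)), (nat_lit 30, .negSucc (nat_lit 1)), (nat_lit 31, .negSucc (nat_lit 1))],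
  [(nat_lit 3, .ofNat (nat_lit 8)), (nat_lit 13, .negSucc (nat_lit 7)), (nat_lit 23, .ofNat (nat_lit 8)), (nat_lit 33, .ofNat (nat_lit 8))],
  [(nat_lit 8, .ofNat (nat_lit 8)), (nat_lit 14, .negSucc (nat_lit 7)), (nat_lit 40, .ofNat (nat_lit 8)), (nat_lit 41, .ofNat (nat_lit 8))],
  [(nat_lit 9, .ofNat (nat_lit 8)), (nat_lit 15, .negSucc (nat_lit 7)), (nat_lit 42, .ofNat (nat_lit 8)), (nat_lit 43, .ofNat (nat_lit 8))],
  [(nat_lit 0, .negSucc (nat_lit 1)), (nat_lit 1, .negSucc (nat_lit 7)), (nat_lit 2, .ofNat (nat_lit 2)), (nat_lit 4, .ofNat (nat_lit 2)), (nat_lit 5, .negSucc (nat_lit 1)), (nat_lit 6, .ofNat (nat_lit 2)), (nat_lit 7, .ofNat (nat_lit 2)), (nat_lit 10, .negSucc (nat_lit 1)), (nat_lit 11, .negSucc (nat_lit 1)), (nat_lit 12, .negSucc (nat_lit 7)), (nat_lit 16, .negSucc (nat_lit 5)), (nat_lit 17, .ofNat (nat_lit 2)), (nat_lit 20, .ofNat (nat_lit 6)),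 (nat_lit 21, .negSucc (nat_lit 1)), (nat_lit 22, .ofNat (nat_lit 8)), (nat_lit 26, .ofNat (nat_lit 2)), (nat_lit 27, .ofNat (nat_lit 2)), (nat_lit 30, .negSucc (nat_lit 1)), (nat_lit 31, .negSucc (nat_lit 1)), (nat_lit 32, .negSucc (nat_lit 7)), (nat_lit 36, .ofNat (nat_lit 8)), (nat_lit 37, .negSucc (nat_lit 7)), (nat_lit 38, .ofNat (nat_lit 8)), (nat_lit 39, .negSucc (nat_lit 7))],
  [(nat_lit 0, .negSucc (nat_lit 1)), (nat_lit 1, .negSucc (nat_lit 7)), (nat_lit 2, .ofNat (nat_lit 2)), (nat_lit 4, .ofNat (nat_lit 2)), (nat_lit 5, .negSucc (nat_lit 1)), (nat_lit 6, .ofNat (nat_lit 2)), (nat_lit 7, .ofNat (nat_lit 2)), (nat_lit 10, .negSucc (nat_lit 1)), (nat_lit 11, .negSucc (nat_lit 1)), (nat_lit 12, .negSucc (nat_lit 7)), (nat_lit 16, .ofNat (nat_lit 2)), (nat_lit 17, .negSucc (nat_lit 5)), (nat_lit 20, .negSucc (nat_lit 1)), (nat_lit 21, .ofNat (nat_lit 6)),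 (nat_lit 22, .ofNat (nat_lit 8)), (nat_lit 26, .ofNat (nat_lit 2)), (nat_lit 27, .ofNat (nat_lit 2)), (nat_lit 30, .negSucc (nat_lit 1)), (nat_lit 31, .negSucc (nat_lit 1)), (nat_lit 32, .negSucc (nat_lit 7)), (nat_lit 36, .negSucc (nat_lit 7)), (nat_lit 37, .ofNat (nat_lit 8)), (nat_lit 38, .negSucc (nat_lit 7)), (nat_lit 39, .ofNat (nat_lit 8))],
  [(nat_lit 18, .negSucc (nat_lit 7)), (nat_lit 24, .ofNat (nat_lit 8)), (nat_lit 44, .ofNat (nat_lit 8)), (nat_lit 46, .ofNat (nat_lit 8))],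
  [(nat_lit 19, .negSucc (nat_lit 7)), (nat_lit 25, .ofNat (nat_lit 8)), (nat_lit 45, .ofNat (nat_lit 8)), (nat_lit 47, .ofNat (nat_lit 8))],
  [(nat_lit 0, .ofNat (nat_lit 2)), (nat_lit 1, .negSucc (nat_lit 7)), (nat_lit 2, .negSucc (nat_lit 1)), (nat_lit 4, .negSucc (nat_lit 1)), (nat_lit 5, .ofNat (nat_lit 2)), (nat_lit 6, .negSucc (nat_lit 1)), (nat_lit 7, .negSucc (nat_lit 1)), (nat_lit 10, .ofNat (nat_lit 2)), (nat_lit 11, .ofNat (nat_lit 2)), (nat_lit 12, .negSucc (nat_lit 7)), (nat_lit 16, .ofNat (nat_lit 6)), (nat_lit 17, .negSucc (nat_lit 1)), (nat_lit 20, .negSucc (nat_lit 5)), (nat_lit 21, .ofNat (nat_lit 2)), (nat_lit 22, .ofNat (nat_lit 8)), (nat_lit 26, .negSucc (nat_lit 1)), (nat_lit 27, .negSucc (nat_lit 1)), (nat_lit 30, .ofNat (nat_lit 2)), (nat_lit 31, .ofNat (nat_lit 2)), (nat_lit 32, .negSucc (nat_lit 7)), (nat_lit 36, .ofNat (nat_lit 8)),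 (nat_lit 37, .negSucc (nat_lit 7)), (nat_lit 38, .ofNat (nat_lit 8)), (nat_lit 39, .negSucc (nat_lit 7))],
  [(nat_lit 0, .ofNat (nat_lit 2)), (nat_lit 1, .negSucc (nat_lit 7)), (nat_lit 2, .negSucc (nat_lit 1)), (nat_lit 4, .negSucc (nat_lit 1)), (nat_lit 5, .ofNat (nat_lit 2)), (nat_lit 6, .negSucc (nat_lit 1)), (nat_lit 7, .negSucc (nat_lit 1)), (nat_lit 10, .ofNat (nat_lit 2)), (nat_lit 11, .ofNat (nat_lit 2)), (nat_lit 12, .negSucc (nat_lit 7)), (nat_lit 16, .negSucc (nat_lit 1)), (nat_lit 17, .ofNat (nat_lit 6)), (nat_lit 20, .ofNat (nat_lit 2)), (nat_lit 21, .negSucc (nat_lit 5)), (nat_lit 22, .ofNat (nat_lit 8)), (nat_lit 26, .negSucc (nat_lit 1)), (nat_lit 27, .negSucc (nat_lit 1)), (nat_lit 30, .ofNat (nat_lit 2)), (nat_lit 31, .ofNat (nat_lit 2)), (nat_lit 32, .negSucc (nat_lit 7)), (nat_lit 36, .negSucc (nat_lit 7)), (nat_lit 37, .ofNat (nat_lit 8)),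 (nat_lit 38, .negSucc (nat_lit 7)), (nat_lit 39, .ofNat (nat_lit 8))],
  [(nat_lit 0, .negSucc (nat_lit 1)), (nat_lit 2, .ofNat (nat_lit 2)), (nat_lit 4, .negSucc (nat_lit 1)), (nat_lit 5, .ofNat (nat_lit 2)), (nat_lit 6, .negSucc (nat_lit 1)), (nat_lit 7, .negSucc (nat_lit 1)), (nat_lit 10, .negSucc (nat_lit 1)), (nat_lit 11, .negSucc (nat_lit 1)), (nat_lit 16, .ofNat (nat_lit 2)), (nat_lit 17, .ofNat (nat_lit 2)), (nat_lit 20, .ofNat (nat_lit 2)), (nat_lit 21, .ofNat (nat_lit 2)), (nat_lit 26, .negSucc (nat_lit 1)), (nat_lit 27, .negSucc (nat_lit 1)), (nat_lit 30, .negSucc (nat_lit 1)), (nat_lit 31, .negSucc (nat_lit 1))],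
  [(nat_lit 3, .ofNat (nat_lit 8)), (nat_lit 13, .ofNat (nat_lit 8)), (nat_lit 23, .negSucc (nat_lit 7)), (nat_lit 33, .ofNat (nat_lit 8))],
  [(nat_lit 18, .ofNat (nat_lit 8)), (nat_lit 24, .negSucc (nat_lit 7)), (nat_lit 44, .ofNat (nat_lit 8)), (nat_lit 46, .ofNat (nat_lit 8))],
  [(nat_lit 19, .ofNat (nat_lit 8)), (nat_lit 25, .negSucc (nat_lit 7)), (nat_lit 45, .ofNat (nat_lit 8)), (nat_lit 47, .ofNat (nat_lit 8))],
  [(nat_lit 0, .negSucc (nat_lit 1)), (nat_lit 1, .negSucc (nat_lit 7)), (nat_lit 2, .ofNat (nat_lit 2)), (nat_lit 4, .ofNat (nat_lit 2)), (nat_lit 5, .negSucc (nat_lit 1)), (nat_lit 6, .ofNat (nat_lit 2)), (nat_lit 7, .ofNat (nat_lit 2)), (nat_lit 10, .negSucc (nat_lit 1)), (nat_lit 11, .negSucc (nat_lit 1)), (nat_lit 12, .negSucc (nat_lit 7)), (nat_lit 16, .ofNat (nat_lit 2)), (nat_lit 17, .ofNat (nat_lit 2)), (nat_lit 20, .negSucc (nat_lit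 1)), (nat_lit 21, .negSucc (nat_lit 1)), (nat_lit 22, .negSucc (nat_lit 7)), (nat_lit 26, .negSucc (nat_lit 5)), (nat_lit 27, .ofNat (nat_lit 2)), (nat_lit 30, .ofNat (nat_lit 6)), (nat_lit 31, .negSucc (nat_lit 1)), (nat_lit 32, .ofNat (nat_lit 8)), (nat_lit 36, .ofNat (nat_lit 8)), (nat_lit 37, .negSucc (nat_lit 7)), (nat_lit 38, .negSucc (nat_lit 7)), (nat_lit 39, .ofNat (nat_lit 8))],
  [(nat_lit 0, .negSucc (nat_lit 1)), (nat_lit 1, .negSucc (nat_lit 7)), (nat_lit 2, .ofNat (nat_lit 2)), (nat_lit 4, .ofNat (nat_lit 2)), (nat_lit 5, .negSucc (nat_lit 1)), (nat_lit 6, .ofNat (nat_lit 2)), (nat_lit 7, .ofNat (nat_lit 2)), (nat_lit 10, .negSucc (nat_lit 1)), (nat_lit 11, .negSucc (nat_lit 1)), (nat_lit 12, .negSucc (nat_lit 7)), (nat_lit 16, .ofNat (nat_lit 2)), (nat_lit 17, .ofNat (nat_lit 2)), (nat_lit 20, .negSucc (nat_lit 1)), (nat_lit 21, .negSucc (nat_lit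 1)), (nat_lit 22, .negSucc (nat_lit 7)), (nat_lit 26, .ofNat (nat_lit 2)), (nat_lit 27, .negSucc (nat_lit 5)), (nat_lit 30, .negSucc (nat_lit 1)), (nat_lit 31, .ofNat (nat_lit 6)), (nat_lit 32, .ofNat (nat_lit 8)), (nat_lit 36, .negSucc (nat_lit 7)), (nat_lit 37, .ofNat (nat_lit 8)), (nat_lit 38, .ofNat (nat_lit 8)), (nat_lit 39, .negSucc (nat_lit 7))],
  [(nat_lit 28, .negSucc (nat_lit 7)), (nat_lit 34, .ofNat (nat_lit 8)), (nat_lit 48, .ofNat (nat_lit 8)), (nat_lit 51, .ofNat (nat_lit 8))],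
  [(nat_lit 29, .negSucc (nat_lit 7)), (nat_lit 35, .ofNat (nat_lit 8)), (nat_lit 49, .ofNat (nat_lit 8)), (nat_lit 50, .ofNat (nat_lit 8))],
  [(nat_lit 0, .ofNat (nat_lit 2)), (nat_lit 1, .negSucc (nat_lit 7)), (nat_lit 2, .negSucc (nat_lit 1)), (nat_lit 4, .negSucc (nat_lit 1)), (nat_lit 5, .ofNat (nat_lit 2)), (nat_lit 6, .negSucc (nat_lit 1)), (nat_lit 7, .negSucc (nat_lit 1)), (nat_lit 10, .ofNat (nat_lit 2)), (nat_lit 11, .ofNat (nat_lit 2)), (nat_lit 12, .negSucc (nat_lit 7)), (nat_lit 16, .negSucc (nat_lit 1)), (nat_lit 17, .negSucc (nat_lit 1)), (nat_lit 20, .ofNat (nat_lit 2)), (nat_lit 21, .ofNat (nat_lit 2)), (nat_lit 22, .negSucc (nat_lit 7)), (nat_lit 26, .ofNat (nat_lit 6)), (nat_lit 27, .negSucc (nat_lit 1)), (nat_lit 30, .negSucc (nat_lit 5)), (nat_lit 31, .ofNat (nat_lit 2)), (nat_lit 32, .ofNat (nat_lit 8)), (nat_lit 36, .ofNat (nat_lit 8)),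 (nat_lit 37, .negSucc (nat_lit 7)), (nat_lit 38, .negSucc (nat_lit 7)), (nat_lit 39, .ofNat (nat_lit 8))],
  [(nat_lit 0, .ofNat (nat_lit 2)), (nat_lit 1, .negSucc (nat_lit 7)), (nat_lit 2, .negSucc (nat_lit 1)), (nat_lit 4, .negSucc (nat_lit 1)), (nat_lit 5, .ofNat (nat_lit 2)), (nat_lit 6, .negSucc (nat_lit 1)), (nat_lit 7, .negSucc (nat_lit 1)), (nat_lit 10, .ofNat (nat_lit 2)), (nat_lit 11, .ofNat (nat_lit 2)), (nat_lit 12, .negSucc (nat_lit 7)), (nat_lit 16, .negSucc (nat_lit 1)), (nat_lit 17, .negSucc (nat_lit 1)), (nat_lit 20, .ofNat (nat_lit 2)), (nat_lit 21, .ofNat (nat_lit 2)), (nat_lit 22, .negSucc (nat_lit 7)), (nat_lit 26, .negSucc (nat_lit 1)), (nat_lit 27, .ofNat (nat_lit 6)), (nat_lit 30, .ofNat (nat_lit 2)), (nat_lit 31, .negSucc (nat_lit 5)), (nat_lit 32, .ofNat (nat_lit 8)), (nat_lit 36, .negSucc (nat_lit 7)), (nat_lit 37, .ofNat (nat_lit 8)),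 (nat_lit 38, .ofNat (nat_lit 8)), (nat_lit 39, .negSucc (nat_lit 7))],
  [(nat_lit 0, .negSucc (nat_lit 1)), (nat_lit 2, .ofNat (nat_lit 2)), (nat_lit 4, .negSucc (nat_lit 1)), (nat_lit 5, .ofNat (nat_lit 2)), (nat_lit 6, .negSucc (nat_lit 1)), (nat_lit 7, .negSucc (nat_lit 1)), (nat_lit 10, .negSucc (nat_lit 1)), (nat_lit 11, .negSucc (nat_lit 1)), (nat_lit 16, .negSucc (nat_lit 1)), (nat_lit 17, .negSucc (nat_lit 1)), (nat_lit 20, .negSucc (nat_lit 1)), (nat_lit 21, .negSucc (nat_lit 1)), (nat_lit 26, .ofNat (nat_lit 2)), (nat_lit 27, .ofNat (nat_lit 2)), (nat_lit 30, .ofNat (nat_lit 2)), (nat_lit 31, .ofNat (nat_lit 2))],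
  [(nat_lit 3, .ofNat (nat_lit 8)), (nat_lit 13, .ofNat (nat_lit 8)), (nat_lit 23, .ofNat (nat_lit 8)), (nat_lit 33, .negSucc (nat_lit 7))],
  [(nat_lit 28, .ofNat (nat_lit 8)), (nat_lit 34, .negSucc (nat_lit 7)), (nat_lit 48, .ofNat (nat_lit 8)), (nat_lit 51, .ofNat (nat_lit 8))],
  [(nat_lit 29, .ofNat (nat_lit 8)), (nat_lit 35, .negSucc (nat_lit 7)), (nat_lit 49, .ofNat (nat_lit 8)), (nat_lit 50, .ofNat (nat_lit 8))],
  [(nat_lit 0, .negSucc (nat_lit 1)), (nat_lit 2, .negSucc (nat_lit 1)), (nat_lit 4, .negSucc (nat_lit 1)), (nat_lit 5, .negSucc (nat_lit 1)), (nat_lit 6, .ofNat (nat_lit 2)), (nat_lit 7, .negSucc (nat_lit 1)), (nat_lit 10, .ofNat (nat_lit 2)), (nat_lit 11, .negSucc (nat_lit 1)), (nat_lit 16, .ofNat (nat_lit 2)), (nat_lit 17, .negSucc (nat_lit 1)), (nat_lit 20, .ofNat (nat_lit 2)), (nat_lit 21, .negSucc (nat_lit 1)), (nat_lit 26, .ofNat (nat_lit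 2)), (nat_lit 27, .negSucc (nat_lit 1)), (nat_lit 30, .ofNat (nat_lit 2)), (nat_lit 31, .negSucc (nat_lit 1))],
  [(nat_lit 0, .negSucc (nat_lit 1)), (nat_lit 2, .negSucc (nat_lit 1)), (nat_lit 4, .negSucc (nat_lit 1)), (nat_lit 5, .negSucc (nat_lit 1)), (nat_lit 6, .ofNat (nat_lit 2)), (nat_lit 7, .negSucc (nat_lit 1)), (nat_lit 10, .ofNat (nat_lit 2)), (nat_lit 11, .negSucc (nat_lit 1)), (nat_lit 16, .negSucc (nat_lit 1)), (nat_lit 17, .ofNat (nat_lit 2)), (nat_lit 20, .negSucc (nat_lit 1)), (nat_lit 21, .ofNat (nat_lit 2)), (nat_lit 26, .negSucc (nat_lit 1)), (nat_lit 27, .ofNat (nat_lit 2)), (nat_lit 30, .negSucc (nat_lit 1)), (nat_lit 31, .ofNat (nat_lit 2))],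
  [(nat_lit 0, .negSucc (nat_lit 1)), (nat_lit 2, .negSucc (nat_lit 1)), (nat_lit 4, .negSucc (nat_lit 1)), (nat_lit 5, .negSucc (nat_lit 1)), (nat_lit 6, .negSucc (nat_lit 1)), (nat_lit 7, .ofNat (nat_lit 2)), (nat_lit 10, .negSucc (nat_lit 1)), (nat_lit 11, .ofNat (nat_lit 2)), (nat_lit 16, .ofNat (nat_lit 2)), (nat_lit 17, .negSucc (nat_lit 1)), (nat_lit 20, .ofNat (nat_lit 2)), (nat_lit 21, .negSucc (nat_lit 1)), (nat_lit 26, .negSucc (nat_lit 1)), (nat_lit 27, .ofNat (nat_lit 2)), (nat_lit 30, .negSucc (nat_lit 1)), (nat_lit 31, .ofNat (nat_lit 2))],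
  [(nat_lit 0, .negSucc (nat_lit 1)), (nat_lit 2, .negSucc (nat_lit 1)), (nat_lit 4, .negSucc (nat_lit 1)), (nat_lit 5, .negSucc (nat_lit 1)), (nat_lit 6, .negSucc (nat_lit 1)), (nat_lit 7, .ofNat (nat_lit 2)), (nat_lit 10, .negSucc (nat_lit 1)), (nat_lit 11, .ofNat (nat_lit 2)), (nat_lit 16, .negSucc (nat_lit 1)), (nat_lit 17, .ofNat (nat_lit 2)), (nat_lit 20, .negSucc (nat_lit 1)), (nat_lit 21, .ofNat (nat_lit 2)), (nat_lit 26, .ofNat (nat_lit 2)), (nat_lit 27, .negSucc (nat_lit 1)), (nat_lit 30, .ofNat (nat_lit 2)), (nat_lit 31, .negSucc (nat_lit 1))],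
  [(nat_lit 8, .ofNat (nat_lit 8)), (nat_lit 14, .ofNat (nat_lit 8)), (nat_lit 40, .negSucc (nat_lit 7)), (nat_lit 41, .ofNat (nat_lit 8))],
  [(nat_lit 8, .ofNat (nat_lit 8)), (nat_lit 14, .ofNat (nat_lit 8)), (nat_lit 40, .ofNat (nat_lit 8)), (nat_lit 41, .negSucc (nat_lit 7))],
  [(nat_lit 9, .ofNat (nat_lit 8)), (nat_lit 15, .ofNat (nat_lit 8)), (nat_lit 42, .negSucc (nat_lit 7)), (nat_lit 43, .ofNat (nat_lit 8))],
  [(nat_lit 9, .ofNat (nat_lit 8)), (nat_lit 15, .ofNat (nat_lit 8)), (nat_lit 42, .ofNat (nat_lit 8)), (nat_lit 43, .negSucc (nat_lit 7))],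
  [(nat_lit 18, .ofNat (nat_lit 8)), (nat_lit 24, .ofNat (nat_lit 8)), (nat_lit 44, .negSucc (nat_lit 7)), (nat_lit 46, .ofNat (nat_lit 8))],
  [(nat_lit 19, .ofNat (nat_lit 8)), (nat_lit 25, .ofNat (nat_lit 8)), (nat_lit 45, .negSucc (nat_lit 7)), (nat_lit 47, .ofNat (nat_lit 8))],
  [(nat_lit 18, .ofNat (nat_lit 8)), (nat_lit 24, .ofNat (nat_lit 8)), (nat_lit 44, .ofNat (nat_lit 8)), (nat_lit 46, .negSucc (nat_lit 7))],
  [(nat_lit 19, .ofNat (nat_lit 8)), (nat_lit 25, .ofNat (nat_lit 8)), (nat_lit 45, .ofNat (nat_lit 8)), (nat_lit 47, .negSucc (nat_lit 7))],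
  [(nat_lit 28, .ofNat (nat_lit 8)), (nat_lit 34, .ofNat (nat_lit 8)), (nat_lit 48, .negSucc (nat_lit 7)), (nat_lit 51, .ofNat (nat_lit 8))],
  [(nat_lit 29, .ofNat (nat_lit 8)), (nat_lit 35, .ofNat (nat_lit 8)), (nat_lit 49, .negSucc (nat_lit 7)), (nat_lit 50, .ofNat (nat_lit 8))],
  [(nat_lit 29, .ofNat (nat_lit 8)), (nat_lit 35, .ofNat (nat_lit 8)), (nat_lit 49, .ofNat (nat_lit 8)), (nat_lit 50, .negSucc (nat_lit 7))],
  [(nat_lit 28, .ofNat (nat_lit 8)), (nat_lit 34, .ofNat (nat_lit 8)), (nat_lit 48, .ofNat (nat_lit 8)), (nat_lit 51, .negSucc (nat_lit 7))]]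

/-- The matrix of the root 16, times sixteen. -/
def mat16 : List (List (Nat × Int)) := [
  [(nat_lit 1, .ofNat (nat_lit 16)), (nat_lit 4, .ofNat (nat_lit 8)), (nat_lit 8, .negSucc (nat_lit 15)), (nat_lit 10, .ofNat (nat_lit 8))],
  [(nat_lit 0, .ofNat (nat_lit 4)), (nat_lit 4, .ofNat (nat_lit 4)), (nat_lit 6, .negSucc (nat_lit 3)), (nat_lit 10, .negSucc (nat_lit 3))],
  [(nat_lit 2, .negSucc (nat_lit 7)), (nat_lit 7, .ofNat (nat_lit 8)), (nat_lit 12, .ofNat (nat_lit 16)), (nat_lit 14, .ofNat (nat_lit 16))],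
  [(nat_lit 3, .negSucc (nat_lit 7)), (nat_lit 9, .ofNat (nat_lit 8)), (nat_lit 13, .ofNat (nat_lit 8)), (nat_lit 15, .ofNat (nat_lit 8))],
  [(nat_lit 0, .ofNat (nat_lit 8)), (nat_lit 1, .ofNat (nat_lit 16)), (nat_lit 6, .ofNat (nat_lit 8)), (nat_lit 8, .ofNat (nat_lit 16))],
  [(nat_lit 5, .negSucc (nat_lit 7)), (nat_lit 11, .ofNat (nat_lit 8)), (nat_lit 12, .ofNat (nat_lit 16)), (nat_lit 14, .negSucc (nat_lit 15))],
  [(nat_lit 1, .negSucc (nat_lit 15)), (nat_lit 4, .ofNat (nat_lit 8)), (nat_lit 8, .ofNat (nat_lit 16)), (nat_lit 10, .ofNat (nat_lit 8))],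
  [(nat_lit 2, .ofNat (nat_lit 8)), (nat_lit 7, .negSucc (nat_lit 7)), (nat_lit 12, .ofNat (nat_lit 16)), (nat_lit 14, .ofNat (nat_lit 16))],
  [(nat_lit 0, .negSucc (nat_lit 3)), (nat_lit 4, .ofNat (nat_lit 4)), (nat_lit 6, .ofNat (nat_lit 4)), (nat_lit 10, .negSucc (nat_lit 3))],
  [(nat_lit 3, .ofNat (nat_lit 8)), (nat_lit 9, .negSucc (nat_lit 7)), (nat_lit 13, .ofNat (nat_lit 8)), (nat_lit 15, .ofNat (nat_lit 8))],
  [(nat_lit 0, .ofNat (nat_lit 8)), (nat_lit 1, .negSucc (nat_lit 15)), (nat_lit 6, .ofNat (nat_lit 8)), (nat_lit 8, .negSucc (nat_lit 15))],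
  [(nat_lit 5, .ofNat (nat_lit 8)), (nat_lit 11, .negSucc (nat_lit 7)), (nat_lit 12, .ofNat (nat_lit 16)), (nat_lit 14, .negSucc (nat_lit 15))],
  [(nat_lit 2, .ofNat (nat_lit 4)), (nat_lit 5, .ofNat (nat_lit 4)), (nat_lit 7, .ofNat (nat_lit 4)), (nat_lit 11, .ofNat (nat_lit 4))],
  [(nat_lit 3, .ofNat (nat_lit 8)), (nat_lit 9, .ofNat (nat_lit 8)), (nat_lit 13, .negSucc (nat_lit 7)), (nat_lit 15, .ofNat (nat_lit 8))],
  [(nat_lit 2, .ofNat (nat_lit 4)), (nat_lit 5, .negSucc (nat_lit 3)), (nat_lit 7, .ofNat (nat_lit 4)), (nat_lit 11, .negSucc (nat_lit 3))],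
  [(nat_lit 3, .ofNat (nat_lit 8)), (nat_lit 9, .ofNat (nat_lit 8)), (nat_lit 13, .ofNat (nat_lit 8)), (nat_lit 15, .negSucc (nat_lit 7))],
  [(nat_lit 16, .negSucc (nat_lit 7)), (nat_lit 26, .ofNat (nat_lit 8)), (nat_lit 36, .ofNat (nat_lit 16)), (nat_lit 40, .ofNat (nat_lit 16))],
  [(nat_lit 17, .negSucc (nat_lit 7)), (nat_lit 27, .ofNat (nat_lit 8)), (nat_lit 37, .ofNat (nat_lit 16)), (nat_lit 41, .ofNat (nat_lit 16))],
  [(nat_lit 18, .negSucc (nat_lit 7)), (nat_lit 28, .ofNat (nat_lit 8)), (nat_lit 44, .ofNat (nat_lit 8)), (nat_lit 48, .ofNat (nat_lit 8))],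
  [(nat_lit 19, .negSucc (nat_lit 7)), (nat_lit 29, .ofNat (nat_lit 8)), (nat_lit 45, .ofNat (nat_lit 8)), (nat_lit 49, .ofNat (nat_lit 8))],
  [(nat_lit 20, .negSucc (nat_lit 7)), (nat_lit 30, .ofNat (nat_lit 8)), (nat_lit 36, .ofNat (nat_lit 16)), (nat_lit 40, .negSucc (nat_lit 15))],
  [(nat_lit 21, .negSucc (nat_lit 7)), (nat_lit 31, .ofNat (nat_lit 8)), (nat_lit 37, .ofNat (nat_lit 16)), (nat_lit 41, .negSucc (nat_lit 15))],
  [(nat_lit 22, .negSucc (nat_lit 7)), (nat_lit 32, .ofNat (nat_lit 8)), (nat_lit 38, .ofNat (nat_lit 8)), (nat_lit 39, .ofNat (nat_lit 8))],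
  [(nat_lit 23, .negSucc (nat_lit 7)), (nat_lit 33, .ofNat (nat_lit 8)), (nat_lit 42, .ofNat (nat_lit 8)), (nat_lit 43, .ofNat (nat_lit 8))],
  [(nat_lit 24, .negSucc (nat_lit 7)), (nat_lit 34, .ofNat (nat_lit 8)), (nat_lit 46, .ofNat (nat_lit 8)), (nat_lit 51, .ofNat (nat_lit 8))],
  [(nat_lit 25, .negSucc (nat_lit 7)), (nat_lit 35, .ofNat (nat_lit 8)), (nat_lit 47, .ofNat (nat_lit 8)), (nat_lit 50, .ofNat (nat_lit 8))],
  [(nat_lit 16, .ofNat (nat_lit 8)), (nat_lit 26, .negSucc (nat_lit 7)), (nat_lit 36, .ofNat (nat_lit 16)), (nat_lit 40, .ofNat (nat_lit 16))],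
  [(nat_lit 17, .ofNat (nat_lit 8)), (nat_lit 27, .negSucc (nat_lit 7)), (nat_lit 37, .ofNat (nat_lit 16)), (nat_lit 41, .ofNat (nat_lit 16))],
  [(nat_lit 18, .ofNat (nat_lit 8)), (nat_lit 28, .negSucc (nat_lit 7)), (nat_lit 44, .ofNat (nat_lit 8)), (nat_lit 48, .ofNat (nat_lit 8))],
  [(nat_lit 19, .ofNat (nat_lit 8)), (nat_lit 29, .negSucc (nat_lit 7)), (nat_lit 45, .ofNat (nat_lit 8)), (nat_lit 49, .ofNat (nat_lit 8))],
  [(nat_lit 20, .ofNat (nat_lit 8)), (nat_lit 30, .negSucc (nat_lit 7)), (nat_lit 36, .ofNat (nat_lit 16)), (nat_lit 40, .negSucc (nat_lit 15))],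
  [(nat_lit 21, .ofNat (nat_lit 8)), (nat_lit 31, .negSucc (nat_lit 7)), (nat_lit 37, .ofNat (nat_lit 16)), (nat_lit 41, .negSucc (nat_lit 15))],
  [(nat_lit 22, .ofNat (nat_lit 8)), (nat_lit 32, .negSucc (nat_lit 7)), (nat_lit 38, .ofNat (nat_lit 8)), (nat_lit 39, .ofNat (nat_lit 8))],
  [(nat_lit 23, .ofNat (nat_lit 8)), (nat_lit 33, .negSucc (nat_lit 7)), (nat_lit 42, .ofNat (nat_lit 8)), (nat_lit 43, .ofNat (nat_lit 8))],
  [(nat_lit 24, .ofNat (nat_lit 8)), (nat_lit 34, .negSucc (nat_lit 7)), (nat_lit 46, .ofNat (nat_lit 8)), (nat_lit 51, .ofNat (nat_lit 8))],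
  [(nat_lit 25, .ofNat (nat_lit 8)), (nat_lit 35, .negSucc (nat_lit 7)), (nat_lit 47, .ofNat (nat_lit 8)), (nat_lit 50, .ofNat (nat_lit 8))],
  [(nat_lit 16, .ofNat (nat_lit 4)), (nat_lit 20, .ofNat (nat_lit 4)), (nat_lit 26, .ofNat (nat_lit 4)), (nat_lit 30, .ofNat (nat_lit 4))],
  [(nat_lit 17, .ofNat (nat_lit 4)), (nat_lit 21, .ofNat (nat_lit 4)), (nat_lit 27, .ofNat (nat_lit 4)), (nat_lit 31, .ofNat (nat_lit 4))],
  [(nat_lit 22, .ofNat (nat_lit 8)), (nat_lit 32, .ofNat (nat_lit 8)), (nat_lit 38, .negSucc (nat_lit 7)), (nat_lit 39, .ofNat (nat_lit 8))],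
  [(nat_lit 22, .ofNat (nat_lit 8)), (nat_lit 32, .ofNat (nat_lit 8)), (nat_lit 38, .ofNat (nat_lit 8)), (nat_lit 39, .negSucc (nat_lit 7))],
  [(nat_lit 16, .ofNat (nat_lit 4)), (nat_lit 20, .negSucc (nat_lit 3)), (nat_lit 26, .ofNat (nat_lit 4)), (nat_lit 30, .negSucc (nat_lit 3))],
  [(nat_lit 17, .ofNat (nat_lit 4)), (nat_lit 21, .negSucc (nat_lit 3)), (nat_lit 27, .ofNat (nat_lit 4)), (nat_lit 31, .negSucc (nat_lit 3))],
  [(nat_lit 23, .ofNat (nat_lit 8)), (nat_lit 33, .ofNat (nat_lit 8)), (nat_lit 42, .negSucc (nat_lit 7)), (nat_lit 43, .ofNat (nat_lit 8))],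
  [(nat_lit 23, .ofNat (nat_lit 8)), (nat_lit 33, .ofNat (nat_lit 8)), (nat_lit 42, .ofNat (nat_lit 8)), (nat_lit 43, .negSucc (nat_lit 7))],
  [(nat_lit 18, .ofNat (nat_lit 8)), (nat_lit 28, .ofNat (nat_lit 8)), (nat_lit 44, .negSucc (nat_lit 7)), (nat_lit 48, .ofNat (nat_lit 8))],
  [(nat_lit 19, .ofNat (nat_lit 8)), (nat_lit 29, .ofNat (nat_lit 8)), (nat_lit 45, .negSucc (nat_lit 7)), (nat_lit 49, .ofNat (nat_lit 8))],
  [(nat_lit 24, .ofNat (nat_lit 8)), (nat_lit 34, .ofNat (nat_lit 8)), (nat_lit 46, .negSucc (nat_lit 7)), (nat_lit 51, .ofNat (nat_lit 8))],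
  [(nat_lit 25, .ofNat (nat_lit 8)), (nat_lit 35, .ofNat (nat_lit 8)), (nat_lit 47, .negSucc (nat_lit 7)), (nat_lit 50, .ofNat (nat_lit 8))],
  [(nat_lit 18, .ofNat (nat_lit 8)), (nat_lit 28, .ofNat (nat_lit 8)), (nat_lit 44, .ofNat (nat_lit 8)), (nat_lit 48, .negSucc (nat_lit 7))],
  [(nat_lit 19, .ofNat (nat_lit 8)), (nat_lit 29, .ofNat (nat_lit 8)), (nat_lit 45, .ofNat (nat_lit 8)), (nat_lit 49, .negSucc (nat_lit 7))],
  [(nat_lit 25, .ofNat (nat_lit 8)), (nat_lit 35, .ofNat (nat_lit 8)), (nat_lit 47, .ofNat (nat_lit 8)), (nat_lit 50, .negSucc (nat_lit 7))],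
  [(nat_lit 24, .ofNat (nat_lit 8)), (nat_lit 34, .ofNat (nat_lit 8)), (nat_lit 46, .ofNat (nat_lit 8)), (nat_lit 51, .negSucc (nat_lit 7))]]

/-- The matrix of the root 17, times sixteen. -/
def mat17 : List (List (Nat × Int)) := [
  [(nat_lit 4, .ofNat (nat_lit 8)), (nat_lit 5, .ofNat (nat_lit 8)), (nat_lit 10, .ofNat (nat_lit 8)), (nat_lit 11, .ofNat (nat_lit 8))],
  [(nat_lit 12, .ofNat (nat_lit 16))],
  [(nat_lit 4, .ofNat (nat_lit 8)), (nat_lit 5, .ofNat (nat_lit 8)), (nat_lit 10, .negSucc (nat_lit 7)), (nat_lit 11, .negSucc (nat_lit 7))],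
  [(nat_lit 13, .ofNat (nat_lit 16))],
  [(nat_lit 0, .ofNat (nat_lit 8)), (nat_lit 2, .ofNat (nat_lit 8)), (nat_lit 6, .ofNat (nat_lit 8)), (nat_lit 7, .ofNat (nat_lit 8))],
  [(nat_lit 0, .ofNat (nat_lit 8)), (nat_lit 2, .ofNat (nat_lit 8)), (nat_lit 6, .negSucc (nat_lit 7)), (nat_lit 7, .negSucc (nat_lit 7))],
  [(nat_lit 4, .ofNat (nat_lit 8)), (nat_lit 5, .negSucc (nat_lit 7)), (nat_lit 10, .ofNat (nat_lit 8)), (nat_lit 11, .negSucc (nat_lit 7))],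
  [(nat_lit 4, .ofNat (nat_lit 8)), (nat_lit 5, .negSucc (nat_lit 7)), (nat_lit 10, .negSucc (nat_lit 7)), (nat_lit 11, .ofNat (nat_lit 8))],
  [(nat_lit 14, .ofNat (nat_lit 16))],
  [(nat_lit 15, .ofNat (nat_lit 16))],
  [(nat_lit 0, .ofNat (nat_lit 8)), (nat_lit 2, .negSucc (nat_lit 7)), (nat_lit 6, .ofNat (nat_lit 8)), (nat_lit 7, .negSucc (nat_lit 7))],
  [(nat_lit 0, .ofNat (nat_lit 8)), (nat_lit 2, .negSucc (nat_lit 7)), (nat_lit 6, .negSucc (nat_lit 7)), (nat_lit 7, .ofNat (nat_lit 8))],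
  [(nat_lit 1, .ofNat (nat_lit 16))],
  [(nat_lit 3, .ofNat (nat_lit 16))],
  [(nat_lit 8, .ofNat (nat_lit 16))],
  [(nat_lit 9, .ofNat (nat_lit 16))],
  [(nat_lit 16, .negSucc (nat_lit 7)), (nat_lit 17, .ofNat (nat_lit 8)), (nat_lit 26, .ofNat (nat_lit 8)), (nat_lit 27, .ofNat (nat_lit 8))],
  [(nat_lit 16, .ofNat (nat_lit 8)), (nat_lit 17, .negSucc (nat_lit 7)), (nat_lit 26, .ofNat (nat_lit 8)), (nat_lit 27, .ofNat (nat_lit 8))],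
  [(nat_lit 18, .negSucc (nat_lit 15))],
  [(nat_lit 19, .negSucc (nat_lit 15))],
  [(nat_lit 20, .negSucc (nat_lit 7)), (nat_lit 21, .ofNat (nat_lit 8)), (nat_lit 30, .ofNat (nat_lit 8)), (nat_lit 31, .ofNat (nat_lit 8))],
  [(nat_lit 20, .ofNat (nat_lit 8)), (nat_lit 21, .negSucc (nat_lit 7)), (nat_lit 30, .ofNat (nat_lit 8)), (nat_lit 31, .ofNat (nat_lit 8))],
  [(nat_lit 32, .ofNat (nat_lit 16))],
  [(nat_lit 33, .ofNat (nat_lit 16))],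
  [(nat_lit 24, .negSucc (nat_lit 15))],
  [(nat_lit 25, .negSucc (nat_lit 15))],
  [(nat_lit 16, .ofNat (nat_lit 8)), (nat_lit 17, .ofNat (nat_lit 8)), (nat_lit 26, .negSucc (nat_lit 7)), (nat_lit 27, .ofNat (nat_lit 8))],
  [(nat_lit 16, .ofNat (nat_lit 8)), (nat_lit 17, .ofNat (nat_lit 8)), (nat_lit 26, .ofNat (nat_lit 8)), (nat_lit 27, .negSucc (nat_lit 7))],
  [(nat_lit 28, .negSucc (nat_lit 15))],
  [(nat_lit 29, .negSucc (nat_lit 15))],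
  [(nat_lit 20, .ofNat (nat_lit 8)), (nat_lit 21, .ofNat (nat_lit 8)), (nat_lit 30, .negSucc (nat_lit 7)), (nat_lit 31, .ofNat (nat_lit 8))],
  [(nat_lit 20, .ofNat (nat_lit 8)), (nat_lit 21, .ofNat (nat_lit 8)), (nat_lit 30, .ofNat (nat_lit 8)), (nat_lit 31, .negSucc (nat_lit 7))],
  [(nat_lit 22, .ofNat (nat_lit 16))],
  [(nat_lit 23, .ofNat (nat_lit 16))],
  [(nat_lit 34, .negSucc (nat_lit 15))],
  [(nat_lit 35, .negSucc (nat_lit 15))],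
  [(nat_lit 37, .ofNat (nat_lit 16))],
  [(nat_lit 36, .ofNat (nat_lit 16))],
  [(nat_lit 39, .ofNat (nat_lit 16))],
  [(nat_lit 38, .ofNat (nat_lit 16))],
  [(nat_lit 41, .ofNat (nat_lit 16))],
  [(nat_lit 40, .ofNat (nat_lit 16))],
  [(nat_lit 43, .ofNat (nat_lit 16))],
  [(nat_lit 42, .ofNat (nat_lit 16))],
  [(nat_lit 44, .negSucc (nat_lit 15))],
  [(nat_lit 45, .negSucc (nat_lit 15))],
  [(nat_lit 46, .negSucc (nat_lit 15))],
  [(nat_lit 47, .negSucc (nat_lit 15))],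
  [(nat_lit 48, .negSucc (nat_lit 15))],
  [(nat_lit 49, .negSucc (nat_lit 15))],
  [(nat_lit 50, .negSucc (nat_lit 15))],
  [(nat_lit 51, .negSucc (nat_lit 15))]]

/-- The matrix of the root 18, times sixteen. -/
def mat18 : List (List (Nat × Int)) := [
  [(nat_lit 0, .ofNat (nat_lit 8)), (nat_lit 1, .ofNat (nat_lit 8)), (nat_lit 4, .ofNat (nat_lit 4)), (nat_lit 8, .negSucc (nat_lit 7)), (nat_lit 10, .ofNat (nat_lit 4)), (nat_lit 18, .negSucc (nat_lit 7)), (nat_lit 20, .ofNat (nat_lit 4)), (nat_lit 28, .negSucc (nat_lit 7)), (nat_lit 30, .ofNat (nat_lit 4)), (nat_lit 36, .negSucc (nat_lit 7)), (nat_lit 40, .ofNat (nat_lit 8)), (nat_lit 44, .ofNat (nat_lit 8)), (nat_lit 48, .ofNat (nat_lit 8))],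
  [(nat_lit 0, .ofNat (nat_lit 2)), (nat_lit 1, .ofNat (nat_lit 8)), (nat_lit 4, .ofNat (nat_lit 2)), (nat_lit 6, .negSucc (nat_lit 1)), (nat_lit 10, .negSucc (nat_lit 1)), (nat_lit 16, .negSucc (nat_lit 1)), (nat_lit 20, .negSucc (nat_lit 1)), (nat_lit 26, .negSucc (nat_lit 1)), (nat_lit 30, .negSucc (nat_lit 1)), (nat_lit 36, .ofNat (nat_lit 8))],
  [(nat_lit 2, .ofNat (nat_lit 4)), (nat_lit 7, .ofNat (nat_lit 4)), (nat_lit 12, .ofNat (nat_lit 8)), (nat_lit 14, .ofNat (nat_lit 8)), (nat_lit 17, .ofNat (nat_lit 4)), (nat_lit 22, .ofNat (nat_lit 8)), (nat_lit 24, .ofNat (nat_lit 8)), (nat_lit 27, .ofNat (nat_lit 4)), (nat_lit 32, .ofNat (nat_lit 8)), (nat_lit 34, .ofNat (nat_lit 8)), (nat_lit 37, .negSucc (nat_lit 7)), (nat_lit 38, .negSucc (nat_lit 7)), (nat_lit 39, .negSucc (nat_lit 7)), (nat_lit 41, .negSucc (nat_lit 7)), (nat_lit 46, .negSucc (nat_lit 7)),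 (nat_lit 51, .negSucc (nat_lit 7))],
  [(nat_lit 3, .ofNat (nat_lit 4)), (nat_lit 9, .ofNat (nat_lit 4)), (nat_lit 13, .ofNat (nat_lit 4)), (nat_lit 15, .ofNat (nat_lit 4)), (nat_lit 19, .ofNat (nat_lit 4)), (nat_lit 23, .ofNat (nat_lit 4)), (nat_lit 25, .ofNat (nat_lit 4)), (nat_lit 29, .ofNat (nat_lit 4)), (nat_lit 33, .ofNat (nat_lit 4)), (nat_lit 35, .ofNat (nat_lit 4)), (nat_lit 42, .negSucc (nat_lit 3)), (nat_lit 43, .negSucc (nat_lit 3)), (nat_lit 45, .negSucc (nat_lit 3)), (nat_lit 47, .negSucc (nat_lit 3)), (nat_lit 49, .negSucc (nat_lit 3)), (nat_lit 50, .negSucc (nat_lit 3))],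
  [(nat_lit 0, .ofNat (nat_lit 4)), (nat_lit 1, .ofNat (nat_lit 8)), (nat_lit 4, .ofNat (nat_lit 8)), (nat_lit 6, .ofNat (nat_lit 4)), (nat_lit 8, .ofNat (nat_lit 8)), (nat_lit 16, .ofNat (nat_lit 4)), (nat_lit 18, .ofNat (nat_lit 8)), (nat_lit 26, .ofNat (nat_lit 4)), (nat_lit 28, .ofNat (nat_lit 8)), (nat_lit 36, .negSucc (nat_lit 7)), (nat_lit 40, .negSucc (nat_lit 7)), (nat_lit 44, .negSucc (nat_lit 7)), (nat_lit 48, .negSucc (nat_lit 7))],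
  [(nat_lit 5, .ofNat (nat_lit 4)), (nat_lit 11, .ofNat (nat_lit 4)), (nat_lit 12, .ofNat (nat_lit 8)), (nat_lit 14, .negSucc (nat_lit 7)), (nat_lit 21, .ofNat (nat_lit 4)), (nat_lit 22, .ofNat (nat_lit 8)), (nat_lit 24, .negSucc (nat_lit 7)), (nat_lit 31, .ofNat (nat_lit 4)), (nat_lit 32, .ofNat (nat_lit 8)), (nat_lit 34, .negSucc (nat_lit 7)), (nat_lit 37, .negSucc (nat_lit 7)), (nat_lit 38, .negSucc (nat_lit 7)), (nat_lit 39, .negSucc (nat_lit 7)), (nat_lit 41, .ofNat (nat_lit 8)), (nat_lit 46, .ofNat (nat_lit 8)), (nat_lit 51, .ofNat (nat_lit 8))],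
  [(nat_lit 1, .negSucc (nat_lit 7)), (nat_lit 4, .ofNat (nat_lit 4)), (nat_lit 6, .ofNat (nat_lit 8)), (nat_lit 8, .ofNat (nat_lit 8)), (nat_lit 10, .ofNat (nat_lit 4)), (nat_lit 18, .negSucc (nat_lit 7)), (nat_lit 20, .negSucc (nat_lit 3)), (nat_lit 28, .negSucc (nat_lit 7)), (nat_lit 30, .negSucc (nat_lit 3)), (nat_lit 36, .ofNat (nat_lit 8)), (nat_lit 40, .negSucc (nat_lit 7)), (nat_lit 44, .ofNat (nat_lit 8)), (nat_lit 48, .ofNat (nat_lit 8))],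
  [(nat_lit 2, .ofNat (nat_lit 4)), (nat_lit 7, .ofNat (nat_lit 4)), (nat_lit 12, .ofNat (nat_lit 8)), (nat_lit 14, .ofNat (nat_lit 8)), (nat_lit 17, .ofNat (nat_lit 4)), (nat_lit 22, .negSucc (nat_lit 7)), (nat_lit 24, .negSucc (nat_lit 7)), (nat_lit 27, .ofNat (nat_lit 4)), (nat_lit 32, .negSucc (nat_lit 7)), (nat_lit 34, .negSucc (nat_lit 7)), (nat_lit 37, .negSucc (nat_lit 7)), (nat_lit 38, .ofNat (nat_lit 8)), (nat_lit 39, .ofNat (nat_lit 8)), (nat_lit 41, .negSucc (nat_lit 7)), (nat_lit 46, .ofNat (nat_lit 8)), (nat_lit 51, .ofNat (nat_lit 8))],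
  [(nat_lit 0, .negSucc (nat_lit 1)), (nat_lit 4, .ofNat (nat_lit 2)), (nat_lit 6, .ofNat (nat_lit 2)), (nat_lit 8, .ofNat (nat_lit 8)), (nat_lit 10, .negSucc (nat_lit 1)), (nat_lit 16, .negSucc (nat_lit 1)), (nat_lit 20, .ofNat (nat_lit 2)), (nat_lit 26, .negSucc (nat_lit 1)), (nat_lit 30, .ofNat (nat_lit 2)), (nat_lit 40, .ofNat (nat_lit 8))],
  [(nat_lit 3, .ofNat (nat_lit 4)), (nat_lit 9, .ofNat (nat_lit 4)), (nat_lit 13, .ofNat (nat_lit 4)), (nat_lit 15, .ofNat (nat_lit 4)), (nat_lit 19, .ofNat (nat_lit 4)), (nat_lit 23, .negSucc (nat_lit 3)), (nat_lit 25, .negSucc (nat_lit 3)), (nat_lit 29, .ofNat (nat_lit 4)), (nat_lit 33, .negSucc (nat_lit 3)), (nat_lit 35, .negSucc (nat_lit 3)), (nat_lit 42, .ofNat (nat_lit 4)), (nat_lit 43, .ofNat (nat_lit 4)), (nat_lit 45, .negSucc (nat_lit 3)), (nat_lit 47, .ofNat (nat_lit 4)), (nat_lit 49, .negSucc (nat_lit 3)), (nat_lit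 50, .ofNat (nat_lit 4))],
  [(nat_lit 0, .ofNat (nat_lit 4)), (nat_lit 1, .negSucc (nat_lit 7)), (nat_lit 6, .ofNat (nat_lit 4)), (nat_lit 8, .negSucc (nat_lit 7)), (nat_lit 10, .ofNat (nat_lit 8)), (nat_lit 16, .negSucc (nat_lit 3)), (nat_lit 18, .ofNat (nat_lit 8)), (nat_lit 26, .negSucc (nat_lit 3)), (nat_lit 28, .ofNat (nat_lit 8)), (nat_lit 36, .ofNat (nat_lit 8)), (nat_lit 40, .ofNat (nat_lit 8)), (nat_lit 44, .negSucc (nat_lit 7)), (nat_lit 48, .negSucc (nat_lit 7))],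
  [(nat_lit 5, .ofNat (nat_lit 4)), (nat_lit 11, .ofNat (nat_lit 4)), (nat_lit 12, .ofNat (nat_lit 8)), (nat_lit 14, .negSucc (nat_lit 7)), (nat_lit 21, .ofNat (nat_lit 4)), (nat_lit 22, .negSucc (nat_lit 7)), (nat_lit 24, .ofNat (nat_lit 8)), (nat_lit 31, .ofNat (nat_lit 4)), (nat_lit 32, .negSucc (nat_lit 7)), (nat_lit 34, .ofNat (nat_lit 8)), (nat_lit 37, .negSucc (nat_lit 7)), (nat_lit 38, .ofNat (nat_lit 8)), (nat_lit 39, .ofNat (nat_lit 8)), (nat_lit 41, .ofNat (nat_lit 8)), (nat_lit 46, .negSucc (nat_lit 7)), (nat_lit 51, .negSucc (nat_lit 7))],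
  [(nat_lit 2, .ofNat (nat_lit 2)), (nat_lit 5, .ofNat (nat_lit 2)), (nat_lit 7, .ofNat (nat_lit 2)), (nat_lit 11, .ofNat (nat_lit 2)), (nat_lit 12, .ofNat (nat_lit 8)), (nat_lit 17, .negSucc (nat_lit 1)), (nat_lit 21, .negSucc (nat_lit 1)), (nat_lit 27, .negSucc (nat_lit 1)), (nat_lit 31, .negSucc (nat_lit 1)), (nat_lit 37, .ofNat (nat_lit 8))],
  [(nat_lit 3, .ofNat (nat_lit 4)), (nat_lit 9, .ofNat (nat_lit 4)), (nat_lit 13, .ofNat (nat_lit 4)), (nat_lit 15, .ofNat (nat_lit 4)), (nat_lit 19, .negSucc (nat_lit 3)), (nat_lit 23, .ofNat (nat_lit 4)), (nat_lit 25, .negSucc (nat_lit 3)), (nat_lit 29, .negSucc (nat_lit 3)), (nat_lit 33, .ofNat (nat_lit 4)), (nat_lit 35, .negSucc (nat_lit 3)), (nat_lit 42, .negSucc (nat_lit 3)), (nat_lit 43, .negSucc (nat_lit 3)), (nat_lit 45, .ofNat (nat_lit 4)), (nat_lit 47, .ofNat (nat_lit 4)), (nat_lit 49, .ofNat (nat_lit 4)),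 (nat_lit 50, .ofNat (nat_lit 4))],
  [(nat_lit 2, .ofNat (nat_lit 2)), (nat_lit 5, .negSucc (nat_lit 1)), (nat_lit 7, .ofNat (nat_lit 2)), (nat_lit 11, .negSucc (nat_lit 1)), (nat_lit 14, .ofNat (nat_lit 8)), (nat_lit 17, .negSucc (nat_lit 1)), (nat_lit 21, .ofNat (nat_lit 2)), (nat_lit 27, .negSucc (nat_lit 1)), (nat_lit 31, .ofNat (nat_lit 2)), (nat_lit 41, .ofNat (nat_lit 8))],
  [(nat_lit 3, .ofNat (nat_lit 4)), (nat_lit 9, .ofNat (nat_lit 4)), (nat_lit 13, .ofNat (nat_lit 4)), (nat_lit 15, .ofNat (nat_lit 4)), (nat_lit 19, .negSucc (nat_lit 3)), (nat_lit 23, .negSucc (nat_lit 3)), (nat_lit 25, .ofNat (nat_lit 4)), (nat_lit 29, .negSucc (nat_lit 3)), (nat_lit 33, .negSucc (nat_lit 3)), (nat_lit 35, .ofNat (nat_lit 4)), (nat_lit 42, .ofNat (nat_lit 4)), (nat_lit 43, .ofNat (nat_lit 4)), (nat_lit 45, .ofNat (nat_lit 4)), (nat_lit 47, .negSucc (nat_lit 3)), (nat_lit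 49, .ofNat (nat_lit 4)), (nat_lit 50, .negSucc (nat_lit 3))],
  [(nat_lit 1, .negSucc (nat_lit 7)), (nat_lit 4, .ofNat (nat_lit 4)), (nat_lit 8, .negSucc (nat_lit 7)), (nat_lit 10, .negSucc (nat_lit 3)), (nat_lit 16, .ofNat (nat_lit 8)), (nat_lit 18, .ofNat (nat_lit 8)), (nat_lit 20, .ofNat (nat_lit 4)), (nat_lit 28, .negSucc (nat_lit 7)), (nat_lit 30, .negSucc (nat_lit 3)), (nat_lit 36, .ofNat (nat_lit 8)), (nat_lit 40, .ofNat (nat_lit 8)), (nat_lit 44, .negSucc (nat_lit 7)), (nat_lit 48, .ofNat (nat_lit 8))],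
  [(nat_lit 2, .ofNat (nat_lit 4)), (nat_lit 7, .ofNat (nat_lit 4)), (nat_lit 12, .negSucc (nat_lit 7)), (nat_lit 14, .negSucc (nat_lit 7)), (nat_lit 17, .ofNat (nat_lit 4)), (nat_lit 22, .ofNat (nat_lit 8)), (nat_lit 24, .ofNat (nat_lit 8)), (nat_lit 27, .ofNat (nat_lit 4)), (nat_lit 32, .negSucc (nat_lit 7)), (nat_lit 34, .negSucc (nat_lit 7)), (nat_lit 37, .ofNat (nat_lit 8)), (nat_lit 38, .negSucc (nat_lit 7)), (nat_lit 39, .ofNat (nat_lit 8)), (nat_lit 41, .ofNat (nat_lit 8)), (nat_lit 46, .negSucc (nat_lit 7)), (nat_lit 51, .ofNat (nat_lit 8))],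
  [(nat_lit 0, .negSucc (nat_lit 1)), (nat_lit 4, .ofNat (nat_lit 2)), (nat_lit 6, .negSucc (nat_lit 1)), (nat_lit 10, .ofNat (nat_lit 2)), (nat_lit 16, .ofNat (nat_lit 2)), (nat_lit 18, .ofNat (nat_lit 8)), (nat_lit 20, .negSucc (nat_lit 1)), (nat_lit 26, .negSucc (nat_lit 1)), (nat_lit 30, .ofNat (nat_lit 2)), (nat_lit 44, .ofNat (nat_lit 8))],
  [(nat_lit 3, .ofNat (nat_lit 4)), (nat_lit 9, .ofNat (nat_lit 4)), (nat_lit 13, .negSucc (nat_lit 3)), (nat_lit 15, .negSucc (nat_lit 3)), (nat_lit 19, .ofNat (nat_lit 4)), (nat_lit 23, .ofNat (nat_lit 4)), (nat_lit 25, .ofNat (nat_lit 4)), (nat_lit 29, .ofNat (nat_lit 4)), (nat_lit 33, .negSucc (nat_lit 3)), (nat_lit 35, .negSucc (nat_lit 3)), (nat_lit 42, .negSucc (nat_lit 3)), (nat_lit 43, .ofNat (nat_lit 4)), (nat_lit 45, .ofNat (nat_lit 4)), (nat_lit 47, .ofNat (nat_lit 4)), (nat_lit 49, .ofNat (nat_lit 4)), (nat_lit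 50, .negSucc (nat_lit 3))],
  [(nat_lit 0, .ofNat (nat_lit 4)), (nat_lit 1, .negSucc (nat_lit 7)), (nat_lit 6, .negSucc (nat_lit 3)), (nat_lit 8, .ofNat (nat_lit 8)), (nat_lit 16, .ofNat (nat_lit 4)), (nat_lit 18, .negSucc (nat_lit 7)), (nat_lit 20, .ofNat (nat_lit 8)), (nat_lit 26, .negSucc (nat_lit 3)), (nat_lit 28, .ofNat (nat_lit 8)), (nat_lit 36, .ofNat (nat_lit 8)), (nat_lit 40, .negSucc (nat_lit 7)), (nat_lit 44, .ofNat (nat_lit 8)), (nat_lit 48, .negSucc (nat_lit 7))],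
  [(nat_lit 5, .ofNat (nat_lit 4)), (nat_lit 11, .ofNat (nat_lit 4)), (nat_lit 12, .negSucc (nat_lit 7)), (nat_lit 14, .ofNat (nat_lit 8)), (nat_lit 21, .ofNat (nat_lit 4)), (nat_lit 22, .ofNat (nat_lit 8)), (nat_lit 24, .negSucc (nat_lit 7)), (nat_lit 31, .ofNat (nat_lit 4)), (nat_lit 32, .negSucc (nat_lit 7)), (nat_lit 34, .ofNat (nat_lit 8)), (nat_lit 37, .ofNat (nat_lit 8)), (nat_lit 38, .negSucc (nat_lit 7)), (nat_lit 39, .ofNat (nat_lit 8)), (nat_lit 41, .negSucc (nat_lit 7)), (nat_lit 46, .ofNat (nat_lit 8)), (nat_lit 51, .negSucc (nat_lit 7))],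
  [(nat_lit 2, .ofNat (nat_lit 2)), (nat_lit 5, .ofNat (nat_lit 2)), (nat_lit 7, .negSucc (nat_lit 1)), (nat_lit 11, .negSucc (nat_lit 1)), (nat_lit 17, .ofNat (nat_lit 2)), (nat_lit 21, .ofNat (nat_lit 2)), (nat_lit 22, .ofNat (nat_lit 8)), (nat_lit 27, .negSucc (nat_lit 1)), (nat_lit 31, .negSucc (nat_lit 1)), (nat_lit 38, .ofNat (nat_lit 8))],
  [(nat_lit 3, .ofNat (nat_lit 4)), (nat_lit 9, .negSucc (nat_lit 3)), (nat_lit 13, .ofNat (nat_lit 4)), (nat_lit 15, .negSucc (nat_lit 3)), (nat_lit 19, .ofNat (nat_lit 4)), (nat_lit 23, .ofNat (nat_lit 4)), (nat_lit 25, .ofNat (nat_lit 4)), (nat_lit 29, .negSucc (nat_lit 3)), (nat_lit 33, .ofNat (nat_lit 4)), (nat_lit 35, .negSucc (nat_lit 3)), (nat_lit 42, .ofNat (nat_lit 4)), (nat_lit 43, .ofNat (nat_lit 4)), (nat_lit 45, .negSucc (nat_lit 3)), (nat_lit 47, .negSucc (nat_lit 3)), (nat_lit 49, .ofNat (nat_lit 4)),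 (nat_lit 50, .ofNat (nat_lit 4))],
  [(nat_lit 2, .ofNat (nat_lit 2)), (nat_lit 5, .negSucc (nat_lit 1)), (nat_lit 7, .negSucc (nat_lit 1)), (nat_lit 11, .ofNat (nat_lit 2)), (nat_lit 17, .ofNat (nat_lit 2)), (nat_lit 21, .negSucc (nat_lit 1)), (nat_lit 24, .ofNat (nat_lit 8)), (nat_lit 27, .negSucc (nat_lit 1)), (nat_lit 31, .ofNat (nat_lit 2)), (nat_lit 46, .ofNat (nat_lit 8))],
  [(nat_lit 3, .ofNat (nat_lit 4)), (nat_lit 9, .negSucc (nat_lit 3)), (nat_lit 13, .negSucc (nat_lit 3)), (nat_lit 15, .ofNat (nat_lit 4)), (nat_lit 19, .ofNat (nat_lit 4)), (nat_lit 23, .ofNat (nat_lit 4)), (nat_lit 25, .ofNat (nat_lit 4)), (nat_lit 29, .negSucc (nat_lit 3)), (nat_lit 33, .negSucc (nat_lit 3)), (nat_lit 35, .ofNat (nat_lit 4)), (nat_lit 42, .ofNat (nat_lit 4)), (nat_lit 43, .negSucc (nat_lit 3)), (nat_lit 45, .ofNat (nat_lit 4)), (nat_lit 47, .ofNat (nat_lit 4)), (nat_lit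 49, .negSucc (nat_lit 3)), (nat_lit 50, .ofNat (nat_lit 4))],
  [(nat_lit 1, .negSucc (nat_lit 7)), (nat_lit 4, .ofNat (nat_lit 4)), (nat_lit 8, .negSucc (nat_lit 7)), (nat_lit 10, .negSucc (nat_lit 3)), (nat_lit 18, .negSucc (nat_lit 7)), (nat_lit 20, .negSucc (nat_lit 3)), (nat_lit 26, .ofNat (nat_lit 8)), (nat_lit 28, .ofNat (nat_lit 8)), (nat_lit 30, .ofNat (nat_lit 4)), (nat_lit 36, .ofNat (nat_lit 8)), (nat_lit 40, .ofNat (nat_lit 8)), (nat_lit 44, .ofNat (nat_lit 8)), (nat_lit 48, .negSucc (nat_lit 7))],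
  [(nat_lit 2, .ofNat (nat_lit 4)), (nat_lit 7, .ofNat (nat_lit 4)), (nat_lit 12, .negSucc (nat_lit 7)), (nat_lit 14, .negSucc (nat_lit 7)), (nat_lit 17, .ofNat (nat_lit 4)), (nat_lit 22, .negSucc (nat_lit 7)), (nat_lit 24, .negSucc (nat_lit 7)), (nat_lit 27, .ofNat (nat_lit 4)), (nat_lit 32, .ofNat (nat_lit 8)), (nat_lit 34, .ofNat (nat_lit 8)), (nat_lit 37, .ofNat (nat_lit 8)), (nat_lit 38, .ofNat (nat_lit 8)), (nat_lit 39, .negSucc (nat_lit 7)), (nat_lit 41, .ofNat (nat_lit 8)), (nat_lit 46, .ofNat (nat_lit 8)), (nat_lit 51, .negSucc (nat_lit 7))],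
  [(nat_lit 0, .negSucc (nat_lit 1)), (nat_lit 4, .ofNat (nat_lit 2)), (nat_lit 6, .negSucc (nat_lit 1)), (nat_lit 10, .ofNat (nat_lit 2)), (nat_lit 16, .negSucc (nat_lit 1)), (nat_lit 20, .ofNat (nat_lit 2)), (nat_lit 26, .ofNat (nat_lit 2)), (nat_lit 28, .ofNat (nat_lit 8)), (nat_lit 30, .negSucc (nat_lit 1)), (nat_lit 48, .ofNat (nat_lit 8))],
  [(nat_lit 3, .ofNat (nat_lit 4)), (nat_lit 9, .ofNat (nat_lit 4)), (nat_lit 13, .negSucc (nat_lit 3)), (nat_lit 15, .negSucc (nat_lit 3)), (nat_lit 19, .ofNat (nat_lit 4)), (nat_lit 23, .negSucc (nat_lit 3)), (nat_lit 25, .negSucc (nat_lit 3)), (nat_lit 29, .ofNat (nat_lit 4)), (nat_lit 33, .ofNat (nat_lit 4)), (nat_lit 35, .ofNat (nat_lit 4)), (nat_lit 42, .ofNat (nat_lit 4)), (nat_lit 43, .negSucc (nat_lit 3)), (nat_lit 45, .ofNat (nat_lit 4)), (nat_lit 47, .negSucc (nat_lit 3)), (nat_lit 49, .ofNat (nat_lit 4)),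 (nat_lit 50, .ofNat (nat_lit 4))],
  [(nat_lit 0, .ofNat (nat_lit 4)), (nat_lit 1, .negSucc (nat_lit 7)), (nat_lit 6, .negSucc (nat_lit 3)), (nat_lit 8, .ofNat (nat_lit 8)), (nat_lit 16, .negSucc (nat_lit 3)), (nat_lit 18, .ofNat (nat_lit 8)), (nat_lit 26, .ofNat (nat_lit 4)), (nat_lit 28, .negSucc (nat_lit 7)), (nat_lit 30, .ofNat (nat_lit 8)), (nat_lit 36, .ofNat (nat_lit 8)), (nat_lit 40, .negSucc (nat_lit 7)), (nat_lit 44, .negSucc (nat_lit 7)), (nat_lit 48, .ofNat (nat_lit 8))],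
  [(nat_lit 5, .ofNat (nat_lit 4)), (nat_lit 11, .ofNat (nat_lit 4)), (nat_lit 12, .negSucc (nat_lit 7)), (nat_lit 14, .ofNat (nat_lit 8)), (nat_lit 21, .ofNat (nat_lit 4)), (nat_lit 22, .negSucc (nat_lit 7)), (nat_lit 24, .ofNat (nat_lit 8)), (nat_lit 31, .ofNat (nat_lit 4)), (nat_lit 32, .ofNat (nat_lit 8)), (nat_lit 34, .negSucc (nat_lit 7)), (nat_lit 37, .ofNat (nat_lit 8)), (nat_lit 38, .ofNat (nat_lit 8)), (nat_lit 39, .negSucc (nat_lit 7)), (nat_lit 41, .negSucc (nat_lit 7)), (nat_lit 46, .negSucc (nat_lit 7)), (nat_lit 51, .ofNat (nat_lit 8))],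
  [(nat_lit 2, .ofNat (nat_lit 2)), (nat_lit 5, .ofNat (nat_lit 2)), (nat_lit 7, .negSucc (nat_lit 1)), (nat_lit 11, .negSucc (nat_lit 1)), (nat_lit 17, .negSucc (nat_lit 1)), (nat_lit 21, .negSucc (nat_lit 1)), (nat_lit 27, .ofNat (nat_lit 2)), (nat_lit 31, .ofNat (nat_lit 2)), (nat_lit 32, .ofNat (nat_lit 8)), (nat_lit 39, .ofNat (nat_lit 8))],
  [(nat_lit 3, .ofNat (nat_lit 4)), (nat_lit 9, .negSucc (nat_lit 3)), (nat_lit 13, .ofNat (nat_lit 4)), (nat_lit 15, .negSucc (nat_lit 3)), (nat_lit 19, .negSucc (nat_lit 3)), (nat_lit 23, .ofNat (nat_lit 4)), (nat_lit 25, .negSucc (nat_lit 3)), (nat_lit 29, .ofNat (nat_lit 4)), (nat_lit 33, .ofNat (nat_lit 4)), (nat_lit 35, .ofNat (nat_lit 4)), (nat_lit 42, .ofNat (nat_lit 4)), (nat_lit 43, .ofNat (nat_lit 4)), (nat_lit 45, .ofNat (nat_lit 4)), (nat_lit 47, .ofNat (nat_lit 4)), (nat_lit 49, .negSucc (nat_lit 3)), (nat_lit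 50, .negSucc (nat_lit 3))],
  [(nat_lit 2, .ofNat (nat_lit 2)), (nat_lit 5, .negSucc (nat_lit 1)), (nat_lit 7, .negSucc (nat_lit 1)), (nat_lit 11, .ofNat (nat_lit 2)), (nat_lit 17, .negSucc (nat_lit 1)), (nat_lit 21, .ofNat (nat_lit 2)), (nat_lit 27, .ofNat (nat_lit 2)), (nat_lit 31, .negSucc (nat_lit 1)), (nat_lit 34, .ofNat (nat_lit 8)), (nat_lit 51, .ofNat (nat_lit 8))],
  [(nat_lit 3, .ofNat (nat_lit 4)), (nat_lit 9, .negSucc (nat_lit 3)), (nat_lit 13, .negSucc (nat_lit 3)), (nat_lit 15, .ofNat (nat_lit 4)), (nat_lit 19, .negSucc (nat_lit 3)), (nat_lit 23, .negSucc (nat_lit 3)), (nat_lit 25, .ofNat (nat_lit 4)), (nat_lit 29, .ofNat (nat_lit 4)), (nat_lit 33, .ofNat (nat_lit 4)), (nat_lit 35, .ofNat (nat_lit 4)), (nat_lit 42, .negSucc (nat_lit 3)), (nat_lit 43, .ofNat (nat_lit 4)), (nat_lit 45, .negSucc (nat_lit 3)), (nat_lit 47, .ofNat (nat_lit 4)), (nat_lit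 49, .ofNat (nat_lit 4)), (nat_lit 50, .ofNat (nat_lit 4))],
  [(nat_lit 0, .negSucc (nat_lit 1)), (nat_lit 1, .ofNat (nat_lit 8)), (nat_lit 4, .negSucc (nat_lit 1)), (nat_lit 6, .ofNat (nat_lit 2)), (nat_lit 10, .ofNat (nat_lit 2)), (nat_lit 16, .ofNat (nat_lit 2)), (nat_lit 20, .ofNat (nat_lit 2)), (nat_lit 26, .ofNat (nat_lit 2)), (nat_lit 30, .ofNat (nat_lit 2)), (nat_lit 36, .ofNat (nat_lit 8))],
  [(nat_lit 2, .negSucc (nat_lit 1)), (nat_lit 5, .negSucc (nat_lit 1)), (nat_lit 7, .negSucc (nat_lit 1)), (nat_lit 11, .negSucc (nat_lit 1)), (nat_lit 12, .ofNat (nat_lit 8)), (nat_lit 17, .ofNat (nat_lit 2)), (nat_lit 21, .ofNat (nat_lit 2)), (nat_lit 27, .ofNat (nat_lit 2)), (nat_lit 31, .ofNat (nat_lit 2)), (nat_lit 37, .ofNat (nat_lit 8))],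
  [(nat_lit 2, .negSucc (nat_lit 1)), (nat_lit 5, .negSucc (nat_lit 1)), (nat_lit 7, .ofNat (nat_lit 2)), (nat_lit 11, .ofNat (nat_lit 2)), (nat_lit 17, .negSucc (nat_lit 1)), (nat_lit 21, .negSucc (nat_lit 1)), (nat_lit 22, .ofNat (nat_lit 8)), (nat_lit 27, .ofNat (nat_lit 2)), (nat_lit 31, .ofNat (nat_lit 2)), (nat_lit 38, .ofNat (nat_lit 8))],
  [(nat_lit 2, .negSucc (nat_lit 1)), (nat_lit 5, .negSucc (nat_lit 1)), (nat_lit 7, .ofNat (nat_lit 2)), (nat_lit 11, .ofNat (nat_lit 2)), (nat_lit 17, .ofNat (nat_lit 2)), (nat_lit 21, .ofNat (nat_lit 2)), (nat_lit 27, .negSucc (nat_lit 1)), (nat_lit 31, .negSucc (nat_lit 1)), (nat_lit 32, .ofNat (nat_lit 8)), (nat_lit 39, .ofNat (nat_lit 8))],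
  [(nat_lit 0, .ofNat (nat_lit 2)), (nat_lit 4, .negSucc (nat_lit 1)), (nat_lit 6, .negSucc (nat_lit 1)), (nat_lit 8, .ofNat (nat_lit 8)), (nat_lit 10, .ofNat (nat_lit 2)), (nat_lit 16, .ofNat (nat_lit 2)), (nat_lit 20, .negSucc (nat_lit 1)), (nat_lit 26, .ofNat (nat_lit 2)), (nat_lit 30, .negSucc (nat_lit 1)), (nat_lit 40, .ofNat (nat_lit 8))],
  [(nat_lit 2, .negSucc (nat_lit 1)), (nat_lit 5, .ofNat (nat_lit 2)), (nat_lit 7, .negSucc (nat_lit 1)), (nat_lit 11, .ofNat (nat_lit 2)), (nat_lit 14, .ofNat (nat_lit 8)), (nat_lit 17, .ofNat (nat_lit 2)), (nat_lit 21, .negSucc (nat_lit 1)), (nat_lit 27, .ofNat (nat_lit 2)), (nat_lit 31, .negSucc (nat_lit 1)), (nat_lit 41, .ofNat (nat_lit 8))],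
  [(nat_lit 3, .negSucc (nat_lit 3)), (nat_lit 9, .ofNat (nat_lit 4)), (nat_lit 13, .negSucc (nat_lit 3)), (nat_lit 15, .ofNat (nat_lit 4)), (nat_lit 19, .negSucc (nat_lit 3)), (nat_lit 23, .ofNat (nat_lit 4)), (nat_lit 25, .ofNat (nat_lit 4)), (nat_lit 29, .ofNat (nat_lit 4)), (nat_lit 33, .ofNat (nat_lit 4)), (nat_lit 35, .negSucc (nat_lit 3)), (nat_lit 42, .ofNat (nat_lit 4)), (nat_lit 43, .ofNat (nat_lit 4)), (nat_lit 45, .ofNat (nat_lit 4)), (nat_lit 47, .negSucc (nat_lit 3)), (nat_lit 49, .negSucc (nat_lit 3)), (nat_lit 50, .ofNat (nat_lit 4))],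
  [(nat_lit 3, .negSucc (nat_lit 3)), (nat_lit 9, .ofNat (nat_lit 4)), (nat_lit 13, .negSucc (nat_lit 3)), (nat_lit 15, .ofNat (nat_lit 4)), (nat_lit 19, .ofNat (nat_lit 4)), (nat_lit 23, .ofNat (nat_lit 4)), (nat_lit 25, .negSucc (nat_lit 3)), (nat_lit 29, .negSucc (nat_lit 3)), (nat_lit 33, .ofNat (nat_lit 4)), (nat_lit 35, .ofNat (nat_lit 4)), (nat_lit 42, .ofNat (nat_lit 4)), (nat_lit 43, .ofNat (nat_lit 4)), (nat_lit 45, .negSucc (nat_lit 3)), (nat_lit 47, .ofNat (nat_lit 4)), (nat_lit 49, .ofNat (nat_lit 4)), (nat_lit 50, .negSucc (nat_lit 3))],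
  [(nat_lit 0, .ofNat (nat_lit 2)), (nat_lit 4, .negSucc (nat_lit 1)), (nat_lit 6, .ofNat (nat_lit 2)), (nat_lit 10, .negSucc (nat_lit 1)), (nat_lit 16, .negSucc (nat_lit 1)), (nat_lit 18, .ofNat (nat_lit 8)), (nat_lit 20, .ofNat (nat_lit 2)), (nat_lit 26, .ofNat (nat_lit 2)), (nat_lit 30, .negSucc (nat_lit 1)), (nat_lit 44, .ofNat (nat_lit 8))],
  [(nat_lit 3, .negSucc (nat_lit 3)), (nat_lit 9, .negSucc (nat_lit 3)), (nat_lit 13, .ofNat (nat_lit 4)), (nat_lit 15, .ofNat (nat_lit 4)), (nat_lit 19, .ofNat (nat_lit 4)), (nat_lit 23, .negSucc (nat_lit 3)), (nat_lit 25, .ofNat (nat_lit 4)), (nat_lit 29, .ofNat (nat_lit 4)), (nat_lit 33, .ofNat (nat_lit 4)), (nat_lit 35, .negSucc (nat_lit 3)), (nat_lit 42, .ofNat (nat_lit 4)), (nat_lit 43, .negSucc (nat_lit 3)), (nat_lit 45, .ofNat (nat_lit 4)), (nat_lit 47, .ofNat (nat_lit 4)), (nat_lit 49, .ofNat (nat_lit 4)), (nat_lit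 50, .negSucc (nat_lit 3))],
  [(nat_lit 2, .negSucc (nat_lit 1)), (nat_lit 5, .ofNat (nat_lit 2)), (nat_lit 7, .ofNat (nat_lit 2)), (nat_lit 11, .negSucc (nat_lit 1)), (nat_lit 17, .negSucc (nat_lit 1)), (nat_lit 21, .ofNat (nat_lit 2)), (nat_lit 24, .ofNat (nat_lit 8)), (nat_lit 27, .ofNat (nat_lit 2)), (nat_lit 31, .negSucc (nat_lit 1)), (nat_lit 46, .ofNat (nat_lit 8))],
  [(nat_lit 3, .negSucc (nat_lit 3)), (nat_lit 9, .ofNat (nat_lit 4)), (nat_lit 13, .ofNat (nat_lit 4)), (nat_lit 15, .negSucc (nat_lit 3)), (nat_lit 19, .ofNat (nat_lit 4)), (nat_lit 23, .negSucc (nat_lit 3)), (nat_lit 25, .ofNat (nat_lit 4)), (nat_lit 29, .negSucc (nat_lit 3)), (nat_lit 33, .ofNat (nat_lit 4)), (nat_lit 35, .ofNat (nat_lit 4)), (nat_lit 42, .negSucc (nat_lit 3)), (nat_lit 43, .ofNat (nat_lit 4)), (nat_lit 45, .ofNat (nat_lit 4)), (nat_lit 47, .ofNat (nat_lit 4)), (nat_lit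 49, .negSucc (nat_lit 3)), (nat_lit 50, .ofNat (nat_lit 4))],
  [(nat_lit 0, .ofNat (nat_lit 2)), (nat_lit 4, .negSucc (nat_lit 1)), (nat_lit 6, .ofNat (nat_lit 2)), (nat_lit 10, .negSucc (nat_lit 1)), (nat_lit 16, .ofNat (nat_lit 2)), (nat_lit 20, .negSucc (nat_lit 1)), (nat_lit 26, .negSucc (nat_lit 1)), (nat_lit 28, .ofNat (nat_lit 8)), (nat_lit 30, .ofNat (nat_lit 2)), (nat_lit 48, .ofNat (nat_lit 8))],
  [(nat_lit 3, .negSucc (nat_lit 3)), (nat_lit 9, .negSucc (nat_lit 3)), (nat_lit 13, .ofNat (nat_lit 4)), (nat_lit 15, .ofNat (nat_lit 4)), (nat_lit 19, .ofNat (nat_lit 4)), (nat_lit 23, .ofNat (nat_lit 4)), (nat_lit 25, .negSucc (nat_lit 3)), (nat_lit 29, .ofNat (nat_lit 4)), (nat_lit 33, .negSucc (nat_lit 3)), (nat_lit 35, .ofNat (nat_lit 4)), (nat_lit 42, .negSucc (nat_lit 3)), (nat_lit 43, .ofNat (nat_lit 4)), (nat_lit 45, .ofNat (nat_lit 4)), (nat_lit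 47, .negSucc (nat_lit 3)), (nat_lit 49, .ofNat (nat_lit 4)), (nat_lit 50, .ofNat (nat_lit 4))],
  [(nat_lit 3, .negSucc (nat_lit 3)), (nat_lit 9, .ofNat (nat_lit 4)), (nat_lit 13, .ofNat (nat_lit 4)), (nat_lit 15, .negSucc (nat_lit 3)), (nat_lit 19, .negSucc (nat_lit 3)), (nat_lit 23, .ofNat (nat_lit 4)), (nat_lit 25, .ofNat (nat_lit 4)), (nat_lit 29, .ofNat (nat_lit 4)), (nat_lit 33, .negSucc (nat_lit 3)), (nat_lit 35, .ofNat (nat_lit 4)), (nat_lit 42, .ofNat (nat_lit 4)), (nat_lit 43, .negSucc (nat_lit 3)), (nat_lit 45, .negSucc (nat_lit 3)), (nat_lit 47, .ofNat (nat_lit 4)), (nat_lit 49, .ofNat (nat_lit 4)), (nat_lit 50, .ofNat (nat_lit 4))],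
  [(nat_lit 2, .negSucc (nat_lit 1)), (nat_lit 5, .ofNat (nat_lit 2)), (nat_lit 7, .ofNat (nat_lit 2)), (nat_lit 11, .negSucc (nat_lit 1)), (nat_lit 17, .ofNat (nat_lit 2)), (nat_lit 21, .negSucc (nat_lit 1)), (nat_lit 27, .negSucc (nat_lit 1)), (nat_lit 31, .ofNat (nat_lit 2)), (nat_lit 34, .ofNat (nat_lit 8)), (nat_lit 51, .ofNat (nat_lit 8))]]

/-- The matrix of the root 19, times sixteen. -/
def mat19 : List (List (Nat × Int)) := [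
  [(nat_lit 0, .ofNat (nat_lit 8)), (nat_lit 2, .negSucc (nat_lit 7)), (nat_lit 4, .ofNat (nat_lit 8)), (nat_lit 5, .ofNat (nat_lit 8))],
  [(nat_lit 1, .ofNat (nat_lit 16))],
  [(nat_lit 0, .negSucc (nat_lit 7)), (nat_lit 2, .ofNat (nat_lit 8)), (nat_lit 4, .ofNat (nat_lit 8)), (nat_lit 5, .ofNat (nat_lit 8))],
  [(nat_lit 3, .ofNat (nat_lit 16))],
  [(nat_lit 0, .ofNat (nat_lit 8)), (nat_lit 2, .ofNat (nat_lit 8)), (nat_lit 4, .ofNat (nat_lit 8)), (nat_lit 5, .negSucc (nat_lit 7))],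
  [(nat_lit 0, .ofNat (nat_lit 8)), (nat_lit 2, .ofNat (nat_lit 8)), (nat_lit 4, .negSucc (nat_lit 7)), (nat_lit 5, .ofNat (nat_lit 8))],
  [(nat_lit 6, .ofNat (nat_lit 8)), (nat_lit 7, .ofNat (nat_lit 8)), (nat_lit 10, .ofNat (nat_lit 8)), (nat_lit 11, .negSucc (nat_lit 7))],
  [(nat_lit 6, .ofNat (nat_lit 8)), (nat_lit 7, .ofNat (nat_lit 8)), (nat_lit 10, .negSucc (nat_lit 7)), (nat_lit 11, .ofNat (nat_lit 8))],
  [(nat_lit 14, .ofNat (nat_lit 16))],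
  [(nat_lit 15, .ofNat (nat_lit 16))],
  [(nat_lit 6, .ofNat (nat_lit 8)), (nat_lit 7, .negSucc (nat_lit 7)), (nat_lit 10, .ofNat (nat_lit 8)), (nat_lit 11, .ofNat (nat_lit 8))],
  [(nat_lit 6, .negSucc (nat_lit 7)), (nat_lit 7, .ofNat (nat_lit 8)), (nat_lit 10, .ofNat (nat_lit 8)), (nat_lit 11, .ofNat (nat_lit 8))],
  [(nat_lit 12, .ofNat (nat_lit 16))],
  [(nat_lit 13, .ofNat (nat_lit 16))],
  [(nat_lit 8, .ofNat (nat_lit 16))],
  [(nat_lit 9, .ofNat (nat_lit 16))],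
  [(nat_lit 16, .ofNat (nat_lit 8)), (nat_lit 17, .ofNat (nat_lit 8)), (nat_lit 20, .ofNat (nat_lit 8)), (nat_lit 21, .negSucc (nat_lit 7))],
  [(nat_lit 16, .ofNat (nat_lit 8)), (nat_lit 17, .ofNat (nat_lit 8)), (nat_lit 20, .negSucc (nat_lit 7)), (nat_lit 21, .ofNat (nat_lit 8))],
  [(nat_lit 24, .ofNat (nat_lit 16))],
  [(nat_lit 25, .ofNat (nat_lit 16))],
  [(nat_lit 16, .ofNat (nat_lit 8)), (nat_lit 17, .negSucc (nat_lit 7)), (nat_lit 20, .ofNat (nat_lit 8)), (nat_lit 21, .ofNat (nat_lit 8))],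
  [(nat_lit 16, .negSucc (nat_lit 7)), (nat_lit 17, .ofNat (nat_lit 8)), (nat_lit 20, .ofNat (nat_lit 8)), (nat_lit 21, .ofNat (nat_lit 8))],
  [(nat_lit 22, .ofNat (nat_lit 16))],
  [(nat_lit 23, .ofNat (nat_lit 16))],
  [(nat_lit 18, .ofNat (nat_lit 16))],
  [(nat_lit 19, .ofNat (nat_lit 16))],
  [(nat_lit 26, .ofNat (nat_lit 8)), (nat_lit 27, .ofNat (nat_lit 8)), (nat_lit 30, .ofNat (nat_lit 8)), (nat_lit 31, .negSucc (nat_lit 7))],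
  [(nat_lit 26, .ofNat (nat_lit 8)), (nat_lit 27, .ofNat (nat_lit 8)), (nat_lit 30, .negSucc (nat_lit 7)), (nat_lit 31, .ofNat (nat_lit 8))],
  [(nat_lit 34, .ofNat (nat_lit 16))],
  [(nat_lit 35, .ofNat (nat_lit 16))],
  [(nat_lit 26, .ofNat (nat_lit 8)), (nat_lit 27, .negSucc (nat_lit 7)), (nat_lit 30, .ofNat (nat_lit 8)), (nat_lit 31, .ofNat (nat_lit 8))],
  [(nat_lit 26, .negSucc (nat_lit 7)), (nat_lit 27, .ofNat (nat_lit 8)), (nat_lit 30, .ofNat (nat_lit 8)), (nat_lit 31, .ofNat (nat_lit 8))],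
  [(nat_lit 32, .ofNat (nat_lit 16))],
  [(nat_lit 33, .ofNat (nat_lit 16))],
  [(nat_lit 28, .ofNat (nat_lit 16))],
  [(nat_lit 29, .ofNat (nat_lit 16))],
  [(nat_lit 36, .ofNat (nat_lit 16))],
  [(nat_lit 37, .ofNat (nat_lit 16))],
  [(nat_lit 38, .ofNat (nat_lit 16))],
  [(nat_lit 39, .ofNat (nat_lit 16))],
  [(nat_lit 41, .ofNat (nat_lit 16))],
  [(nat_lit 40, .ofNat (nat_lit 16))],
  [(nat_lit 43, .ofNat (nat_lit 16))],
  [(nat_lit 42, .ofNat (nat_lit 16))],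
  [(nat_lit 46, .ofNat (nat_lit 16))],
  [(nat_lit 47, .ofNat (nat_lit 16))],
  [(nat_lit 44, .ofNat (nat_lit 16))],
  [(nat_lit 45, .ofNat (nat_lit 16))],
  [(nat_lit 51, .ofNat (nat_lit 16))],
  [(nat_lit 50, .ofNat (nat_lit 16))],
  [(nat_lit 49, .ofNat (nat_lit 16))],
  [(nat_lit 48, .ofNat (nat_lit 16))]]

/-- The matrix of the root 20, times sixteen. -/
def mat20 : List (List (Nat × Int)) := [
  [(nat_lit 0, .ofNat (nat_lit 16))],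
  [(nat_lit 1, .ofNat (nat_lit 16))],
  [(nat_lit 2, .ofNat (nat_lit 16))],
  [(nat_lit 3, .ofNat (nat_lit 16))],
  [(nat_lit 4, .ofNat (nat_lit 16))],
  [(nat_lit 5, .ofNat (nat_lit 16))],
  [(nat_lit 6, .ofNat (nat_lit 16))],
  [(nat_lit 7, .ofNat (nat_lit 16))],
  [(nat_lit 8, .ofNat (nat_lit 16))],
  [(nat_lit 9, .ofNat (nat_lit 16))],
  [(nat_lit 10, .ofNat (nat_lit 16))],
  [(nat_lit 11, .ofNat (nat_lit 16))],
  [(nat_lit 12, .ofNat (nat_lit 16))],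
  [(nat_lit 13, .ofNat (nat_lit 16))],
  [(nat_lit 14, .ofNat (nat_lit 16))],
  [(nat_lit 15, .ofNat (nat_lit 16))],
  [(nat_lit 26, .ofNat (nat_lit 16))],
  [(nat_lit 27, .ofNat (nat_lit 16))],
  [(nat_lit 28, .ofNat (nat_lit 16))],
  [(nat_lit 29, .ofNat (nat_lit 16))],
  [(nat_lit 30, .ofNat (nat_lit 16))],
  [(nat_lit 31, .ofNat (nat_lit 16))],
  [(nat_lit 32, .ofNat (nat_lit 16))],
  [(nat_lit 33, .ofNat (nat_lit 16))],
  [(nat_lit 34, .ofNat (nat_lit 16))],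
  [(nat_lit 35, .ofNat (nat_lit 16))],
  [(nat_lit 16, .ofNat (nat_lit 16))],
  [(nat_lit 17, .ofNat (nat_lit 16))],
  [(nat_lit 18, .ofNat (nat_lit 16))],
  [(nat_lit 19, .ofNat (nat_lit 16))],
  [(nat_lit 20, .ofNat (nat_lit 16))],
  [(nat_lit 21, .ofNat (nat_lit 16))],
  [(nat_lit 22, .ofNat (nat_lit 16))],
  [(nat_lit 23, .ofNat (nat_lit 16))],
  [(nat_lit 24, .ofNat (nat_lit 16))],
  [(nat_lit 25, .ofNat (nat_lit 16))],
  [(nat_lit 36, .ofNat (nat_lit 16))],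
  [(nat_lit 37, .ofNat (nat_lit 16))],
  [(nat_lit 39, .ofNat (nat_lit 16))],
  [(nat_lit 38, .ofNat (nat_lit 16))],
  [(nat_lit 40, .ofNat (nat_lit 16))],
  [(nat_lit 41, .ofNat (nat_lit 16))],
  [(nat_lit 43, .ofNat (nat_lit 16))],
  [(nat_lit 42, .ofNat (nat_lit 16))],
  [(nat_lit 48, .ofNat (nat_lit 16))],
  [(nat_lit 49, .ofNat (nat_lit 16))],
  [(nat_lit 51, .ofNat (nat_lit 16))],
  [(nat_lit 50, .ofNat (nat_lit 16))],
  [(nat_lit 44, .ofNat (nat_lit 16))],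
  [(nat_lit 45, .ofNat (nat_lit 16))],
  [(nat_lit 47, .ofNat (nat_lit 16))],
  [(nat_lit 46, .ofNat (nat_lit 16))]]

/-- The matrix of the root 21, times sixteen. -/
def mat21 : List (List (Nat × Int)) := [
  [(nat_lit 1, .ofNat (nat_lit 16)), (nat_lit 4, .ofNat (nat_lit 8)), (nat_lit 18, .negSucc (nat_lit 15)), (nat_lit 20, .ofNat (nat_lit 8))],
  [(nat_lit 0, .ofNat (nat_lit 4)), (nat_lit 4, .ofNat (nat_lit 4)), (nat_lit 16, .negSucc (nat_lit 3)), (nat_lit 20, .negSucc (nat_lit 3))],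
  [(nat_lit 2, .negSucc (nat_lit 7)), (nat_lit 17, .ofNat (nat_lit 8)), (nat_lit 22, .ofNat (nat_lit 16)), (nat_lit 24, .ofNat (nat_lit 16))],
  [(nat_lit 3, .negSucc (nat_lit 7)), (nat_lit 19, .ofNat (nat_lit 8)), (nat_lit 23, .ofNat (nat_lit 8)), (nat_lit 25, .ofNat (nat_lit 8))],
  [(nat_lit 0, .ofNat (nat_lit 8)), (nat_lit 1, .ofNat (nat_lit 16)), (nat_lit 16, .ofNat (nat_lit 8)), (nat_lit 18, .ofNat (nat_lit 16))],
  [(nat_lit 5, .negSucc (nat_lit 7)), (nat_lit 21, .ofNat (nat_lit 8)), (nat_lit 22, .ofNat (nat_lit 16)), (nat_lit 24, .negSucc (nat_lit 15))],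
  [(nat_lit 6, .negSucc (nat_lit 7)), (nat_lit 26, .ofNat (nat_lit 8)), (nat_lit 36, .ofNat (nat_lit 16)), (nat_lit 44, .ofNat (nat_lit 16))],
  [(nat_lit 7, .negSucc (nat_lit 7)), (nat_lit 27, .ofNat (nat_lit 8)), (nat_lit 38, .ofNat (nat_lit 16)), (nat_lit 46, .ofNat (nat_lit 16))],
  [(nat_lit 8, .negSucc (nat_lit 7)), (nat_lit 28, .ofNat (nat_lit 8)), (nat_lit 40, .ofNat (nat_lit 8)), (nat_lit 48, .ofNat (nat_lit 8))],
  [(nat_lit 9, .negSucc (nat_lit 7)), (nat_lit 29, .ofNat (nat_lit 8)), (nat_lit 42, .ofNat (nat_lit 8)), (nat_lit 50, .ofNat (nat_lit 8))],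
  [(nat_lit 10, .negSucc (nat_lit 7)), (nat_lit 30, .ofNat (nat_lit 8)), (nat_lit 36, .ofNat (nat_lit 16)), (nat_lit 44, .negSucc (nat_lit 15))],
  [(nat_lit 11, .negSucc (nat_lit 7)), (nat_lit 31, .ofNat (nat_lit 8)), (nat_lit 38, .ofNat (nat_lit 16)), (nat_lit 46, .negSucc (nat_lit 15))],
  [(nat_lit 12, .negSucc (nat_lit 7)), (nat_lit 32, .ofNat (nat_lit 8)), (nat_lit 37, .ofNat (nat_lit 8)), (nat_lit 39, .ofNat (nat_lit 8))],
  [(nat_lit 13, .negSucc (nat_lit 7)), (nat_lit 33, .ofNat (nat_lit 8)), (nat_lit 45, .ofNat (nat_lit 8)), (nat_lit 47, .ofNat (nat_lit 8))],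
  [(nat_lit 14, .negSucc (nat_lit 7)), (nat_lit 34, .ofNat (nat_lit 8)), (nat_lit 41, .ofNat (nat_lit 8)), (nat_lit 51, .ofNat (nat_lit 8))],
  [(nat_lit 15, .negSucc (nat_lit 7)), (nat_lit 35, .ofNat (nat_lit 8)), (nat_lit 43, .ofNat (nat_lit 8)), (nat_lit 49, .ofNat (nat_lit 8))],
  [(nat_lit 1, .negSucc (nat_lit 15)), (nat_lit 4, .ofNat (nat_lit 8)), (nat_lit 18, .ofNat (nat_lit 16)), (nat_lit 20, .ofNat (nat_lit 8))],
  [(nat_lit 2, .ofNat (nat_lit 8)), (nat_lit 17, .negSucc (nat_lit 7)), (nat_lit 22, .ofNat (nat_lit 16)), (nat_lit 24, .ofNat (nat_lit 16))],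
  [(nat_lit 0, .negSucc (nat_lit 3)), (nat_lit 4, .ofNat (nat_lit 4)), (nat_lit 16, .ofNat (nat_lit 4)), (nat_lit 20, .negSucc (nat_lit 3))],
  [(nat_lit 3, .ofNat (nat_lit 8)), (nat_lit 19, .negSucc (nat_lit 7)), (nat_lit 23, .ofNat (nat_lit 8)), (nat_lit 25, .ofNat (nat_lit 8))],
  [(nat_lit 0, .ofNat (nat_lit 8)), (nat_lit 1, .negSucc (nat_lit 15)), (nat_lit 16, .ofNat (nat_lit 8)), (nat_lit 18, .negSucc (nat_lit 15))],
  [(nat_lit 5, .ofNat (nat_lit 8)), (nat_lit 21, .negSucc (nat_lit 7)), (nat_lit 22, .ofNat (nat_lit 16)), (nat_lit 24, .negSucc (nat_lit 15))],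
  [(nat_lit 2, .ofNat (nat_lit 4)), (nat_lit 5, .ofNat (nat_lit 4)), (nat_lit 17, .ofNat (nat_lit 4)), (nat_lit 21, .ofNat (nat_lit 4))],
  [(nat_lit 3, .ofNat (nat_lit 8)), (nat_lit 19, .ofNat (nat_lit 8)), (nat_lit 23, .negSucc (nat_lit 7)), (nat_lit 25, .ofNat (nat_lit 8))],
  [(nat_lit 2, .ofNat (nat_lit 4)), (nat_lit 5, .negSucc (nat_lit 3)), (nat_lit 17, .ofNat (nat_lit 4)), (nat_lit 21, .negSucc (nat_lit 3))],
  [(nat_lit 3, .ofNat (nat_lit 8)), (nat_lit 19, .ofNat (nat_lit 8)), (nat_lit 23, .ofNat (nat_lit 8)), (nat_lit 25, .negSucc (nat_lit 7))],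
  [(nat_lit 6, .ofNat (nat_lit 8)), (nat_lit 26, .negSucc (nat_lit 7)), (nat_lit 36, .ofNat (nat_lit 16)), (nat_lit 44, .ofNat (nat_lit 16))],
  [(nat_lit 7, .ofNat (nat_lit 8)), (nat_lit 27, .negSucc (nat_lit 7)), (nat_lit 38, .ofNat (nat_lit 16)), (nat_lit 46, .ofNat (nat_lit 16))],
  [(nat_lit 8, .ofNat (nat_lit 8)), (nat_lit 28, .negSucc (nat_lit 7)), (nat_lit 40, .ofNat (nat_lit 8)), (nat_lit 48, .ofNat (nat_lit 8))],
  [(nat_lit 9, .ofNat (nat_lit 8)), (nat_lit 29, .negSucc (nat_lit 7)), (nat_lit 42, .ofNat (nat_lit 8)), (nat_lit 50, .ofNat (nat_lit 8))],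
  [(nat_lit 10, .ofNat (nat_lit 8)), (nat_lit 30, .negSucc (nat_lit 7)), (nat_lit 36, .ofNat (nat_lit 16)), (nat_lit 44, .negSucc (nat_lit 15))],
  [(nat_lit 11, .ofNat (nat_lit 8)), (nat_lit 31, .negSucc (nat_lit 7)), (nat_lit 38, .ofNat (nat_lit 16)), (nat_lit 46, .negSucc (nat_lit 15))],
  [(nat_lit 12, .ofNat (nat_lit 8)), (nat_lit 32, .negSucc (nat_lit 7)), (nat_lit 37, .ofNat (nat_lit 8)), (nat_lit 39, .ofNat (nat_lit 8))],
  [(nat_lit 13, .ofNat (nat_lit 8)), (nat_lit 33, .negSucc (nat_lit 7)), (nat_lit 45, .ofNat (nat_lit 8)), (nat_lit 47, .ofNat (nat_lit 8))],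
  [(nat_lit 14, .ofNat (nat_lit 8)), (nat_lit 34, .negSucc (nat_lit 7)), (nat_lit 41, .ofNat (nat_lit 8)), (nat_lit 51, .ofNat (nat_lit 8))],
  [(nat_lit 15, .ofNat (nat_lit 8)), (nat_lit 35, .negSucc (nat_lit 7)), (nat_lit 43, .ofNat (nat_lit 8)), (nat_lit 49, .ofNat (nat_lit 8))],
  [(nat_lit 6, .ofNat (nat_lit 4)), (nat_lit 10, .ofNat (nat_lit 4)), (nat_lit 26, .ofNat (nat_lit 4)), (nat_lit 30, .ofNat (nat_lit 4))],
  [(nat_lit 12, .ofNat (nat_lit 8)), (nat_lit 32, .ofNat (nat_lit 8)), (nat_lit 37, .negSucc (nat_lit 7)), (nat_lit 39, .ofNat (nat_lit 8))],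
  [(nat_lit 7, .ofNat (nat_lit 4)), (nat_lit 11, .ofNat (nat_lit 4)), (nat_lit 27, .ofNat (nat_lit 4)), (nat_lit 31, .ofNat (nat_lit 4))],
  [(nat_lit 12, .ofNat (nat_lit 8)), (nat_lit 32, .ofNat (nat_lit 8)), (nat_lit 37, .ofNat (nat_lit 8)), (nat_lit 39, .negSucc (nat_lit 7))],
  [(nat_lit 8, .ofNat (nat_lit 8)), (nat_lit 28, .ofNat (nat_lit 8)), (nat_lit 40, .negSucc (nat_lit 7)), (nat_lit 48, .ofNat (nat_lit 8))],
  [(nat_lit 14, .ofNat (nat_lit 8)), (nat_lit 34, .ofNat (nat_lit 8)), (nat_lit 41, .negSucc (nat_lit 7)), (nat_lit 51, .ofNat (nat_lit 8))],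
  [(nat_lit 9, .ofNat (nat_lit 8)), (nat_lit 29, .ofNat (nat_lit 8)), (nat_lit 42, .negSucc (nat_lit 7)), (nat_lit 50, .ofNat (nat_lit 8))],
  [(nat_lit 15, .ofNat (nat_lit 8)), (nat_lit 35, .ofNat (nat_lit 8)), (nat_lit 43, .negSucc (nat_lit 7)), (nat_lit 49, .ofNat (nat_lit 8))],
  [(nat_lit 6, .ofNat (nat_lit 4)), (nat_lit 10, .negSucc (nat_lit 3)), (nat_lit 26, .ofNat (nat_lit 4)), (nat_lit 30, .negSucc (nat_lit 3))],
  [(nat_lit 13, .ofNat (nat_lit 8)), (nat_lit 33, .ofNat (nat_lit 8)), (nat_lit 45, .negSucc (nat_lit 7)), (nat_lit 47, .ofNat (nat_lit 8))],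
  [(nat_lit 7, .ofNat (nat_lit 4)), (nat_lit 11, .negSucc (nat_lit 3)), (nat_lit 27, .ofNat (nat_lit 4)), (nat_lit 31, .negSucc (nat_lit 3))],
  [(nat_lit 13, .ofNat (nat_lit 8)), (nat_lit 33, .ofNat (nat_lit 8)), (nat_lit 45, .ofNat (nat_lit 8)), (nat_lit 47, .negSucc (nat_lit 7))],
  [(nat_lit 8, .ofNat (nat_lit 8)), (nat_lit 28, .ofNat (nat_lit 8)), (nat_lit 40, .ofNat (nat_lit 8)), (nat_lit 48, .negSucc (nat_lit 7))],
  [(nat_lit 15, .ofNat (nat_lit 8)), (nat_lit 35, .ofNat (nat_lit 8)), (nat_lit 43, .ofNat (nat_lit 8)), (nat_lit 49, .negSucc (nat_lit 7))],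
  [(nat_lit 9, .ofNat (nat_lit 8)), (nat_lit 29, .ofNat (nat_lit 8)), (nat_lit 42, .ofNat (nat_lit 8)), (nat_lit 50, .negSucc (nat_lit 7))],
  [(nat_lit 14, .ofNat (nat_lit 8)), (nat_lit 34, .ofNat (nat_lit 8)), (nat_lit 41, .ofNat (nat_lit 8)), (nat_lit 51, .negSucc (nat_lit 7))]]

/-- The matrix of the root 22, times sixteen. -/
def mat22 : List (List (Nat × Int)) := [
  [(nat_lit 4, .ofNat (nat_lit 8)), (nat_lit 5, .ofNat (nat_lit 8)), (nat_lit 20, .ofNat (nat_lit 8)), (nat_lit 21, .ofNat (nat_lit 8))],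
  [(nat_lit 22, .ofNat (nat_lit 16))],
  [(nat_lit 4, .ofNat (nat_lit 8)), (nat_lit 5, .ofNat (nat_lit 8)), (nat_lit 20, .negSucc (nat_lit 7)), (nat_lit 21, .negSucc (nat_lit 7))],
  [(nat_lit 23, .ofNat (nat_lit 16))],
  [(nat_lit 0, .ofNat (nat_lit 8)), (nat_lit 2, .ofNat (nat_lit 8)), (nat_lit 16, .ofNat (nat_lit 8)), (nat_lit 17, .ofNat (nat_lit 8))],
  [(nat_lit 0, .ofNat (nat_lit 8)), (nat_lit 2, .ofNat (nat_lit 8)), (nat_lit 16, .negSucc (nat_lit 7)), (nat_lit 17, .negSucc (nat_lit 7))],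
  [(nat_lit 6, .negSucc (nat_lit 7)), (nat_lit 7, .ofNat (nat_lit 8)), (nat_lit 26, .ofNat (nat_lit 8)), (nat_lit 27, .ofNat (nat_lit 8))],
  [(nat_lit 6, .ofNat (nat_lit 8)), (nat_lit 7, .negSucc (nat_lit 7)), (nat_lit 26, .ofNat (nat_lit 8)), (nat_lit 27, .ofNat (nat_lit 8))],
  [(nat_lit 8, .negSucc (nat_lit 15))],
  [(nat_lit 9, .negSucc (nat_lit 15))],
  [(nat_lit 10, .negSucc (nat_lit 7)), (nat_lit 11, .ofNat (nat_lit 8)), (nat_lit 30, .ofNat (nat_lit 8)), (nat_lit 31, .ofNat (nat_lit 8))],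
  [(nat_lit 10, .ofNat (nat_lit 8)), (nat_lit 11, .negSucc (nat_lit 7)), (nat_lit 30, .ofNat (nat_lit 8)), (nat_lit 31, .ofNat (nat_lit 8))],
  [(nat_lit 32, .ofNat (nat_lit 16))],
  [(nat_lit 33, .ofNat (nat_lit 16))],
  [(nat_lit 14, .negSucc (nat_lit 15))],
  [(nat_lit 15, .negSucc (nat_lit 15))],
  [(nat_lit 4, .ofNat (nat_lit 8)), (nat_lit 5, .negSucc (nat_lit 7)), (nat_lit 20, .ofNat (nat_lit 8)), (nat_lit 21, .negSucc (nat_lit 7))],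
  [(nat_lit 4, .ofNat (nat_lit 8)), (nat_lit 5, .negSucc (nat_lit 7)), (nat_lit 20, .negSucc (nat_lit 7)), (nat_lit 21, .ofNat (nat_lit 8))],
  [(nat_lit 24, .ofNat (nat_lit 16))],
  [(nat_lit 25, .ofNat (nat_lit 16))],
  [(nat_lit 0, .ofNat (nat_lit 8)), (nat_lit 2, .negSucc (nat_lit 7)), (nat_lit 16, .ofNat (nat_lit 8)), (nat_lit 17, .negSucc (nat_lit 7))],
  [(nat_lit 0, .ofNat (nat_lit 8)), (nat_lit 2, .negSucc (nat_lit 7)), (nat_lit 16, .negSucc (nat_lit 7)), (nat_lit 17, .ofNat (nat_lit 8))],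
  [(nat_lit 1, .ofNat (nat_lit 16))],
  [(nat_lit 3, .ofNat (nat_lit 16))],
  [(nat_lit 18, .ofNat (nat_lit 16))],
  [(nat_lit 19, .ofNat (nat_lit 16))],
  [(nat_lit 6, .ofNat (nat_lit 8)), (nat_lit 7, .ofNat (nat_lit 8)), (nat_lit 26, .negSucc (nat_lit 7)), (nat_lit 27, .ofNat (nat_lit 8))],
  [(nat_lit 6, .ofNat (nat_lit 8)), (nat_lit 7, .ofNat (nat_lit 8)), (nat_lit 26, .ofNat (nat_lit 8)), (nat_lit 27, .negSucc (nat_lit 7))],
  [(nat_lit 28, .negSucc (nat_lit 15))],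
  [(nat_lit 29, .negSucc (nat_lit 15))],
  [(nat_lit 10, .ofNat (nat_lit 8)), (nat_lit 11, .ofNat (nat_lit 8)), (nat_lit 30, .negSucc (nat_lit 7)), (nat_lit 31, .ofNat (nat_lit 8))],
  [(nat_lit 10, .ofNat (nat_lit 8)), (nat_lit 11, .ofNat (nat_lit 8)), (nat_lit 30, .ofNat (nat_lit 8)), (nat_lit 31, .negSucc (nat_lit 7))],
  [(nat_lit 12, .ofNat (nat_lit 16))],
  [(nat_lit 13, .ofNat (nat_lit 16))],
  [(nat_lit 34, .negSucc (nat_lit 15))],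
  [(nat_lit 35, .negSucc (nat_lit 15))],
  [(nat_lit 38, .ofNat (nat_lit 16))],
  [(nat_lit 39, .ofNat (nat_lit 16))],
  [(nat_lit 36, .ofNat (nat_lit 16))],
  [(nat_lit 37, .ofNat (nat_lit 16))],
  [(nat_lit 40, .negSucc (nat_lit 15))],
  [(nat_lit 41, .negSucc (nat_lit 15))],
  [(nat_lit 42, .negSucc (nat_lit 15))],
  [(nat_lit 43, .negSucc (nat_lit 15))],
  [(nat_lit 46, .ofNat (nat_lit 16))],
  [(nat_lit 47, .ofNat (nat_lit 16))],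
  [(nat_lit 44, .ofNat (nat_lit 16))],
  [(nat_lit 45, .ofNat (nat_lit 16))],
  [(nat_lit 48, .negSucc (nat_lit 15))],
  [(nat_lit 49, .negSucc (nat_lit 15))],
  [(nat_lit 50, .negSucc (nat_lit 15))],
  [(nat_lit 51, .negSucc (nat_lit 15))]]

/-- The matrix of the root 23, times sixteen. -/
def mat23 : List (List (Nat × Int)) := [
  [(nat_lit 1, .ofNat (nat_lit 16)), (nat_lit 8, .negSucc (nat_lit 15)), (nat_lit 18, .negSucc (nat_lit 15)), (nat_lit 28, .negSucc (nat_lit 15))],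
  [(nat_lit 0, .ofNat (nat_lit 4)), (nat_lit 6, .negSucc (nat_lit 3)), (nat_lit 16, .negSucc (nat_lit 3)), (nat_lit 26, .negSucc (nat_lit 3))],
  [(nat_lit 2, .negSucc (nat_lit 7)), (nat_lit 7, .ofNat (nat_lit 8)), (nat_lit 17, .ofNat (nat_lit 8)), (nat_lit 27, .ofNat (nat_lit 8))],
  [(nat_lit 3, .negSucc (nat_lit 7)), (nat_lit 9, .ofNat (nat_lit 8)), (nat_lit 19, .ofNat (nat_lit 8)), (nat_lit 29, .ofNat (nat_lit 8))],
  [(nat_lit 36, .negSucc (nat_lit 15)), (nat_lit 40, .negSucc (nat_lit 15)), (nat_lit 44, .negSucc (nat_lit 15)), (nat_lit 48, .negSucc (nat_lit 15))],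
  [(nat_lit 5, .negSucc (nat_lit 15))],
  [(nat_lit 1, .negSucc (nat_lit 15)), (nat_lit 8, .ofNat (nat_lit 16)), (nat_lit 18, .negSucc (nat_lit 15)), (nat_lit 28, .negSucc (nat_lit 15))],
  [(nat_lit 2, .ofNat (nat_lit 8)), (nat_lit 7, .negSucc (nat_lit 7)), (nat_lit 17, .ofNat (nat_lit 8)), (nat_lit 27, .ofNat (nat_lit 8))],
  [(nat_lit 0, .negSucc (nat_lit 3)), (nat_lit 6, .ofNat (nat_lit 4)), (nat_lit 16, .negSucc (nat_lit 3)), (nat_lit 26, .negSucc (nat_lit 3))],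
  [(nat_lit 3, .ofNat (nat_lit 8)), (nat_lit 9, .negSucc (nat_lit 7)), (nat_lit 19, .ofNat (nat_lit 8)), (nat_lit 29, .ofNat (nat_lit 8))],
  [(nat_lit 36, .ofNat (nat_lit 16)), (nat_lit 40, .ofNat (nat_lit 16)), (nat_lit 44, .negSucc (nat_lit 15)), (nat_lit 48, .negSucc (nat_lit 15))],
  [(nat_lit 11, .negSucc (nat_lit 15))],
  [(nat_lit 12, .negSucc (nat_lit 7)), (nat_lit 14, .ofNat (nat_lit 8)), (nat_lit 37, .ofNat (nat_lit 8)), (nat_lit 41, .ofNat (nat_lit 8))],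
  [(nat_lit 13, .negSucc (nat_lit 7)), (nat_lit 15, .ofNat (nat_lit 8)), (nat_lit 45, .ofNat (nat_lit 8)), (nat_lit 49, .ofNat (nat_lit 8))],
  [(nat_lit 12, .ofNat (nat_lit 8)), (nat_lit 14, .negSucc (nat_lit 7)), (nat_lit 37, .ofNat (nat_lit 8)), (nat_lit 41, .ofNat (nat_lit 8))],
  [(nat_lit 13, .ofNat (nat_lit 8)), (nat_lit 15, .negSucc (nat_lit 7)), (nat_lit 45, .ofNat (nat_lit 8)), (nat_lit 49, .ofNat (nat_lit 8))],
  [(nat_lit 1, .negSucc (nat_lit 15)), (nat_lit 8, .negSucc (nat_lit 15)), (nat_lit 18, .ofNat (nat_lit 16)), (nat_lit 28, .negSucc (nat_lit 15))],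
  [(nat_lit 2, .ofNat (nat_lit 8)), (nat_lit 7, .ofNat (nat_lit 8)), (nat_lit 17, .negSucc (nat_lit 7)), (nat_lit 27, .ofNat (nat_lit 8))],
  [(nat_lit 0, .negSucc (nat_lit 3)), (nat_lit 6, .negSucc (nat_lit 3)), (nat_lit 16, .ofNat (nat_lit 4)), (nat_lit 26, .negSucc (nat_lit 3))],
  [(nat_lit 3, .ofNat (nat_lit 8)), (nat_lit 9, .ofNat (nat_lit 8)), (nat_lit 19, .negSucc (nat_lit 7)), (nat_lit 29, .ofNat (nat_lit 8))],
  [(nat_lit 36, .ofNat (nat_lit 16)), (nat_lit 40, .negSucc (nat_lit 15)), (nat_lit 44, .ofNat (nat_lit 16)), (nat_lit 48, .negSucc (nat_lit 15))],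
  [(nat_lit 21, .negSucc (nat_lit 15))],
  [(nat_lit 22, .negSucc (nat_lit 7)), (nat_lit 24, .ofNat (nat_lit 8)), (nat_lit 38, .ofNat (nat_lit 8)), (nat_lit 46, .ofNat (nat_lit 8))],
  [(nat_lit 23, .negSucc (nat_lit 7)), (nat_lit 25, .ofNat (nat_lit 8)), (nat_lit 42, .ofNat (nat_lit 8)), (nat_lit 50, .ofNat (nat_lit 8))],
  [(nat_lit 22, .ofNat (nat_lit 8)), (nat_lit 24, .negSucc (nat_lit 7)), (nat_lit 38, .ofNat (nat_lit 8)), (nat_lit 46, .ofNat (nat_lit 8))],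
  [(nat_lit 23, .ofNat (nat_lit 8)), (nat_lit 25, .negSucc (nat_lit 7)), (nat_lit 42, .ofNat (nat_lit 8)), (nat_lit 50, .ofNat (nat_lit 8))],
  [(nat_lit 1, .negSucc (nat_lit 15)), (nat_lit 8, .negSucc (nat_lit 15)), (nat_lit 18, .negSucc (nat_lit 15)), (nat_lit 28, .ofNat (nat_lit 16))],
  [(nat_lit 2, .ofNat (nat_lit 8)), (nat_lit 7, .ofNat (nat_lit 8)), (nat_lit 17, .ofNat (nat_lit 8)), (nat_lit 27, .negSucc (nat_lit 7))],
  [(nat_lit 0, .negSucc (nat_lit 3)), (nat_lit 6, .negSucc (nat_lit 3)), (nat_lit 16, .negSucc (nat_lit 3)), (nat_lit 26, .ofNat (nat_lit 4))],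
  [(nat_lit 3, .ofNat (nat_lit 8)), (nat_lit 9, .ofNat (nat_lit 8)), (nat_lit 19, .ofNat (nat_lit 8)), (nat_lit 29, .negSucc (nat_lit 7))],
  [(nat_lit 36, .ofNat (nat_lit 16)), (nat_lit 40, .negSucc (nat_lit 15)), (nat_lit 44, .negSucc (nat_lit 15)), (nat_lit 48, .ofNat (nat_lit 16))],
  [(nat_lit 31, .negSucc (nat_lit 15))],
  [(nat_lit 32, .negSucc (nat_lit 7)), (nat_lit 34, .ofNat (nat_lit 8)), (nat_lit 39, .ofNat (nat_lit 8)), (nat_lit 51, .ofNat (nat_lit 8))],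
  [(nat_lit 33, .negSucc (nat_lit 7)), (nat_lit 35, .ofNat (nat_lit 8)), (nat_lit 43, .ofNat (nat_lit 8)), (nat_lit 47, .ofNat (nat_lit 8))],
  [(nat_lit 32, .ofNat (nat_lit 8)), (nat_lit 34, .negSucc (nat_lit 7)), (nat_lit 39, .ofNat (nat_lit 8)), (nat_lit 51, .ofNat (nat_lit 8))],
  [(nat_lit 33, .ofNat (nat_lit 8)), (nat_lit 35, .negSucc (nat_lit 7)), (nat_lit 43, .ofNat (nat_lit 8)), (nat_lit 47, .ofNat (nat_lit 8))],
  [(nat_lit 4, .negSucc (nat_lit 3)), (nat_lit 10, .ofNat (nat_lit 4)), (nat_lit 20, .ofNat (nat_lit 4)), (nat_lit 30, .ofNat (nat_lit 4))],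
  [(nat_lit 12, .ofNat (nat_lit 8)), (nat_lit 14, .ofNat (nat_lit 8)), (nat_lit 37, .negSucc (nat_lit 7)), (nat_lit 41, .ofNat (nat_lit 8))],
  [(nat_lit 22, .ofNat (nat_lit 8)), (nat_lit 24, .ofNat (nat_lit 8)), (nat_lit 38, .negSucc (nat_lit 7)), (nat_lit 46, .ofNat (nat_lit 8))],
  [(nat_lit 32, .ofNat (nat_lit 8)), (nat_lit 34, .ofNat (nat_lit 8)), (nat_lit 39, .negSucc (nat_lit 7)), (nat_lit 51, .ofNat (nat_lit 8))],
  [(nat_lit 4, .negSucc (nat_lit 3)), (nat_lit 10, .ofNat (nat_lit 4)), (nat_lit 20, .negSucc (nat_lit 3)), (nat_lit 30, .negSucc (nat_lit 3))],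
  [(nat_lit 12, .ofNat (nat_lit 8)), (nat_lit 14, .ofNat (nat_lit 8)), (nat_lit 37, .ofNat (nat_lit 8)), (nat_lit 41, .negSucc (nat_lit 7))],
  [(nat_lit 23, .ofNat (nat_lit 8)), (nat_lit 25, .ofNat (nat_lit 8)), (nat_lit 42, .negSucc (nat_lit 7)), (nat_lit 50, .ofNat (nat_lit 8))],
  [(nat_lit 33, .ofNat (nat_lit 8)), (nat_lit 35, .ofNat (nat_lit 8)), (nat_lit 43, .negSucc (nat_lit 7)), (nat_lit 47, .ofNat (nat_lit 8))],
  [(nat_lit 4, .negSucc (nat_lit 3)), (nat_lit 10, .negSucc (nat_lit 3)), (nat_lit 20, .ofNat (nat_lit 4)), (nat_lit 30, .negSucc (nat_lit 3))],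
  [(nat_lit 13, .ofNat (nat_lit 8)), (nat_lit 15, .ofNat (nat_lit 8)), (nat_lit 45, .negSucc (nat_lit 7)), (nat_lit 49, .ofNat (nat_lit 8))],
  [(nat_lit 22, .ofNat (nat_lit 8)), (nat_lit 24, .ofNat (nat_lit 8)), (nat_lit 38, .ofNat (nat_lit 8)), (nat_lit 46, .negSucc (nat_lit 7))],
  [(nat_lit 33, .ofNat (nat_lit 8)), (nat_lit 35, .ofNat (nat_lit 8)), (nat_lit 43, .ofNat (nat_lit 8)), (nat_lit 47, .negSucc (nat_lit 7))],
  [(nat_lit 4, .negSucc (nat_lit 3)), (nat_lit 10, .negSucc (nat_lit 3)), (nat_lit 20, .negSucc (nat_lit 3)), (nat_lit 30, .ofNat (nat_lit 4))],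
  [(nat_lit 13, .ofNat (nat_lit 8)), (nat_lit 15, .ofNat (nat_lit 8)), (nat_lit 45, .ofNat (nat_lit 8)), (nat_lit 49, .negSucc (nat_lit 7))],
  [(nat_lit 23, .ofNat (nat_lit 8)), (nat_lit 25, .ofNat (nat_lit 8)), (nat_lit 42, .ofNat (nat_lit 8)), (nat_lit 50, .negSucc (nat_lit 7))],
  [(nat_lit 32, .ofNat (nat_lit 8)), (nat_lit 34, .ofNat (nat_lit 8)), (nat_lit 39, .ofNat (nat_lit 8)), (nat_lit 51, .negSucc (nat_lit 7))]]

/-- The matrix of the root 24, times sixteen. -/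
def mat24 : List (List (Nat × Int)) := [
  [(nat_lit 2, .negSucc (nat_lit 15))],
  [(nat_lit 1, .ofNat (nat_lit 16))],
  [(nat_lit 0, .negSucc (nat_lit 15))],
  [(nat_lit 3, .ofNat (nat_lit 16))],
  [(nat_lit 5, .negSucc (nat_lit 15))],
  [(nat_lit 4, .negSucc (nat_lit 15))],
  [(nat_lit 7, .ofNat (nat_lit 16))],
  [(nat_lit 6, .ofNat (nat_lit 16))],
  [(nat_lit 8, .negSucc (nat_lit 15))],
  [(nat_lit 9, .negSucc (nat_lit 15))],
  [(nat_lit 11, .ofNat (nat_lit 16))],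
  [(nat_lit 10, .ofNat (nat_lit 16))],
  [(nat_lit 12, .ofNat (nat_lit 16))],
  [(nat_lit 13, .ofNat (nat_lit 16))],
  [(nat_lit 14, .negSucc (nat_lit 15))],
  [(nat_lit 15, .negSucc (nat_lit 15))],
  [(nat_lit 17, .ofNat (nat_lit 16))],
  [(nat_lit 16, .ofNat (nat_lit 16))],
  [(nat_lit 18, .negSucc (nat_lit 15))],
  [(nat_lit 19, .negSucc (nat_lit 15))],
  [(nat_lit 21, .ofNat (nat_lit 16))],
  [(nat_lit 20, .ofNat (nat_lit 16))],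
  [(nat_lit 22, .ofNat (nat_lit 16))],
  [(nat_lit 23, .ofNat (nat_lit 16))],
  [(nat_lit 24, .negSucc (nat_lit 15))],
  [(nat_lit 25, .negSucc (nat_lit 15))],
  [(nat_lit 27, .ofNat (nat_lit 16))],
  [(nat_lit 26, .ofNat (nat_lit 16))],
  [(nat_lit 28, .negSucc (nat_lit 15))],
  [(nat_lit 29, .negSucc (nat_lit 15))],
  [(nat_lit 31, .ofNat (nat_lit 16))],
  [(nat_lit 30, .ofNat (nat_lit 16))],
  [(nat_lit 32, .ofNat (nat_lit 16))],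
  [(nat_lit 33, .ofNat (nat_lit 16))],
  [(nat_lit 34, .negSucc (nat_lit 15))],
  [(nat_lit 35, .negSucc (nat_lit 15))],
  [(nat_lit 36, .negSucc (nat_lit 15))],
  [(nat_lit 37, .negSucc (nat_lit 15))],
  [(nat_lit 38, .negSucc (nat_lit 15))],
  [(nat_lit 39, .negSucc (nat_lit 15))],
  [(nat_lit 40, .negSucc (nat_lit 15))],
  [(nat_lit 41, .negSucc (nat_lit 15))],
  [(nat_lit 42, .negSucc (nat_lit 15))],
  [(nat_lit 43, .negSucc (nat_lit 15))],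
  [(nat_lit 44, .negSucc (nat_lit 15))],
  [(nat_lit 45, .negSucc (nat_lit 15))],
  [(nat_lit 46, .negSucc (nat_lit 15))],
  [(nat_lit 47, .negSucc (nat_lit 15))],
  [(nat_lit 48, .negSucc (nat_lit 15))],
  [(nat_lit 49, .negSucc (nat_lit 15))],
  [(nat_lit 50, .negSucc (nat_lit 15))],
  [(nat_lit 51, .negSucc (nat_lit 15))]]

/-- The matrix of the root 25, times sixteen. -/
def mat25 : List (List (Nat × Int)) := [
  [(nat_lit 6, .ofNat (nat_lit 16))],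
  [(nat_lit 8, .ofNat (nat_lit 16))],
  [(nat_lit 7, .ofNat (nat_lit 16))],
  [(nat_lit 9, .ofNat (nat_lit 16))],
  [(nat_lit 4, .ofNat (nat_lit 16))],
  [(nat_lit 5, .negSucc (nat_lit 15))],
  [(nat_lit 0, .ofNat (nat_lit 16))],
  [(nat_lit 2, .ofNat (nat_lit 16))],
  [(nat_lit 1, .ofNat (nat_lit 16))],
  [(nat_lit 3, .ofNat (nat_lit 16))],
  [(nat_lit 10, .ofNat (nat_lit 16))],
  [(nat_lit 11, .negSucc (nat_lit 15))],
  [(nat_lit 14, .ofNat (nat_lit 16))],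
  [(nat_lit 15, .ofNat (nat_lit 16))],
  [(nat_lit 12, .ofNat (nat_lit 16))],
  [(nat_lit 13, .ofNat (nat_lit 16))],
  [(nat_lit 26, .ofNat (nat_lit 16))],
  [(nat_lit 27, .ofNat (nat_lit 16))],
  [(nat_lit 28, .ofNat (nat_lit 16))],
  [(nat_lit 29, .ofNat (nat_lit 16))],
  [(nat_lit 20, .negSucc (nat_lit 15))],
  [(nat_lit 21, .negSucc (nat_lit 15))],
  [(nat_lit 22, .negSucc (nat_lit 15))],
  [(nat_lit 23, .negSucc (nat_lit 15))],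
  [(nat_lit 24, .negSucc (nat_lit 15))],
  [(nat_lit 25, .negSucc (nat_lit 15))],
  [(nat_lit 16, .ofNat (nat_lit 16))],
  [(nat_lit 17, .ofNat (nat_lit 16))],
  [(nat_lit 18, .ofNat (nat_lit 16))],
  [(nat_lit 19, .ofNat (nat_lit 16))],
  [(nat_lit 30, .negSucc (nat_lit 15))],
  [(nat_lit 31, .negSucc (nat_lit 15))],
  [(nat_lit 32, .negSucc (nat_lit 15))],
  [(nat_lit 33, .negSucc (nat_lit 15))],
  [(nat_lit 34, .negSucc (nat_lit 15))],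
  [(nat_lit 35, .negSucc (nat_lit 15))],
  [(nat_lit 40, .ofNat (nat_lit 16))],
  [(nat_lit 41, .ofNat (nat_lit 16))],
  [(nat_lit 38, .negSucc (nat_lit 15))],
  [(nat_lit 39, .negSucc (nat_lit 15))],
  [(nat_lit 36, .ofNat (nat_lit 16))],
  [(nat_lit 37, .ofNat (nat_lit 16))],
  [(nat_lit 42, .negSucc (nat_lit 15))],
  [(nat_lit 43, .negSucc (nat_lit 15))],
  [(nat_lit 48, .ofNat (nat_lit 16))],
  [(nat_lit 49, .ofNat (nat_lit 16))],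
  [(nat_lit 46, .negSucc (nat_lit 15))],
  [(nat_lit 47, .negSucc (nat_lit 15))],
  [(nat_lit 44, .ofNat (nat_lit 16))],
  [(nat_lit 45, .ofNat (nat_lit 16))],
  [(nat_lit 50, .negSucc (nat_lit 15))],
  [(nat_lit 51, .negSucc (nat_lit 15))]]

/-- The matrix of the root 26, times sixteen. -/
def mat26 : List (List (Nat × Int)) := [
  [(nat_lit 0, .ofNat (nat_lit 16))],
  [(nat_lit 1, .ofNat (nat_lit 16))],
  [(nat_lit 2, .ofNat (nat_lit 16))],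
  [(nat_lit 3, .ofNat (nat_lit 16))],
  [(nat_lit 4, .ofNat (nat_lit 16))],
  [(nat_lit 5, .ofNat (nat_lit 16))],
  [(nat_lit 6, .ofNat (nat_lit 16))],
  [(nat_lit 7, .ofNat (nat_lit 16))],
  [(nat_lit 8, .ofNat (nat_lit 16))],
  [(nat_lit 9, .ofNat (nat_lit 16))],
  [(nat_lit 10, .ofNat (nat_lit 16))],
  [(nat_lit 11, .ofNat (nat_lit 16))],
  [(nat_lit 12, .ofNat (nat_lit 16))],
  [(nat_lit 13, .ofNat (nat_lit 16))],
  [(nat_lit 14, .ofNat (nat_lit 16))],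
  [(nat_lit 15, .ofNat (nat_lit 16))],
  [(nat_lit 16, .negSucc (nat_lit 15))],
  [(nat_lit 17, .negSucc (nat_lit 15))],
  [(nat_lit 18, .negSucc (nat_lit 15))],
  [(nat_lit 19, .negSucc (nat_lit 15))],
  [(nat_lit 20, .negSucc (nat_lit 15))],
  [(nat_lit 21, .negSucc (nat_lit 15))],
  [(nat_lit 22, .negSucc (nat_lit 15))],
  [(nat_lit 23, .negSucc (nat_lit 15))],
  [(nat_lit 24, .negSucc (nat_lit 15))],
  [(nat_lit 25, .negSucc (nat_lit 15))],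
  [(nat_lit 26, .negSucc (nat_lit 15))],
  [(nat_lit 27, .negSucc (nat_lit 15))],
  [(nat_lit 28, .negSucc (nat_lit 15))],
  [(nat_lit 29, .negSucc (nat_lit 15))],
  [(nat_lit 30, .negSucc (nat_lit 15))],
  [(nat_lit 31, .negSucc (nat_lit 15))],
  [(nat_lit 32, .negSucc (nat_lit 15))],
  [(nat_lit 33, .negSucc (nat_lit 15))],
  [(nat_lit 34, .negSucc (nat_lit 15))],
  [(nat_lit 35, .negSucc (nat_lit 15))],
  [(nat_lit 36, .negSucc (nat_lit 15))],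
  [(nat_lit 37, .negSucc (nat_lit 15))],
  [(nat_lit 38, .negSucc (nat_lit 15))],
  [(nat_lit 39, .negSucc (nat_lit 15))],
  [(nat_lit 40, .negSucc (nat_lit 15))],
  [(nat_lit 41, .negSucc (nat_lit 15))],
  [(nat_lit 42, .negSucc (nat_lit 15))],
  [(nat_lit 43, .negSucc (nat_lit 15))],
  [(nat_lit 44, .negSucc (nat_lit 15))],
  [(nat_lit 45, .negSucc (nat_lit 15))],
  [(nat_lit 46, .negSucc (nat_lit 15))],
  [(nat_lit 47, .negSucc (nat_lit 15))],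
  [(nat_lit 48, .negSucc (nat_lit 15))],
  [(nat_lit 49, .negSucc (nat_lit 15))],
  [(nat_lit 50, .negSucc (nat_lit 15))],
  [(nat_lit 51, .negSucc (nat_lit 15))]]

/-- The matrix of the root 27, times sixteen. -/
def mat27 : List (List (Nat × Int)) := [
  [(nat_lit 0, .ofNat (nat_lit 16))],
  [(nat_lit 1, .ofNat (nat_lit 16))],
  [(nat_lit 2, .ofNat (nat_lit 16))],
  [(nat_lit 3, .ofNat (nat_lit 16))],
  [(nat_lit 4, .ofNat (nat_lit 16))],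
  [(nat_lit 5, .ofNat (nat_lit 16))],
  [(nat_lit 26, .ofNat (nat_lit 16))],
  [(nat_lit 27, .ofNat (nat_lit 16))],
  [(nat_lit 28, .ofNat (nat_lit 16))],
  [(nat_lit 29, .ofNat (nat_lit 16))],
  [(nat_lit 30, .ofNat (nat_lit 16))],
  [(nat_lit 31, .ofNat (nat_lit 16))],
  [(nat_lit 32, .ofNat (nat_lit 16))],
  [(nat_lit 33, .ofNat (nat_lit 16))],
  [(nat_lit 34, .ofNat (nat_lit 16))],
  [(nat_lit 35, .ofNat (nat_lit 16))],
  [(nat_lit 16, .ofNat (nat_lit 16))],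
  [(nat_lit 17, .ofNat (nat_lit 16))],
  [(nat_lit 18, .ofNat (nat_lit 16))],
  [(nat_lit 19, .ofNat (nat_lit 16))],
  [(nat_lit 20, .ofNat (nat_lit 16))],
  [(nat_lit 21, .ofNat (nat_lit 16))],
  [(nat_lit 22, .ofNat (nat_lit 16))],
  [(nat_lit 23, .ofNat (nat_lit 16))],
  [(nat_lit 24, .ofNat (nat_lit 16))],
  [(nat_lit 25, .ofNat (nat_lit 16))],
  [(nat_lit 6, .ofNat (nat_lit 16))],
  [(nat_lit 7, .ofNat (nat_lit 16))],
  [(nat_lit 8, .ofNat (nat_lit 16))],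
  [(nat_lit 9, .ofNat (nat_lit 16))],
  [(nat_lit 10, .ofNat (nat_lit 16))],
  [(nat_lit 11, .ofNat (nat_lit 16))],
  [(nat_lit 12, .ofNat (nat_lit 16))],
  [(nat_lit 13, .ofNat (nat_lit 16))],
  [(nat_lit 14, .ofNat (nat_lit 16))],
  [(nat_lit 15, .ofNat (nat_lit 16))],
  [(nat_lit 36, .ofNat (nat_lit 16))],
  [(nat_lit 39, .ofNat (nat_lit 16))],
  [(nat_lit 38, .ofNat (nat_lit 16))],
  [(nat_lit 37, .ofNat (nat_lit 16))],
  [(nat_lit 48, .ofNat (nat_lit 16))],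
  [(nat_lit 51, .ofNat (nat_lit 16))],
  [(nat_lit 50, .ofNat (nat_lit 16))],
  [(nat_lit 49, .ofNat (nat_lit 16))],
  [(nat_lit 44, .ofNat (nat_lit 16))],
  [(nat_lit 47, .ofNat (nat_lit 16))],
  [(nat_lit 46, .ofNat (nat_lit 16))],
  [(nat_lit 45, .ofNat (nat_lit 16))],
  [(nat_lit 40, .ofNat (nat_lit 16))],
  [(nat_lit 43, .ofNat (nat_lit 16))],
  [(nat_lit 42, .ofNat (nat_lit 16))],
  [(nat_lit 41, .ofNat (nat_lit 16))]]

/-- The matrix of the root 28, times sixteen. -/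
def mat28 : List (List (Nat × Int)) := [
  [(nat_lit 0, .ofNat (nat_lit 16))],
  [(nat_lit 1, .ofNat (nat_lit 16))],
  [(nat_lit 2, .ofNat (nat_lit 16))],
  [(nat_lit 3, .ofNat (nat_lit 16))],
  [(nat_lit 4, .ofNat (nat_lit 16))],
  [(nat_lit 5, .negSucc (nat_lit 15))],
  [(nat_lit 6, .ofNat (nat_lit 16))],
  [(nat_lit 7, .ofNat (nat_lit 16))],
  [(nat_lit 8, .ofNat (nat_lit 16))],
  [(nat_lit 9, .ofNat (nat_lit 16))],
  [(nat_lit 10, .ofNat (nat_lit 16))],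
  [(nat_lit 11, .negSucc (nat_lit 15))],
  [(nat_lit 14, .ofNat (nat_lit 16))],
  [(nat_lit 15, .ofNat (nat_lit 16))],
  [(nat_lit 12, .ofNat (nat_lit 16))],
  [(nat_lit 13, .ofNat (nat_lit 16))],
  [(nat_lit 16, .ofNat (nat_lit 16))],
  [(nat_lit 17, .ofNat (nat_lit 16))],
  [(nat_lit 18, .ofNat (nat_lit 16))],
  [(nat_lit 19, .ofNat (nat_lit 16))],
  [(nat_lit 20, .ofNat (nat_lit 16))],
  [(nat_lit 21, .negSucc (nat_lit 15))],
  [(nat_lit 24, .ofNat (nat_lit 16))],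
  [(nat_lit 25, .ofNat (nat_lit 16))],
  [(nat_lit 22, .ofNat (nat_lit 16))],
  [(nat_lit 23, .ofNat (nat_lit 16))],
  [(nat_lit 26, .ofNat (nat_lit 16))],
  [(nat_lit 27, .ofNat (nat_lit 16))],
  [(nat_lit 28, .ofNat (nat_lit 16))],
  [(nat_lit 29, .ofNat (nat_lit 16))],
  [(nat_lit 30, .ofNat (nat_lit 16))],
  [(nat_lit 31, .negSucc (nat_lit 15))],
  [(nat_lit 34, .ofNat (nat_lit 16))],
  [(nat_lit 35, .ofNat (nat_lit 16))],
  [(nat_lit 32, .ofNat (nat_lit 16))],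
  [(nat_lit 33, .ofNat (nat_lit 16))],
  [(nat_lit 36, .ofNat (nat_lit 16))],
  [(nat_lit 41, .ofNat (nat_lit 16))],
  [(nat_lit 46, .ofNat (nat_lit 16))],
  [(nat_lit 51, .ofNat (nat_lit 16))],
  [(nat_lit 40, .ofNat (nat_lit 16))],
  [(nat_lit 37, .ofNat (nat_lit 16))],
  [(nat_lit 50, .ofNat (nat_lit 16))],
  [(nat_lit 47, .ofNat (nat_lit 16))],
  [(nat_lit 44, .ofNat (nat_lit 16))],
  [(nat_lit 49, .ofNat (nat_lit 16))],
  [(nat_lit 38, .ofNat (nat_lit 16))],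
  [(nat_lit 43, .ofNat (nat_lit 16))],
  [(nat_lit 48, .ofNat (nat_lit 16))],
  [(nat_lit 45, .ofNat (nat_lit 16))],
  [(nat_lit 42, .ofNat (nat_lit 16))],
  [(nat_lit 39, .ofNat (nat_lit 16))]]

/-- The matrix of the root 29, times sixteen. -/
def mat29 : List (List (Nat × Int)) := [
  [(nat_lit 0, .ofNat (nat_lit 16))],
  [(nat_lit 1, .ofNat (nat_lit 16))],
  [(nat_lit 2, .ofNat (nat_lit 16))],
  [(nat_lit 3, .ofNat (nat_lit 16))],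
  [(nat_lit 4, .ofNat (nat_lit 16))],
  [(nat_lit 5, .ofNat (nat_lit 16))],
  [(nat_lit 6, .ofNat (nat_lit 16))],
  [(nat_lit 7, .ofNat (nat_lit 16))],
  [(nat_lit 8, .ofNat (nat_lit 16))],
  [(nat_lit 9, .ofNat (nat_lit 16))],
  [(nat_lit 10, .ofNat (nat_lit 16))],
  [(nat_lit 11, .ofNat (nat_lit 16))],
  [(nat_lit 12, .ofNat (nat_lit 16))],
  [(nat_lit 13, .ofNat (nat_lit 16))],
  [(nat_lit 14, .ofNat (nat_lit 16))],
  [(nat_lit 15, .ofNat (nat_lit 16))],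
  [(nat_lit 16, .ofNat (nat_lit 16))],
  [(nat_lit 17, .ofNat (nat_lit 16))],
  [(nat_lit 18, .ofNat (nat_lit 16))],
  [(nat_lit 19, .ofNat (nat_lit 16))],
  [(nat_lit 20, .ofNat (nat_lit 16))],
  [(nat_lit 21, .ofNat (nat_lit 16))],
  [(nat_lit 22, .ofNat (nat_lit 16))],
  [(nat_lit 23, .ofNat (nat_lit 16))],
  [(nat_lit 24, .ofNat (nat_lit 16))],
  [(nat_lit 25, .ofNat (nat_lit 16))],
  [(nat_lit 26, .ofNat (nat_lit 16))],
  [(nat_lit 27, .ofNat (nat_lit 16))],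
  [(nat_lit 28, .ofNat (nat_lit 16))],
  [(nat_lit 29, .ofNat (nat_lit 16))],
  [(nat_lit 30, .ofNat (nat_lit 16))],
  [(nat_lit 31, .ofNat (nat_lit 16))],
  [(nat_lit 32, .ofNat (nat_lit 16))],
  [(nat_lit 33, .ofNat (nat_lit 16))],
  [(nat_lit 34, .ofNat (nat_lit 16))],
  [(nat_lit 35, .ofNat (nat_lit 16))],
  [(nat_lit 36, .negSucc (nat_lit 15))],
  [(nat_lit 37, .negSucc (nat_lit 15))],
  [(nat_lit 38, .negSucc (nat_lit 15))],
  [(nat_lit 39, .negSucc (nat_lit 15))],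
  [(nat_lit 40, .negSucc (nat_lit 15))],
  [(nat_lit 41, .negSucc (nat_lit 15))],
  [(nat_lit 42, .negSucc (nat_lit 15))],
  [(nat_lit 43, .negSucc (nat_lit 15))],
  [(nat_lit 44, .negSucc (nat_lit 15))],
  [(nat_lit 45, .negSucc (nat_lit 15))],
  [(nat_lit 46, .negSucc (nat_lit 15))],
  [(nat_lit 47, .negSucc (nat_lit 15))],
  [(nat_lit 48, .negSucc (nat_lit 15))],
  [(nat_lit 49, .negSucc (nat_lit 15))],
  [(nat_lit 50, .negSucc (nat_lit 15))],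
  [(nat_lit 51, .negSucc (nat_lit 15))]]

/-- The matrix of the root 30, times sixteen. -/
def mat30 : List (List (Nat × Int)) := [
  [(nat_lit 16, .ofNat (nat_lit 16))],
  [(nat_lit 18, .ofNat (nat_lit 16))],
  [(nat_lit 17, .ofNat (nat_lit 16))],
  [(nat_lit 19, .ofNat (nat_lit 16))],
  [(nat_lit 4, .ofNat (nat_lit 16))],
  [(nat_lit 5, .negSucc (nat_lit 15))],
  [(nat_lit 26, .ofNat (nat_lit 16))],
  [(nat_lit 27, .ofNat (nat_lit 16))],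
  [(nat_lit 28, .ofNat (nat_lit 16))],
  [(nat_lit 29, .ofNat (nat_lit 16))],
  [(nat_lit 10, .negSucc (nat_lit 15))],
  [(nat_lit 11, .negSucc (nat_lit 15))],
  [(nat_lit 12, .negSucc (nat_lit 15))],
  [(nat_lit 13, .negSucc (nat_lit 15))],
  [(nat_lit 14, .negSucc (nat_lit 15))],
  [(nat_lit 15, .negSucc (nat_lit 15))],
  [(nat_lit 0, .ofNat (nat_lit 16))],
  [(nat_lit 2, .ofNat (nat_lit 16))],
  [(nat_lit 1, .ofNat (nat_lit 16))],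
  [(nat_lit 3, .ofNat (nat_lit 16))],
  [(nat_lit 20, .ofNat (nat_lit 16))],
  [(nat_lit 21, .negSucc (nat_lit 15))],
  [(nat_lit 24, .ofNat (nat_lit 16))],
  [(nat_lit 25, .ofNat (nat_lit 16))],
  [(nat_lit 22, .ofNat (nat_lit 16))],
  [(nat_lit 23, .ofNat (nat_lit 16))],
  [(nat_lit 6, .ofNat (nat_lit 16))],
  [(nat_lit 7, .ofNat (nat_lit 16))],
  [(nat_lit 8, .ofNat (nat_lit 16))],
  [(nat_lit 9, .ofNat (nat_lit 16))],
  [(nat_lit 30, .negSucc (nat_lit 15))],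
  [(nat_lit 31, .negSucc (nat_lit 15))],
  [(nat_lit 32, .negSucc (nat_lit 15))],
  [(nat_lit 33, .negSucc (nat_lit 15))],
  [(nat_lit 34, .negSucc (nat_lit 15))],
  [(nat_lit 35, .negSucc (nat_lit 15))],
  [(nat_lit 44, .ofNat (nat_lit 16))],
  [(nat_lit 37, .negSucc (nat_lit 15))],
  [(nat_lit 46, .ofNat (nat_lit 16))],
  [(nat_lit 39, .negSucc (nat_lit 15))],
  [(nat_lit 48, .ofNat (nat_lit 16))],
  [(nat_lit 41, .negSucc (nat_lit 15))],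
  [(nat_lit 50, .ofNat (nat_lit 16))],
  [(nat_lit 43, .negSucc (nat_lit 15))],
  [(nat_lit 36, .ofNat (nat_lit 16))],
  [(nat_lit 45, .negSucc (nat_lit 15))],
  [(nat_lit 38, .ofNat (nat_lit 16))],
  [(nat_lit 47, .negSucc (nat_lit 15))],
  [(nat_lit 40, .ofNat (nat_lit 16))],
  [(nat_lit 49, .negSucc (nat_lit 15))],
  [(nat_lit 42, .ofNat (nat_lit 16))],
  [(nat_lit 51, .negSucc (nat_lit 15))]]

/-- The matrix of the root 31, times sixteen. -/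
def mat31 : List (List (Nat × Int)) := [
  [(nat_lit 0, .ofNat (nat_lit 16))],
  [(nat_lit 1, .ofNat (nat_lit 16))],
  [(nat_lit 2, .ofNat (nat_lit 16))],
  [(nat_lit 3, .ofNat (nat_lit 16))],
  [(nat_lit 4, .ofNat (nat_lit 16))],
  [(nat_lit 5, .ofNat (nat_lit 16))],
  [(nat_lit 6, .negSucc (nat_lit 15))],
  [(nat_lit 7, .negSucc (nat_lit 15))],
  [(nat_lit 8, .negSucc (nat_lit 15))],
  [(nat_lit 9, .negSucc (nat_lit 15))],
  [(nat_lit 10, .negSucc (nat_lit 15))],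
  [(nat_lit 11, .negSucc (nat_lit 15))],
  [(nat_lit 12, .negSucc (nat_lit 15))],
  [(nat_lit 13, .negSucc (nat_lit 15))],
  [(nat_lit 14, .negSucc (nat_lit 15))],
  [(nat_lit 15, .negSucc (nat_lit 15))],
  [(nat_lit 16, .ofNat (nat_lit 16))],
  [(nat_lit 17, .ofNat (nat_lit 16))],
  [(nat_lit 18, .ofNat (nat_lit 16))],
  [(nat_lit 19, .ofNat (nat_lit 16))],
  [(nat_lit 20, .ofNat (nat_lit 16))],
  [(nat_lit 21, .ofNat (nat_lit 16))],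
  [(nat_lit 22, .ofNat (nat_lit 16))],
  [(nat_lit 23, .ofNat (nat_lit 16))],
  [(nat_lit 24, .ofNat (nat_lit 16))],
  [(nat_lit 25, .ofNat (nat_lit 16))],
  [(nat_lit 26, .negSucc (nat_lit 15))],
  [(nat_lit 27, .negSucc (nat_lit 15))],
  [(nat_lit 28, .negSucc (nat_lit 15))],
  [(nat_lit 29, .negSucc (nat_lit 15))],
  [(nat_lit 30, .negSucc (nat_lit 15))],
  [(nat_lit 31, .negSucc (nat_lit 15))],
  [(nat_lit 32, .negSucc (nat_lit 15))],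
  [(nat_lit 33, .negSucc (nat_lit 15))],
  [(nat_lit 34, .negSucc (nat_lit 15))],
  [(nat_lit 35, .negSucc (nat_lit 15))],
  [(nat_lit 36, .negSucc (nat_lit 15))],
  [(nat_lit 37, .negSucc (nat_lit 15))],
  [(nat_lit 38, .negSucc (nat_lit 15))],
  [(nat_lit 39, .negSucc (nat_lit 15))],
  [(nat_lit 40, .negSucc (nat_lit 15))],
  [(nat_lit 41, .negSucc (nat_lit 15))],
  [(nat_lit 42, .negSucc (nat_lit 15))],
  [(nat_lit 43, .negSucc (nat_lit 15))],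
  [(nat_lit 44, .negSucc (nat_lit 15))],
  [(nat_lit 45, .negSucc (nat_lit 15))],
  [(nat_lit 46, .negSucc (nat_lit 15))],
  [(nat_lit 47, .negSucc (nat_lit 15))],
  [(nat_lit 48, .negSucc (nat_lit 15))],
  [(nat_lit 49, .negSucc (nat_lit 15))],
  [(nat_lit 50, .negSucc (nat_lit 15))],
  [(nat_lit 51, .negSucc (nat_lit 15))]]

/-- The matrix of the root 32, times sixteen. -/
def mat32 : List (List (Nat × Int)) := [
  [(nat_lit 0, .ofNat (nat_lit 16))],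
  [(nat_lit 1, .ofNat (nat_lit 16))],
  [(nat_lit 2, .ofNat (nat_lit 16))],
  [(nat_lit 3, .ofNat (nat_lit 16))],
  [(nat_lit 4, .negSucc (nat_lit 15))],
  [(nat_lit 5, .negSucc (nat_lit 15))],
  [(nat_lit 6, .ofNat (nat_lit 16))],
  [(nat_lit 7, .ofNat (nat_lit 16))],
  [(nat_lit 8, .ofNat (nat_lit 16))],
  [(nat_lit 9, .ofNat (nat_lit 16))],
  [(nat_lit 10, .negSucc (nat_lit 15))],
  [(nat_lit 11, .negSucc (nat_lit 15))],
  [(nat_lit 12, .negSucc (nat_lit 15))],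
  [(nat_lit 13, .negSucc (nat_lit 15))],
  [(nat_lit 14, .negSucc (nat_lit 15))],
  [(nat_lit 15, .negSucc (nat_lit 15))],
  [(nat_lit 16, .ofNat (nat_lit 16))],
  [(nat_lit 17, .ofNat (nat_lit 16))],
  [(nat_lit 18, .ofNat (nat_lit 16))],
  [(nat_lit 19, .ofNat (nat_lit 16))],
  [(nat_lit 20, .negSucc (nat_lit 15))],
  [(nat_lit 21, .negSucc (nat_lit 15))],
  [(nat_lit 22, .negSucc (nat_lit 15))],
  [(nat_lit 23, .negSucc (nat_lit 15))],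
  [(nat_lit 24, .negSucc (nat_lit 15))],
  [(nat_lit 25, .negSucc (nat_lit 15))],
  [(nat_lit 26, .ofNat (nat_lit 16))],
  [(nat_lit 27, .ofNat (nat_lit 16))],
  [(nat_lit 28, .ofNat (nat_lit 16))],
  [(nat_lit 29, .ofNat (nat_lit 16))],
  [(nat_lit 30, .negSucc (nat_lit 15))],
  [(nat_lit 31, .negSucc (nat_lit 15))],
  [(nat_lit 32, .negSucc (nat_lit 15))],
  [(nat_lit 33, .negSucc (nat_lit 15))],
  [(nat_lit 34, .negSucc (nat_lit 15))],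
  [(nat_lit 35, .negSucc (nat_lit 15))],
  [(nat_lit 36, .negSucc (nat_lit 15))],
  [(nat_lit 37, .negSucc (nat_lit 15))],
  [(nat_lit 38, .negSucc (nat_lit 15))],
  [(nat_lit 39, .negSucc (nat_lit 15))],
  [(nat_lit 40, .negSucc (nat_lit 15))],
  [(nat_lit 41, .negSucc (nat_lit 15))],
  [(nat_lit 42, .negSucc (nat_lit 15))],
  [(nat_lit 43, .negSucc (nat_lit 15))],
  [(nat_lit 44, .negSucc (nat_lit 15))],
  [(nat_lit 45, .negSucc (nat_lit 15))],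
  [(nat_lit 46, .negSucc (nat_lit 15))],
  [(nat_lit 47, .negSucc (nat_lit 15))],
  [(nat_lit 48, .negSucc (nat_lit 15))],
  [(nat_lit 49, .negSucc (nat_lit 15))],
  [(nat_lit 50, .negSucc (nat_lit 15))],
  [(nat_lit 51, .negSucc (nat_lit 15))]]

/-- The matrix of the root 33, times sixteen. -/
def mat33 : List (List (Nat × Int)) := [
  [(nat_lit 0, .ofNat (nat_lit 8)), (nat_lit 4, .ofNat (nat_lit 8)), (nat_lit 6, .negSucc (nat_lit 7)), (nat_lit 10, .ofNat (nat_lit 8))],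
  [(nat_lit 1, .ofNat (nat_lit 16))],
  [(nat_lit 2, .ofNat (nat_lit 8)), (nat_lit 5, .ofNat (nat_lit 8)), (nat_lit 7, .ofNat (nat_lit 8)), (nat_lit 11, .negSucc (nat_lit 7))],
  [(nat_lit 13, .ofNat (nat_lit 16))],
  [(nat_lit 0, .ofNat (nat_lit 8)), (nat_lit 4, .ofNat (nat_lit 8)), (nat_lit 6, .ofNat (nat_lit 8)), (nat_lit 10, .negSucc (nat_lit 7))],
  [(nat_lit 2, .ofNat (nat_lit 8)), (nat_lit 5, .ofNat (nat_lit 8)), (nat_lit 7, .negSucc (nat_lit 7)), (nat_lit 11, .ofNat (nat_lit 8))],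
  [(nat_lit 0, .negSucc (nat_lit 7)), (nat_lit 4, .ofNat (nat_lit 8)), (nat_lit 6, .ofNat (nat_lit 8)), (nat_lit 10, .ofNat (nat_lit 8))],
  [(nat_lit 2, .ofNat (nat_lit 8)), (nat_lit 5, .negSucc (nat_lit 7)), (nat_lit 7, .ofNat (nat_lit 8)), (nat_lit 11, .ofNat (nat_lit 8))],
  [(nat_lit 8, .ofNat (nat_lit 16))],
  [(nat_lit 15, .ofNat (nat_lit 16))],
  [(nat_lit 0, .ofNat (nat_lit 8)), (nat_lit 4, .negSucc (nat_lit 7)), (nat_lit 6, .ofNat (nat_lit 8)), (nat_lit 10, .ofNat (nat_lit 8))],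
  [(nat_lit 2, .negSucc (nat_lit 7)), (nat_lit 5, .ofNat (nat_lit 8)), (nat_lit 7, .ofNat (nat_lit 8)), (nat_lit 11, .ofNat (nat_lit 8))],
  [(nat_lit 12, .ofNat (nat_lit 16))],
  [(nat_lit 3, .ofNat (nat_lit 16))],
  [(nat_lit 14, .ofNat (nat_lit 16))],
  [(nat_lit 9, .ofNat (nat_lit 16))],
  [(nat_lit 16, .ofNat (nat_lit 8)), (nat_lit 20, .ofNat (nat_lit 8)), (nat_lit 26, .ofNat (nat_lit 8)), (nat_lit 30, .negSucc (nat_lit 7))],
  [(nat_lit 17, .ofNat (nat_lit 8)), (nat_lit 21, .ofNat (nat_lit 8)), (nat_lit 27, .ofNat (nat_lit 8)), (nat_lit 31, .negSucc (nat_lit 7))],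
  [(nat_lit 44, .ofNat (nat_lit 16))],
  [(nat_lit 45, .ofNat (nat_lit 16))],
  [(nat_lit 16, .ofNat (nat_lit 8)), (nat_lit 20, .ofNat (nat_lit 8)), (nat_lit 26, .negSucc (nat_lit 7)), (nat_lit 30, .ofNat (nat_lit 8))],
  [(nat_lit 17, .ofNat (nat_lit 8)), (nat_lit 21, .ofNat (nat_lit 8)), (nat_lit 27, .negSucc (nat_lit 7)), (nat_lit 31, .ofNat (nat_lit 8))],
  [(nat_lit 22, .ofNat (nat_lit 16))],
  [(nat_lit 33, .ofNat (nat_lit 16))],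
  [(nat_lit 46, .ofNat (nat_lit 16))],
  [(nat_lit 47, .ofNat (nat_lit 16))],
  [(nat_lit 16, .ofNat (nat_lit 8)), (nat_lit 20, .negSucc (nat_lit 7)), (nat_lit 26, .ofNat (nat_lit 8)), (nat_lit 30, .ofNat (nat_lit 8))],
  [(nat_lit 17, .ofNat (nat_lit 8)), (nat_lit 21, .negSucc (nat_lit 7)), (nat_lit 27, .ofNat (nat_lit 8)), (nat_lit 31, .ofNat (nat_lit 8))],
  [(nat_lit 48, .ofNat (nat_lit 16))],
  [(nat_lit 49, .ofNat (nat_lit 16))],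
  [(nat_lit 16, .negSucc (nat_lit 7)), (nat_lit 20, .ofNat (nat_lit 8)), (nat_lit 26, .ofNat (nat_lit 8)), (nat_lit 30, .ofNat (nat_lit 8))],
  [(nat_lit 17, .negSucc (nat_lit 7)), (nat_lit 21, .ofNat (nat_lit 8)), (nat_lit 27, .ofNat (nat_lit 8)), (nat_lit 31, .ofNat (nat_lit 8))],
  [(nat_lit 32, .ofNat (nat_lit 16))],
  [(nat_lit 23, .ofNat (nat_lit 16))],
  [(nat_lit 51, .ofNat (nat_lit 16))],
  [(nat_lit 50, .ofNat (nat_lit 16))],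
  [(nat_lit 36, .ofNat (nat_lit 16))],
  [(nat_lit 37, .ofNat (nat_lit 16))],
  [(nat_lit 38, .ofNat (nat_lit 16))],
  [(nat_lit 39, .ofNat (nat_lit 16))],
  [(nat_lit 40, .ofNat (nat_lit 16))],
  [(nat_lit 41, .ofNat (nat_lit 16))],
  [(nat_lit 43, .ofNat (nat_lit 16))],
  [(nat_lit 42, .ofNat (nat_lit 16))],
  [(nat_lit 18, .ofNat (nat_lit 16))],
  [(nat_lit 19, .ofNat (nat_lit 16))],
  [(nat_lit 24, .ofNat (nat_lit 16))],
  [(nat_lit 25, .ofNat (nat_lit 16))],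
  [(nat_lit 28, .ofNat (nat_lit 16))],
  [(nat_lit 29, .ofNat (nat_lit 16))],
  [(nat_lit 35, .ofNat (nat_lit 16))],
  [(nat_lit 34, .ofNat (nat_lit 16))]]

/-- The matrix of the root 34, times sixteen. -/
def mat34 : List (List (Nat × Int)) := [
  [(nat_lit 0, .ofNat (nat_lit 8)), (nat_lit 4, .ofNat (nat_lit 8)), (nat_lit 16, .negSucc (nat_lit 7)), (nat_lit 20, .ofNat (nat_lit 8))],
  [(nat_lit 1, .ofNat (nat_lit 16))],
  [(nat_lit 2, .ofNat (nat_lit 8)), (nat_lit 5, .ofNat (nat_lit 8)), (nat_lit 17, .ofNat (nat_lit 8)), (nat_lit 21, .negSucc (nat_lit 7))],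
  [(nat_lit 23, .ofNat (nat_lit 16))],
  [(nat_lit 0, .ofNat (nat_lit 8)), (nat_lit 4, .ofNat (nat_lit 8)), (nat_lit 16, .ofNat (nat_lit 8)), (nat_lit 20, .negSucc (nat_lit 7))],
  [(nat_lit 2, .ofNat (nat_lit 8)), (nat_lit 5, .ofNat (nat_lit 8)), (nat_lit 17, .negSucc (nat_lit 7)), (nat_lit 21, .ofNat (nat_lit 8))],
  [(nat_lit 6, .ofNat (nat_lit 8)), (nat_lit 10, .ofNat (nat_lit 8)), (nat_lit 26, .ofNat (nat_lit 8)), (nat_lit 30, .negSucc (nat_lit 7))],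
  [(nat_lit 7, .ofNat (nat_lit 8)), (nat_lit 11, .ofNat (nat_lit 8)), (nat_lit 27, .ofNat (nat_lit 8)), (nat_lit 31, .negSucc (nat_lit 7))],
  [(nat_lit 40, .ofNat (nat_lit 16))],
  [(nat_lit 42, .ofNat (nat_lit 16))],
  [(nat_lit 6, .ofNat (nat_lit 8)), (nat_lit 10, .ofNat (nat_lit 8)), (nat_lit 26, .negSucc (nat_lit 7)), (nat_lit 30, .ofNat (nat_lit 8))],
  [(nat_lit 7, .ofNat (nat_lit 8)), (nat_lit 11, .ofNat (nat_lit 8)), (nat_lit 27, .negSucc (nat_lit 7)), (nat_lit 31, .ofNat (nat_lit 8))],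
  [(nat_lit 12, .ofNat (nat_lit 16))],
  [(nat_lit 33, .ofNat (nat_lit 16))],
  [(nat_lit 41, .ofNat (nat_lit 16))],
  [(nat_lit 43, .ofNat (nat_lit 16))],
  [(nat_lit 0, .negSucc (nat_lit 7)), (nat_lit 4, .ofNat (nat_lit 8)), (nat_lit 16, .ofNat (nat_lit 8)), (nat_lit 20, .ofNat (nat_lit 8))],
  [(nat_lit 2, .ofNat (nat_lit 8)), (nat_lit 5, .negSucc (nat_lit 7)), (nat_lit 17, .ofNat (nat_lit 8)), (nat_lit 21, .ofNat (nat_lit 8))],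
  [(nat_lit 18, .ofNat (nat_lit 16))],
  [(nat_lit 25, .ofNat (nat_lit 16))],
  [(nat_lit 0, .ofNat (nat_lit 8)), (nat_lit 4, .negSucc (nat_lit 7)), (nat_lit 16, .ofNat (nat_lit 8)), (nat_lit 20, .ofNat (nat_lit 8))],
  [(nat_lit 2, .negSucc (nat_lit 7)), (nat_lit 5, .ofNat (nat_lit 8)), (nat_lit 17, .ofNat (nat_lit 8)), (nat_lit 21, .ofNat (nat_lit 8))],
  [(nat_lit 22, .ofNat (nat_lit 16))],
  [(nat_lit 3, .ofNat (nat_lit 16))],
  [(nat_lit 24, .ofNat (nat_lit 16))],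
  [(nat_lit 19, .ofNat (nat_lit 16))],
  [(nat_lit 6, .ofNat (nat_lit 8)), (nat_lit 10, .negSucc (nat_lit 7)), (nat_lit 26, .ofNat (nat_lit 8)), (nat_lit 30, .ofNat (nat_lit 8))],
  [(nat_lit 7, .ofNat (nat_lit 8)), (nat_lit 11, .negSucc (nat_lit 7)), (nat_lit 27, .ofNat (nat_lit 8)), (nat_lit 31, .ofNat (nat_lit 8))],
  [(nat_lit 48, .ofNat (nat_lit 16))],
  [(nat_lit 50, .ofNat (nat_lit 16))],
  [(nat_lit 6, .negSucc (nat_lit 7)), (nat_lit 10, .ofNat (nat_lit 8)), (nat_lit 26, .ofNat (nat_lit 8)), (nat_lit 30, .ofNat (nat_lit 8))],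
  [(nat_lit 7, .negSucc (nat_lit 7)), (nat_lit 11, .ofNat (nat_lit 8)), (nat_lit 27, .ofNat (nat_lit 8)), (nat_lit 31, .ofNat (nat_lit 8))],
  [(nat_lit 32, .ofNat (nat_lit 16))],
  [(nat_lit 13, .ofNat (nat_lit 16))],
  [(nat_lit 51, .ofNat (nat_lit 16))],
  [(nat_lit 49, .ofNat (nat_lit 16))],
  [(nat_lit 36, .ofNat (nat_lit 16))],
  [(nat_lit 37, .ofNat (nat_lit 16))],
  [(nat_lit 38, .ofNat (nat_lit 16))],
  [(nat_lit 39, .ofNat (nat_lit 16))],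
  [(nat_lit 8, .ofNat (nat_lit 16))],
  [(nat_lit 14, .ofNat (nat_lit 16))],
  [(nat_lit 9, .ofNat (nat_lit 16))],
  [(nat_lit 15, .ofNat (nat_lit 16))],
  [(nat_lit 44, .ofNat (nat_lit 16))],
  [(nat_lit 47, .ofNat (nat_lit 16))],
  [(nat_lit 46, .ofNat (nat_lit 16))],
  [(nat_lit 45, .ofNat (nat_lit 16))],
  [(nat_lit 28, .ofNat (nat_lit 16))],
  [(nat_lit 35, .ofNat (nat_lit 16))],
  [(nat_lit 29, .ofNat (nat_lit 16))],
  [(nat_lit 34, .ofNat (nat_lit 16))]]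

/-- The matrix of the root 35, times sixteen. -/
def mat35 : List (List (Nat × Int)) := [
  [(nat_lit 0, .ofNat (nat_lit 16))],
  [(nat_lit 1, .ofNat (nat_lit 16))],
  [(nat_lit 7, .ofNat (nat_lit 16))],
  [(nat_lit 9, .ofNat (nat_lit 16))],
  [(nat_lit 4, .ofNat (nat_lit 16))],
  [(nat_lit 11, .ofNat (nat_lit 16))],
  [(nat_lit 6, .ofNat (nat_lit 16))],
  [(nat_lit 2, .ofNat (nat_lit 16))],
  [(nat_lit 8, .ofNat (nat_lit 16))],
  [(nat_lit 3, .ofNat (nat_lit 16))],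
  [(nat_lit 10, .ofNat (nat_lit 16))],
  [(nat_lit 5, .ofNat (nat_lit 16))],
  [(nat_lit 12, .ofNat (nat_lit 16))],
  [(nat_lit 15, .ofNat (nat_lit 16))],
  [(nat_lit 14, .ofNat (nat_lit 16))],
  [(nat_lit 13, .ofNat (nat_lit 16))],
  [(nat_lit 16, .ofNat (nat_lit 16))],
  [(nat_lit 27, .ofNat (nat_lit 16))],
  [(nat_lit 18, .ofNat (nat_lit 16))],
  [(nat_lit 29, .ofNat (nat_lit 16))],
  [(nat_lit 20, .ofNat (nat_lit 16))],
  [(nat_lit 31, .ofNat (nat_lit 16))],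
  [(nat_lit 38, .ofNat (nat_lit 16))],
  [(nat_lit 42, .ofNat (nat_lit 16))],
  [(nat_lit 46, .ofNat (nat_lit 16))],
  [(nat_lit 50, .ofNat (nat_lit 16))],
  [(nat_lit 26, .ofNat (nat_lit 16))],
  [(nat_lit 17, .ofNat (nat_lit 16))],
  [(nat_lit 28, .ofNat (nat_lit 16))],
  [(nat_lit 19, .ofNat (nat_lit 16))],
  [(nat_lit 30, .ofNat (nat_lit 16))],
  [(nat_lit 21, .ofNat (nat_lit 16))],
  [(nat_lit 39, .ofNat (nat_lit 16))],
  [(nat_lit 43, .ofNat (nat_lit 16))],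
  [(nat_lit 51, .ofNat (nat_lit 16))],
  [(nat_lit 47, .ofNat (nat_lit 16))],
  [(nat_lit 36, .ofNat (nat_lit 16))],
  [(nat_lit 37, .ofNat (nat_lit 16))],
  [(nat_lit 22, .ofNat (nat_lit 16))],
  [(nat_lit 32, .ofNat (nat_lit 16))],
  [(nat_lit 40, .ofNat (nat_lit 16))],
  [(nat_lit 41, .ofNat (nat_lit 16))],
  [(nat_lit 23, .ofNat (nat_lit 16))],
  [(nat_lit 33, .ofNat (nat_lit 16))],
  [(nat_lit 44, .ofNat (nat_lit 16))],
  [(nat_lit 49, .ofNat (nat_lit 16))],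
  [(nat_lit 24, .ofNat (nat_lit 16))],
  [(nat_lit 35, .ofNat (nat_lit 16))],
  [(nat_lit 48, .ofNat (nat_lit 16))],
  [(nat_lit 45, .ofNat (nat_lit 16))],
  [(nat_lit 25, .ofNat (nat_lit 16))],
  [(nat_lit 34, .ofNat (nat_lit 16))]]

/-- The matrix of the root 36, times sixteen. -/
def mat36 : List (List (Nat × Int)) := [
  [(nat_lit 0, .ofNat (nat_lit 16))],
  [(nat_lit 1, .ofNat (nat_lit 16))],
  [(nat_lit 2, .ofNat (nat_lit 16))],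
  [(nat_lit 3, .ofNat (nat_lit 16))],
  [(nat_lit 4, .ofNat (nat_lit 16))],
  [(nat_lit 5, .ofNat (nat_lit 16))],
  [(nat_lit 6, .ofNat (nat_lit 16))],
  [(nat_lit 7, .ofNat (nat_lit 16))],
  [(nat_lit 8, .ofNat (nat_lit 16))],
  [(nat_lit 9, .ofNat (nat_lit 16))],
  [(nat_lit 10, .ofNat (nat_lit 16))],
  [(nat_lit 11, .ofNat (nat_lit 16))],
  [(nat_lit 12, .ofNat (nat_lit 16))],
  [(nat_lit 13, .ofNat (nat_lit 16))],
  [(nat_lit 14, .ofNat (nat_lit 16))],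
  [(nat_lit 15, .ofNat (nat_lit 16))],
  [(nat_lit 16, .ofNat (nat_lit 16))],
  [(nat_lit 17, .ofNat (nat_lit 16))],
  [(nat_lit 18, .negSucc (nat_lit 15))],
  [(nat_lit 19, .negSucc (nat_lit 15))],
  [(nat_lit 20, .ofNat (nat_lit 16))],
  [(nat_lit 21, .ofNat (nat_lit 16))],
  [(nat_lit 22, .ofNat (nat_lit 16))],
  [(nat_lit 23, .ofNat (nat_lit 16))],
  [(nat_lit 24, .negSucc (nat_lit 15))],
  [(nat_lit 25, .negSucc (nat_lit 15))],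
  [(nat_lit 26, .ofNat (nat_lit 16))],
  [(nat_lit 27, .ofNat (nat_lit 16))],
  [(nat_lit 28, .negSucc (nat_lit 15))],
  [(nat_lit 29, .negSucc (nat_lit 15))],
  [(nat_lit 30, .ofNat (nat_lit 16))],
  [(nat_lit 31, .ofNat (nat_lit 16))],
  [(nat_lit 32, .ofNat (nat_lit 16))],
  [(nat_lit 33, .ofNat (nat_lit 16))],
  [(nat_lit 34, .negSucc (nat_lit 15))],
  [(nat_lit 35, .negSucc (nat_lit 15))],
  [(nat_lit 36, .ofNat (nat_lit 16))],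
  [(nat_lit 37, .ofNat (nat_lit 16))],
  [(nat_lit 38, .ofNat (nat_lit 16))],
  [(nat_lit 39, .ofNat (nat_lit 16))],
  [(nat_lit 40, .ofNat (nat_lit 16))],
  [(nat_lit 41, .ofNat (nat_lit 16))],
  [(nat_lit 42, .ofNat (nat_lit 16))],
  [(nat_lit 43, .ofNat (nat_lit 16))],
  [(nat_lit 44, .negSucc (nat_lit 15))],
  [(nat_lit 45, .negSucc (nat_lit 15))],
  [(nat_lit 46, .negSucc (nat_lit 15))],
  [(nat_lit 47, .negSucc (nat_lit 15))],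
  [(nat_lit 48, .negSucc (nat_lit 15))],
  [(nat_lit 49, .negSucc (nat_lit 15))],
  [(nat_lit 50, .negSucc (nat_lit 15))],
  [(nat_lit 51, .negSucc (nat_lit 15))]]

/-- The matrix of the root 37, times sixteen. -/
def mat37 : List (List (Nat × Int)) := [
  [(nat_lit 0, .ofNat (nat_lit 16))],
  [(nat_lit 1, .ofNat (nat_lit 16))],
  [(nat_lit 17, .ofNat (nat_lit 16))],
  [(nat_lit 19, .ofNat (nat_lit 16))],
  [(nat_lit 4, .ofNat (nat_lit 16))],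
  [(nat_lit 21, .ofNat (nat_lit 16))],
  [(nat_lit 6, .ofNat (nat_lit 16))],
  [(nat_lit 27, .ofNat (nat_lit 16))],
  [(nat_lit 8, .ofNat (nat_lit 16))],
  [(nat_lit 29, .ofNat (nat_lit 16))],
  [(nat_lit 10, .ofNat (nat_lit 16))],
  [(nat_lit 31, .ofNat (nat_lit 16))],
  [(nat_lit 37, .ofNat (nat_lit 16))],
  [(nat_lit 45, .ofNat (nat_lit 16))],
  [(nat_lit 41, .ofNat (nat_lit 16))],
  [(nat_lit 49, .ofNat (nat_lit 16))],
  [(nat_lit 16, .ofNat (nat_lit 16))],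
  [(nat_lit 2, .ofNat (nat_lit 16))],
  [(nat_lit 18, .ofNat (nat_lit 16))],
  [(nat_lit 3, .ofNat (nat_lit 16))],
  [(nat_lit 20, .ofNat (nat_lit 16))],
  [(nat_lit 5, .ofNat (nat_lit 16))],
  [(nat_lit 22, .ofNat (nat_lit 16))],
  [(nat_lit 25, .ofNat (nat_lit 16))],
  [(nat_lit 24, .ofNat (nat_lit 16))],
  [(nat_lit 23, .ofNat (nat_lit 16))],
  [(nat_lit 26, .ofNat (nat_lit 16))],
  [(nat_lit 7, .ofNat (nat_lit 16))],
  [(nat_lit 28, .ofNat (nat_lit 16))],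
  [(nat_lit 9, .ofNat (nat_lit 16))],
  [(nat_lit 30, .ofNat (nat_lit 16))],
  [(nat_lit 11, .ofNat (nat_lit 16))],
  [(nat_lit 39, .ofNat (nat_lit 16))],
  [(nat_lit 47, .ofNat (nat_lit 16))],
  [(nat_lit 51, .ofNat (nat_lit 16))],
  [(nat_lit 43, .ofNat (nat_lit 16))],
  [(nat_lit 36, .ofNat (nat_lit 16))],
  [(nat_lit 12, .ofNat (nat_lit 16))],
  [(nat_lit 38, .ofNat (nat_lit 16))],
  [(nat_lit 32, .ofNat (nat_lit 16))],
  [(nat_lit 40, .ofNat (nat_lit 16))],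
  [(nat_lit 14, .ofNat (nat_lit 16))],
  [(nat_lit 50, .ofNat (nat_lit 16))],
  [(nat_lit 35, .ofNat (nat_lit 16))],
  [(nat_lit 44, .ofNat (nat_lit 16))],
  [(nat_lit 13, .ofNat (nat_lit 16))],
  [(nat_lit 46, .ofNat (nat_lit 16))],
  [(nat_lit 33, .ofNat (nat_lit 16))],
  [(nat_lit 48, .ofNat (nat_lit 16))],
  [(nat_lit 15, .ofNat (nat_lit 16))],
  [(nat_lit 42, .ofNat (nat_lit 16))],
  [(nat_lit 34, .ofNat (nat_lit 16))]]

/-- The matrix of the root 38, times sixteen. -/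
def mat38 : List (List (Nat × Int)) := [
  [(nat_lit 0, .ofNat (nat_lit 16))],
  [(nat_lit 1, .ofNat (nat_lit 16))],
  [(nat_lit 2, .ofNat (nat_lit 16))],
  [(nat_lit 3, .ofNat (nat_lit 16))],
  [(nat_lit 4, .ofNat (nat_lit 16))],
  [(nat_lit 5, .ofNat (nat_lit 16))],
  [(nat_lit 6, .ofNat (nat_lit 16))],
  [(nat_lit 7, .ofNat (nat_lit 16))],
  [(nat_lit 8, .negSucc (nat_lit 15))],
  [(nat_lit 9, .negSucc (nat_lit 15))],
  [(nat_lit 10, .ofNat (nat_lit 16))],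
  [(nat_lit 11, .ofNat (nat_lit 16))],
  [(nat_lit 12, .ofNat (nat_lit 16))],
  [(nat_lit 13, .ofNat (nat_lit 16))],
  [(nat_lit 14, .negSucc (nat_lit 15))],
  [(nat_lit 15, .negSucc (nat_lit 15))],
  [(nat_lit 16, .ofNat (nat_lit 16))],
  [(nat_lit 17, .ofNat (nat_lit 16))],
  [(nat_lit 18, .ofNat (nat_lit 16))],
  [(nat_lit 19, .ofNat (nat_lit 16))],
  [(nat_lit 20, .ofNat (nat_lit 16))],
  [(nat_lit 21, .ofNat (nat_lit 16))],
  [(nat_lit 22, .ofNat (nat_lit 16))],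
  [(nat_lit 23, .ofNat (nat_lit 16))],
  [(nat_lit 24, .ofNat (nat_lit 16))],
  [(nat_lit 25, .ofNat (nat_lit 16))],
  [(nat_lit 26, .ofNat (nat_lit 16))],
  [(nat_lit 27, .ofNat (nat_lit 16))],
  [(nat_lit 28, .negSucc (nat_lit 15))],
  [(nat_lit 29, .negSucc (nat_lit 15))],
  [(nat_lit 30, .ofNat (nat_lit 16))],
  [(nat_lit 31, .ofNat (nat_lit 16))],
  [(nat_lit 32, .ofNat (nat_lit 16))],
  [(nat_lit 33, .ofNat (nat_lit 16))],
  [(nat_lit 34, .negSucc (nat_lit 15))],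
  [(nat_lit 35, .negSucc (nat_lit 15))],
  [(nat_lit 36, .ofNat (nat_lit 16))],
  [(nat_lit 37, .ofNat (nat_lit 16))],
  [(nat_lit 38, .ofNat (nat_lit 16))],
  [(nat_lit 39, .ofNat (nat_lit 16))],
  [(nat_lit 40, .negSucc (nat_lit 15))],
  [(nat_lit 41, .negSucc (nat_lit 15))],
  [(nat_lit 42, .negSucc (nat_lit 15))],
  [(nat_lit 43, .negSucc (nat_lit 15))],
  [(nat_lit 44, .ofNat (nat_lit 16))],
  [(nat_lit 45, .ofNat (nat_lit 16))],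
  [(nat_lit 46, .ofNat (nat_lit 16))],
  [(nat_lit 47, .ofNat (nat_lit 16))],
  [(nat_lit 48, .negSucc (nat_lit 15))],
  [(nat_lit 49, .negSucc (nat_lit 15))],
  [(nat_lit 50, .negSucc (nat_lit 15))],
  [(nat_lit 51, .negSucc (nat_lit 15))]]

/-- The matrix of the root 39, times sixteen. -/
def mat39 : List (List (Nat × Int)) := [
  [(nat_lit 0, .ofNat (nat_lit 16))],
  [(nat_lit 1, .ofNat (nat_lit 16))],
  [(nat_lit 2, .ofNat (nat_lit 16))],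
  [(nat_lit 3, .ofNat (nat_lit 16))],
  [(nat_lit 4, .ofNat (nat_lit 16))],
  [(nat_lit 5, .ofNat (nat_lit 16))],
  [(nat_lit 6, .ofNat (nat_lit 16))],
  [(nat_lit 7, .ofNat (nat_lit 16))],
  [(nat_lit 8, .ofNat (nat_lit 16))],
  [(nat_lit 9, .ofNat (nat_lit 16))],
  [(nat_lit 10, .ofNat (nat_lit 16))],
  [(nat_lit 11, .ofNat (nat_lit 16))],
  [(nat_lit 12, .ofNat (nat_lit 16))],
  [(nat_lit 13, .ofNat (nat_lit 16))],
  [(nat_lit 14, .ofNat (nat_lit 16))],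
  [(nat_lit 15, .ofNat (nat_lit 16))],
  [(nat_lit 16, .ofNat (nat_lit 16))],
  [(nat_lit 17, .ofNat (nat_lit 16))],
  [(nat_lit 18, .ofNat (nat_lit 16))],
  [(nat_lit 19, .ofNat (nat_lit 16))],
  [(nat_lit 20, .ofNat (nat_lit 16))],
  [(nat_lit 21, .ofNat (nat_lit 16))],
  [(nat_lit 22, .negSucc (nat_lit 15))],
  [(nat_lit 23, .negSucc (nat_lit 15))],
  [(nat_lit 24, .negSucc (nat_lit 15))],
  [(nat_lit 25, .negSucc (nat_lit 15))],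
  [(nat_lit 26, .ofNat (nat_lit 16))],
  [(nat_lit 27, .ofNat (nat_lit 16))],
  [(nat_lit 28, .ofNat (nat_lit 16))],
  [(nat_lit 29, .ofNat (nat_lit 16))],
  [(nat_lit 30, .ofNat (nat_lit 16))],
  [(nat_lit 31, .ofNat (nat_lit 16))],
  [(nat_lit 32, .negSucc (nat_lit 15))],
  [(nat_lit 33, .negSucc (nat_lit 15))],
  [(nat_lit 34, .negSucc (nat_lit 15))],
  [(nat_lit 35, .negSucc (nat_lit 15))],
  [(nat_lit 36, .ofNat (nat_lit 16))],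
  [(nat_lit 37, .ofNat (nat_lit 16))],
  [(nat_lit 38, .negSucc (nat_lit 15))],
  [(nat_lit 39, .negSucc (nat_lit 15))],
  [(nat_lit 40, .ofNat (nat_lit 16))],
  [(nat_lit 41, .ofNat (nat_lit 16))],
  [(nat_lit 42, .negSucc (nat_lit 15))],
  [(nat_lit 43, .negSucc (nat_lit 15))],
  [(nat_lit 44, .ofNat (nat_lit 16))],
  [(nat_lit 45, .ofNat (nat_lit 16))],
  [(nat_lit 46, .negSucc (nat_lit 15))],
  [(nat_lit 47, .negSucc (nat_lit 15))],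
  [(nat_lit 48, .ofNat (nat_lit 16))],
  [(nat_lit 49, .ofNat (nat_lit 16))],
  [(nat_lit 50, .negSucc (nat_lit 15))],
  [(nat_lit 51, .negSucc (nat_lit 15))]]

/-- The matrix of the root 40, times sixteen. -/
def mat40 : List (List (Nat × Int)) := [
  [(nat_lit 0, .ofNat (nat_lit 16))],
  [(nat_lit 1, .ofNat (nat_lit 16))],
  [(nat_lit 2, .ofNat (nat_lit 16))],
  [(nat_lit 3, .ofNat (nat_lit 16))],
  [(nat_lit 4, .ofNat (nat_lit 16))],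
  [(nat_lit 5, .ofNat (nat_lit 16))],
  [(nat_lit 6, .ofNat (nat_lit 16))],
  [(nat_lit 7, .ofNat (nat_lit 16))],
  [(nat_lit 8, .ofNat (nat_lit 16))],
  [(nat_lit 9, .ofNat (nat_lit 16))],
  [(nat_lit 10, .ofNat (nat_lit 16))],
  [(nat_lit 11, .ofNat (nat_lit 16))],
  [(nat_lit 12, .negSucc (nat_lit 15))],
  [(nat_lit 13, .negSucc (nat_lit 15))],
  [(nat_lit 14, .negSucc (nat_lit 15))],
  [(nat_lit 15, .negSucc (nat_lit 15))],
  [(nat_lit 16, .ofNat (nat_lit 16))],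
  [(nat_lit 17, .ofNat (nat_lit 16))],
  [(nat_lit 18, .ofNat (nat_lit 16))],
  [(nat_lit 19, .ofNat (nat_lit 16))],
  [(nat_lit 20, .ofNat (nat_lit 16))],
  [(nat_lit 21, .ofNat (nat_lit 16))],
  [(nat_lit 22, .ofNat (nat_lit 16))],
  [(nat_lit 23, .ofNat (nat_lit 16))],
  [(nat_lit 24, .ofNat (nat_lit 16))],
  [(nat_lit 25, .ofNat (nat_lit 16))],
  [(nat_lit 26, .ofNat (nat_lit 16))],
  [(nat_lit 27, .ofNat (nat_lit 16))],
  [(nat_lit 28, .ofNat (nat_lit 16))],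
  [(nat_lit 29, .ofNat (nat_lit 16))],
  [(nat_lit 30, .ofNat (nat_lit 16))],
  [(nat_lit 31, .ofNat (nat_lit 16))],
  [(nat_lit 32, .negSucc (nat_lit 15))],
  [(nat_lit 33, .negSucc (nat_lit 15))],
  [(nat_lit 34, .negSucc (nat_lit 15))],
  [(nat_lit 35, .negSucc (nat_lit 15))],
  [(nat_lit 36, .ofNat (nat_lit 16))],
  [(nat_lit 37, .negSucc (nat_lit 15))],
  [(nat_lit 38, .ofNat (nat_lit 16))],
  [(nat_lit 39, .negSucc (nat_lit 15))],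
  [(nat_lit 40, .ofNat (nat_lit 16))],
  [(nat_lit 41, .negSucc (nat_lit 15))],
  [(nat_lit 42, .ofNat (nat_lit 16))],
  [(nat_lit 43, .negSucc (nat_lit 15))],
  [(nat_lit 44, .ofNat (nat_lit 16))],
  [(nat_lit 45, .negSucc (nat_lit 15))],
  [(nat_lit 46, .ofNat (nat_lit 16))],
  [(nat_lit 47, .negSucc (nat_lit 15))],
  [(nat_lit 48, .ofNat (nat_lit 16))],
  [(nat_lit 49, .negSucc (nat_lit 15))],
  [(nat_lit 50, .ofNat (nat_lit 16))],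
  [(nat_lit 51, .negSucc (nat_lit 15))]]

/-- The matrix of the root 41, times sixteen. -/
def mat41 : List (List (Nat × Int)) := [
  [(nat_lit 4, .ofNat (nat_lit 8)), (nat_lit 10, .ofNat (nat_lit 8)), (nat_lit 20, .ofNat (nat_lit 8)), (nat_lit 30, .ofNat (nat_lit 8))],
  [(nat_lit 36, .ofNat (nat_lit 16))],
  [(nat_lit 2, .negSucc (nat_lit 7)), (nat_lit 7, .ofNat (nat_lit 8)), (nat_lit 17, .ofNat (nat_lit 8)), (nat_lit 27, .ofNat (nat_lit 8))],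
  [(nat_lit 3, .negSucc (nat_lit 15))],
  [(nat_lit 0, .ofNat (nat_lit 8)), (nat_lit 6, .ofNat (nat_lit 8)), (nat_lit 16, .ofNat (nat_lit 8)), (nat_lit 26, .ofNat (nat_lit 8))],
  [(nat_lit 5, .negSucc (nat_lit 7)), (nat_lit 11, .ofNat (nat_lit 8)), (nat_lit 21, .ofNat (nat_lit 8)), (nat_lit 31, .ofNat (nat_lit 8))],
  [(nat_lit 4, .ofNat (nat_lit 8)), (nat_lit 10, .ofNat (nat_lit 8)), (nat_lit 20, .negSucc (nat_lit 7)), (nat_lit 30, .negSucc (nat_lit 7))],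
  [(nat_lit 2, .ofNat (nat_lit 8)), (nat_lit 7, .negSucc (nat_lit 7)), (nat_lit 17, .ofNat (nat_lit 8)), (nat_lit 27, .ofNat (nat_lit 8))],
  [(nat_lit 40, .ofNat (nat_lit 16))],
  [(nat_lit 9, .negSucc (nat_lit 15))],
  [(nat_lit 0, .ofNat (nat_lit 8)), (nat_lit 6, .ofNat (nat_lit 8)), (nat_lit 16, .negSucc (nat_lit 7)), (nat_lit 26, .negSucc (nat_lit 7))],
  [(nat_lit 5, .ofNat (nat_lit 8)), (nat_lit 11, .negSucc (nat_lit 7)), (nat_lit 21, .ofNat (nat_lit 8)), (nat_lit 31, .ofNat (nat_lit 8))],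
  [(nat_lit 37, .ofNat (nat_lit 16))],
  [(nat_lit 13, .negSucc (nat_lit 15))],
  [(nat_lit 41, .ofNat (nat_lit 16))],
  [(nat_lit 15, .negSucc (nat_lit 15))],
  [(nat_lit 4, .ofNat (nat_lit 8)), (nat_lit 10, .negSucc (nat_lit 7)), (nat_lit 20, .ofNat (nat_lit 8)), (nat_lit 30, .negSucc (nat_lit 7))],
  [(nat_lit 2, .ofNat (nat_lit 8)), (nat_lit 7, .ofNat (nat_lit 8)), (nat_lit 17, .negSucc (nat_lit 7)), (nat_lit 27, .ofNat (nat_lit 8))],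
  [(nat_lit 44, .ofNat (nat_lit 16))],
  [(nat_lit 19, .negSucc (nat_lit 15))],
  [(nat_lit 0, .ofNat (nat_lit 8)), (nat_lit 6, .negSucc (nat_lit 7)), (nat_lit 16, .ofNat (nat_lit 8)), (nat_lit 26, .negSucc (nat_lit 7))],
  [(nat_lit 5, .ofNat (nat_lit 8)), (nat_lit 11, .ofNat (nat_lit 8)), (nat_lit 21, .negSucc (nat_lit 7)), (nat_lit 31, .ofNat (nat_lit 8))],
  [(nat_lit 38, .ofNat (nat_lit 16))],
  [(nat_lit 23, .negSucc (nat_lit 15))],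
  [(nat_lit 46, .ofNat (nat_lit 16))],
  [(nat_lit 25, .negSucc (nat_lit 15))],
  [(nat_lit 4, .ofNat (nat_lit 8)), (nat_lit 10, .negSucc (nat_lit 7)), (nat_lit 20, .negSucc (nat_lit 7)), (nat_lit 30, .ofNat (nat_lit 8))],
  [(nat_lit 2, .ofNat (nat_lit 8)), (nat_lit 7, .ofNat (nat_lit 8)), (nat_lit 17, .ofNat (nat_lit 8)), (nat_lit 27, .negSucc (nat_lit 7))],
  [(nat_lit 48, .ofNat (nat_lit 16))],
  [(nat_lit 29, .negSucc (nat_lit 15))],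
  [(nat_lit 0, .ofNat (nat_lit 8)), (nat_lit 6, .negSucc (nat_lit 7)), (nat_lit 16, .negSucc (nat_lit 7)), (nat_lit 26, .ofNat (nat_lit 8))],
  [(nat_lit 5, .ofNat (nat_lit 8)), (nat_lit 11, .ofNat (nat_lit 8)), (nat_lit 21, .ofNat (nat_lit 8)), (nat_lit 31, .negSucc (nat_lit 7))],
  [(nat_lit 39, .ofNat (nat_lit 16))],
  [(nat_lit 33, .negSucc (nat_lit 15))],
  [(nat_lit 51, .ofNat (nat_lit 16))],
  [(nat_lit 35, .negSucc (nat_lit 15))],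
  [(nat_lit 1, .ofNat (nat_lit 16))],
  [(nat_lit 12, .ofNat (nat_lit 16))],
  [(nat_lit 22, .ofNat (nat_lit 16))],
  [(nat_lit 32, .ofNat (nat_lit 16))],
  [(nat_lit 8, .ofNat (nat_lit 16))],
  [(nat_lit 14, .ofNat (nat_lit 16))],
  [(nat_lit 42, .negSucc (nat_lit 15))],
  [(nat_lit 43, .negSucc (nat_lit 15))],
  [(nat_lit 18, .ofNat (nat_lit 16))],
  [(nat_lit 45, .negSucc (nat_lit 15))],
  [(nat_lit 24, .ofNat (nat_lit 16))],
  [(nat_lit 47, .negSucc (nat_lit 15))],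
  [(nat_lit 28, .ofNat (nat_lit 16))],
  [(nat_lit 49, .negSucc (nat_lit 15))],
  [(nat_lit 50, .negSucc (nat_lit 15))],
  [(nat_lit 34, .ofNat (nat_lit 16))]]

/-- The matrix of the root 42, times sixteen. -/
def mat42 : List (List (Nat × Int)) := [
  [(nat_lit 4, .ofNat (nat_lit 16))],
  [(nat_lit 1, .ofNat (nat_lit 16))],
  [(nat_lit 5, .ofNat (nat_lit 16))],
  [(nat_lit 3, .negSucc (nat_lit 15))],
  [(nat_lit 0, .ofNat (nat_lit 16))],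
  [(nat_lit 2, .ofNat (nat_lit 16))],
  [(nat_lit 10, .ofNat (nat_lit 16))],
  [(nat_lit 11, .ofNat (nat_lit 16))],
  [(nat_lit 8, .negSucc (nat_lit 15))],
  [(nat_lit 9, .negSucc (nat_lit 15))],
  [(nat_lit 6, .ofNat (nat_lit 16))],
  [(nat_lit 7, .ofNat (nat_lit 16))],
  [(nat_lit 12, .ofNat (nat_lit 16))],
  [(nat_lit 13, .negSucc (nat_lit 15))],
  [(nat_lit 14, .negSucc (nat_lit 15))],
  [(nat_lit 15, .negSucc (nat_lit 15))],
  [(nat_lit 20, .ofNat (nat_lit 16))],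
  [(nat_lit 21, .ofNat (nat_lit 16))],
  [(nat_lit 18, .negSucc (nat_lit 15))],
  [(nat_lit 19, .negSucc (nat_lit 15))],
  [(nat_lit 16, .ofNat (nat_lit 16))],
  [(nat_lit 17, .ofNat (nat_lit 16))],
  [(nat_lit 22, .ofNat (nat_lit 16))],
  [(nat_lit 23, .negSucc (nat_lit 15))],
  [(nat_lit 24, .negSucc (nat_lit 15))],
  [(nat_lit 25, .negSucc (nat_lit 15))],
  [(nat_lit 30, .ofNat (nat_lit 16))],
  [(nat_lit 31, .ofNat (nat_lit 16))],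
  [(nat_lit 28, .negSucc (nat_lit 15))],
  [(nat_lit 29, .negSucc (nat_lit 15))],
  [(nat_lit 26, .ofNat (nat_lit 16))],
  [(nat_lit 27, .ofNat (nat_lit 16))],
  [(nat_lit 32, .ofNat (nat_lit 16))],
  [(nat_lit 33, .negSucc (nat_lit 15))],
  [(nat_lit 34, .negSucc (nat_lit 15))],
  [(nat_lit 35, .negSucc (nat_lit 15))],
  [(nat_lit 36, .ofNat (nat_lit 16))],
  [(nat_lit 37, .ofNat (nat_lit 16))],
  [(nat_lit 38, .ofNat (nat_lit 16))],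
  [(nat_lit 39, .ofNat (nat_lit 16))],
  [(nat_lit 40, .negSucc (nat_lit 15))],
  [(nat_lit 41, .negSucc (nat_lit 15))],
  [(nat_lit 42, .negSucc (nat_lit 15))],
  [(nat_lit 43, .negSucc (nat_lit 15))],
  [(nat_lit 44, .negSucc (nat_lit 15))],
  [(nat_lit 45, .negSucc (nat_lit 15))],
  [(nat_lit 46, .negSucc (nat_lit 15))],
  [(nat_lit 47, .negSucc (nat_lit 15))],
  [(nat_lit 48, .negSucc (nat_lit 15))],
  [(nat_lit 49, .negSucc (nat_lit 15))],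
  [(nat_lit 50, .negSucc (nat_lit 15))],
  [(nat_lit 51, .negSucc (nat_lit 15))]]

/-- The matrix of the root 43, times sixteen. -/
def mat43 : List (List (Nat × Int)) := [
  [(nat_lit 6, .negSucc (nat_lit 15))],
  [(nat_lit 1, .ofNat (nat_lit 16))],
  [(nat_lit 7, .ofNat (nat_lit 16))],
  [(nat_lit 3, .negSucc (nat_lit 15))],
  [(nat_lit 10, .negSucc (nat_lit 15))],
  [(nat_lit 11, .ofNat (nat_lit 16))],
  [(nat_lit 0, .negSucc (nat_lit 15))],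
  [(nat_lit 2, .ofNat (nat_lit 16))],
  [(nat_lit 8, .ofNat (nat_lit 16))],
  [(nat_lit 9, .negSucc (nat_lit 15))],
  [(nat_lit 4, .negSucc (nat_lit 15))],
  [(nat_lit 5, .ofNat (nat_lit 16))],
  [(nat_lit 12, .ofNat (nat_lit 16))],
  [(nat_lit 13, .negSucc (nat_lit 15))],
  [(nat_lit 14, .ofNat (nat_lit 16))],
  [(nat_lit 15, .negSucc (nat_lit 15))],
  [(nat_lit 26, .ofNat (nat_lit 16))],
  [(nat_lit 27, .ofNat (nat_lit 16))],
  [(nat_lit 18, .negSucc (nat_lit 15))],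
  [(nat_lit 19, .negSucc (nat_lit 15))],
  [(nat_lit 30, .ofNat (nat_lit 16))],
  [(nat_lit 31, .ofNat (nat_lit 16))],
  [(nat_lit 22, .negSucc (nat_lit 15))],
  [(nat_lit 23, .negSucc (nat_lit 15))],
  [(nat_lit 24, .negSucc (nat_lit 15))],
  [(nat_lit 25, .negSucc (nat_lit 15))],
  [(nat_lit 16, .ofNat (nat_lit 16))],
  [(nat_lit 17, .ofNat (nat_lit 16))],
  [(nat_lit 28, .negSucc (nat_lit 15))],
  [(nat_lit 29, .negSucc (nat_lit 15))],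
  [(nat_lit 20, .ofNat (nat_lit 16))],
  [(nat_lit 21, .ofNat (nat_lit 16))],
  [(nat_lit 32, .negSucc (nat_lit 15))],
  [(nat_lit 33, .negSucc (nat_lit 15))],
  [(nat_lit 34, .negSucc (nat_lit 15))],
  [(nat_lit 35, .negSucc (nat_lit 15))],
  [(nat_lit 36, .ofNat (nat_lit 16))],
  [(nat_lit 37, .ofNat (nat_lit 16))],
  [(nat_lit 38, .negSucc (nat_lit 15))],
  [(nat_lit 39, .negSucc (nat_lit 15))],
  [(nat_lit 40, .ofNat (nat_lit 16))],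
  [(nat_lit 41, .ofNat (nat_lit 16))],
  [(nat_lit 42, .negSucc (nat_lit 15))],
  [(nat_lit 43, .negSucc (nat_lit 15))],
  [(nat_lit 44, .negSucc (nat_lit 15))],
  [(nat_lit 45, .negSucc (nat_lit 15))],
  [(nat_lit 46, .negSucc (nat_lit 15))],
  [(nat_lit 47, .negSucc (nat_lit 15))],
  [(nat_lit 48, .negSucc (nat_lit 15))],
  [(nat_lit 49, .negSucc (nat_lit 15))],
  [(nat_lit 50, .negSucc (nat_lit 15))],
  [(nat_lit 51, .negSucc (nat_lit 15))]]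

/-- The matrix of the root 44, times sixteen. -/
def mat44 : List (List (Nat × Int)) := [
  [(nat_lit 0, .ofNat (nat_lit 16))],
  [(nat_lit 1, .ofNat (nat_lit 16))],
  [(nat_lit 2, .ofNat (nat_lit 16))],
  [(nat_lit 3, .negSucc (nat_lit 15))],
  [(nat_lit 4, .ofNat (nat_lit 16))],
  [(nat_lit 5, .ofNat (nat_lit 16))],
  [(nat_lit 6, .ofNat (nat_lit 16))],
  [(nat_lit 7, .ofNat (nat_lit 16))],
  [(nat_lit 8, .ofNat (nat_lit 16))],
  [(nat_lit 9, .negSucc (nat_lit 15))],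
  [(nat_lit 10, .ofNat (nat_lit 16))],
  [(nat_lit 11, .ofNat (nat_lit 16))],
  [(nat_lit 12, .ofNat (nat_lit 16))],
  [(nat_lit 13, .negSucc (nat_lit 15))],
  [(nat_lit 14, .ofNat (nat_lit 16))],
  [(nat_lit 15, .negSucc (nat_lit 15))],
  [(nat_lit 16, .ofNat (nat_lit 16))],
  [(nat_lit 17, .ofNat (nat_lit 16))],
  [(nat_lit 18, .ofNat (nat_lit 16))],
  [(nat_lit 19, .negSucc (nat_lit 15))],
  [(nat_lit 20, .ofNat (nat_lit 16))],
  [(nat_lit 21, .ofNat (nat_lit 16))],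
  [(nat_lit 22, .ofNat (nat_lit 16))],
  [(nat_lit 23, .negSucc (nat_lit 15))],
  [(nat_lit 24, .ofNat (nat_lit 16))],
  [(nat_lit 25, .negSucc (nat_lit 15))],
  [(nat_lit 26, .ofNat (nat_lit 16))],
  [(nat_lit 27, .ofNat (nat_lit 16))],
  [(nat_lit 28, .ofNat (nat_lit 16))],
  [(nat_lit 29, .negSucc (nat_lit 15))],
  [(nat_lit 30, .ofNat (nat_lit 16))],
  [(nat_lit 31, .ofNat (nat_lit 16))],
  [(nat_lit 32, .ofNat (nat_lit 16))],
  [(nat_lit 33, .negSucc (nat_lit 15))],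
  [(nat_lit 34, .ofNat (nat_lit 16))],
  [(nat_lit 35, .negSucc (nat_lit 15))],
  [(nat_lit 36, .ofNat (nat_lit 16))],
  [(nat_lit 37, .ofNat (nat_lit 16))],
  [(nat_lit 38, .ofNat (nat_lit 16))],
  [(nat_lit 39, .ofNat (nat_lit 16))],
  [(nat_lit 40, .ofNat (nat_lit 16))],
  [(nat_lit 41, .ofNat (nat_lit 16))],
  [(nat_lit 42, .negSucc (nat_lit 15))],
  [(nat_lit 43, .negSucc (nat_lit 15))],
  [(nat_lit 44, .ofNat (nat_lit 16))],
  [(nat_lit 45, .negSucc (nat_lit 15))],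
  [(nat_lit 46, .ofNat (nat_lit 16))],
  [(nat_lit 47, .negSucc (nat_lit 15))],
  [(nat_lit 48, .ofNat (nat_lit 16))],
  [(nat_lit 49, .negSucc (nat_lit 15))],
  [(nat_lit 50, .negSucc (nat_lit 15))],
  [(nat_lit 51, .ofNat (nat_lit 16))]]

/-- The matrix of the root 45, times sixteen. -/
def mat45 : List (List (Nat × Int)) := [
  [(nat_lit 16, .negSucc (nat_lit 15))],
  [(nat_lit 1, .ofNat (nat_lit 16))],
  [(nat_lit 17, .ofNat (nat_lit 16))],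
  [(nat_lit 3, .negSucc (nat_lit 15))],
  [(nat_lit 20, .negSucc (nat_lit 15))],
  [(nat_lit 21, .ofNat (nat_lit 16))],
  [(nat_lit 26, .ofNat (nat_lit 16))],
  [(nat_lit 27, .ofNat (nat_lit 16))],
  [(nat_lit 8, .negSucc (nat_lit 15))],
  [(nat_lit 9, .negSucc (nat_lit 15))],
  [(nat_lit 30, .ofNat (nat_lit 16))],
  [(nat_lit 31, .ofNat (nat_lit 16))],
  [(nat_lit 12, .negSucc (nat_lit 15))],
  [(nat_lit 13, .negSucc (nat_lit 15))],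
  [(nat_lit 14, .negSucc (nat_lit 15))],
  [(nat_lit 15, .negSucc (nat_lit 15))],
  [(nat_lit 0, .negSucc (nat_lit 15))],
  [(nat_lit 2, .ofNat (nat_lit 16))],
  [(nat_lit 18, .ofNat (nat_lit 16))],
  [(nat_lit 19, .negSucc (nat_lit 15))],
  [(nat_lit 4, .negSucc (nat_lit 15))],
  [(nat_lit 5, .ofNat (nat_lit 16))],
  [(nat_lit 22, .ofNat (nat_lit 16))],
  [(nat_lit 23, .negSucc (nat_lit 15))],
  [(nat_lit 24, .ofNat (nat_lit 16))],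
  [(nat_lit 25, .negSucc (nat_lit 15))],
  [(nat_lit 6, .ofNat (nat_lit 16))],
  [(nat_lit 7, .ofNat (nat_lit 16))],
  [(nat_lit 28, .negSucc (nat_lit 15))],
  [(nat_lit 29, .negSucc (nat_lit 15))],
  [(nat_lit 10, .ofNat (nat_lit 16))],
  [(nat_lit 11, .ofNat (nat_lit 16))],
  [(nat_lit 32, .negSucc (nat_lit 15))],
  [(nat_lit 33, .negSucc (nat_lit 15))],
  [(nat_lit 34, .negSucc (nat_lit 15))],
  [(nat_lit 35, .negSucc (nat_lit 15))],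
  [(nat_lit 36, .ofNat (nat_lit 16))],
  [(nat_lit 37, .negSucc (nat_lit 15))],
  [(nat_lit 38, .ofNat (nat_lit 16))],
  [(nat_lit 39, .negSucc (nat_lit 15))],
  [(nat_lit 40, .negSucc (nat_lit 15))],
  [(nat_lit 41, .negSucc (nat_lit 15))],
  [(nat_lit 42, .negSucc (nat_lit 15))],
  [(nat_lit 43, .negSucc (nat_lit 15))],
  [(nat_lit 44, .ofNat (nat_lit 16))],
  [(nat_lit 45, .negSucc (nat_lit 15))],
  [(nat_lit 46, .ofNat (nat_lit 16))],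
  [(nat_lit 47, .negSucc (nat_lit 15))],
  [(nat_lit 48, .negSucc (nat_lit 15))],
  [(nat_lit 49, .negSucc (nat_lit 15))],
  [(nat_lit 50, .negSucc (nat_lit 15))],
  [(nat_lit 51, .negSucc (nat_lit 15))]]

/-- The matrix of the root 46, times sixteen. -/
def mat46 : List (List (Nat × Int)) := [
  [(nat_lit 0, .ofNat (nat_lit 16))],
  [(nat_lit 1, .ofNat (nat_lit 16))],
  [(nat_lit 2, .negSucc (nat_lit 15))],
  [(nat_lit 3, .negSucc (nat_lit 15))],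
  [(nat_lit 4, .ofNat (nat_lit 16))],
  [(nat_lit 5, .negSucc (nat_lit 15))],
  [(nat_lit 6, .ofNat (nat_lit 16))],
  [(nat_lit 7, .negSucc (nat_lit 15))],
  [(nat_lit 8, .ofNat (nat_lit 16))],
  [(nat_lit 9, .negSucc (nat_lit 15))],
  [(nat_lit 10, .ofNat (nat_lit 16))],
  [(nat_lit 11, .negSucc (nat_lit 15))],
  [(nat_lit 12, .negSucc (nat_lit 15))],
  [(nat_lit 13, .negSucc (nat_lit 15))],
  [(nat_lit 14, .negSucc (nat_lit 15))],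
  [(nat_lit 15, .negSucc (nat_lit 15))],
  [(nat_lit 16, .ofNat (nat_lit 16))],
  [(nat_lit 17, .negSucc (nat_lit 15))],
  [(nat_lit 18, .ofNat (nat_lit 16))],
  [(nat_lit 19, .negSucc (nat_lit 15))],
  [(nat_lit 20, .ofNat (nat_lit 16))],
  [(nat_lit 21, .negSucc (nat_lit 15))],
  [(nat_lit 22, .negSucc (nat_lit 15))],
  [(nat_lit 23, .negSucc (nat_lit 15))],
  [(nat_lit 24, .negSucc (nat_lit 15))],
  [(nat_lit 25, .negSucc (nat_lit 15))],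
  [(nat_lit 26, .ofNat (nat_lit 16))],
  [(nat_lit 27, .negSucc (nat_lit 15))],
  [(nat_lit 28, .ofNat (nat_lit 16))],
  [(nat_lit 29, .negSucc (nat_lit 15))],
  [(nat_lit 30, .ofNat (nat_lit 16))],
  [(nat_lit 31, .negSucc (nat_lit 15))],
  [(nat_lit 32, .negSucc (nat_lit 15))],
  [(nat_lit 33, .negSucc (nat_lit 15))],
  [(nat_lit 34, .negSucc (nat_lit 15))],
  [(nat_lit 35, .negSucc (nat_lit 15))],
  [(nat_lit 36, .ofNat (nat_lit 16))],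
  [(nat_lit 37, .negSucc (nat_lit 15))],
  [(nat_lit 38, .negSucc (nat_lit 15))],
  [(nat_lit 39, .negSucc (nat_lit 15))],
  [(nat_lit 40, .ofNat (nat_lit 16))],
  [(nat_lit 41, .negSucc (nat_lit 15))],
  [(nat_lit 42, .negSucc (nat_lit 15))],
  [(nat_lit 43, .negSucc (nat_lit 15))],
  [(nat_lit 44, .ofNat (nat_lit 16))],
  [(nat_lit 45, .negSucc (nat_lit 15))],
  [(nat_lit 46, .negSucc (nat_lit 15))],
  [(nat_lit 47, .negSucc (nat_lit 15))],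
  [(nat_lit 48, .ofNat (nat_lit 16))],
  [(nat_lit 49, .negSucc (nat_lit 15))],
  [(nat_lit 50, .negSucc (nat_lit 15))],
  [(nat_lit 51, .negSucc (nat_lit 15))]]

/-- The matrix of the root 47, times sixteen. -/
def mat47 : List (List (Nat × Int)) := [
  [(nat_lit 0, .ofNat (nat_lit 16))],
  [(nat_lit 1, .negSucc (nat_lit 15))],
  [(nat_lit 2, .ofNat (nat_lit 16))],
  [(nat_lit 3, .negSucc (nat_lit 15))],
  [(nat_lit 4, .ofNat (nat_lit 16))],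
  [(nat_lit 5, .ofNat (nat_lit 16))],
  [(nat_lit 6, .ofNat (nat_lit 16))],
  [(nat_lit 7, .ofNat (nat_lit 16))],
  [(nat_lit 8, .negSucc (nat_lit 15))],
  [(nat_lit 9, .negSucc (nat_lit 15))],
  [(nat_lit 10, .ofNat (nat_lit 16))],
  [(nat_lit 11, .ofNat (nat_lit 16))],
  [(nat_lit 12, .negSucc (nat_lit 15))],
  [(nat_lit 13, .negSucc (nat_lit 15))],
  [(nat_lit 14, .negSucc (nat_lit 15))],
  [(nat_lit 15, .negSucc (nat_lit 15))],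
  [(nat_lit 16, .ofNat (nat_lit 16))],
  [(nat_lit 17, .ofNat (nat_lit 16))],
  [(nat_lit 18, .negSucc (nat_lit 15))],
  [(nat_lit 19, .negSucc (nat_lit 15))],
  [(nat_lit 20, .ofNat (nat_lit 16))],
  [(nat_lit 21, .ofNat (nat_lit 16))],
  [(nat_lit 22, .negSucc (nat_lit 15))],
  [(nat_lit 23, .negSucc (nat_lit 15))],
  [(nat_lit 24, .negSucc (nat_lit 15))],
  [(nat_lit 25, .negSucc (nat_lit 15))],
  [(nat_lit 26, .ofNat (nat_lit 16))],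
  [(nat_lit 27, .ofNat (nat_lit 16))],
  [(nat_lit 28, .negSucc (nat_lit 15))],
  [(nat_lit 29, .negSucc (nat_lit 15))],
  [(nat_lit 30, .ofNat (nat_lit 16))],
  [(nat_lit 31, .ofNat (nat_lit 16))],
  [(nat_lit 32, .negSucc (nat_lit 15))],
  [(nat_lit 33, .negSucc (nat_lit 15))],
  [(nat_lit 34, .negSucc (nat_lit 15))],
  [(nat_lit 35, .negSucc (nat_lit 15))],
  [(nat_lit 36, .negSucc (nat_lit 15))],
  [(nat_lit 37, .negSucc (nat_lit 15))],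
  [(nat_lit 38, .negSucc (nat_lit 15))],
  [(nat_lit 39, .negSucc (nat_lit 15))],
  [(nat_lit 40, .negSucc (nat_lit 15))],
  [(nat_lit 41, .negSucc (nat_lit 15))],
  [(nat_lit 42, .negSucc (nat_lit 15))],
  [(nat_lit 43, .negSucc (nat_lit 15))],
  [(nat_lit 44, .negSucc (nat_lit 15))],
  [(nat_lit 45, .negSucc (nat_lit 15))],
  [(nat_lit 46, .negSucc (nat_lit 15))],
  [(nat_lit 47, .negSucc (nat_lit 15))],
  [(nat_lit 48, .negSucc (nat_lit 15))],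
  [(nat_lit 49, .negSucc (nat_lit 15))],
  [(nat_lit 50, .negSucc (nat_lit 15))],
  [(nat_lit 51, .negSucc (nat_lit 15))]]

/-- All the matrices. -/
def matTab : List (List (List (Nat × Int))) := [mat0, mat1, mat2, mat3, mat4, mat5, mat6, mat7, mat8, mat9, mat10, mat11, mat12, mat13, mat14, mat15, mat16, mat17, mat18, mat19, mat20, mat21, mat22, mat23, mat24, mat25, mat26, mat27, mat28, mat29, mat30, mat31, mat32, mat33, mat34, mat35, mat36, mat37, mat38, mat39, mat40, mat41, mat42, mat43, mat44, mat45, mat46, mat47]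

end Cfsg.Agent.F4TwoMult
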