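import Mathlib
import Cfsg.Agent.F4TwoMult.Table
import Cfsg.Agent.F4TwoMult.RepData
import Cfsg.Agent.CosetCert.Basic

/-!
Packed rows to compare products of sparse integer matrices of size 52.
-/

set_option autoImplicit false

namespace Cfsg.Agent.F4TwoMult

open Cfsg.Agent.CosetCert (force)

/-- The exponent of the modulus. -/
@[irreducible] def expP : ℕ := 2081

/-- The modulus of the packing. -/
def modP : ℕ := 2 ^ expP

/-- The residue of an integer. -/
noncomputable def resP (v : ℤ) : ℕ :=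
  Int.rec (motive := fun _ => ℕ) (fun n => n) (fun n => Nat.sub modP (Nat.add n 1)) v

/-- A packed sparse row. -/
noncomputable def packR (l : List (ℕ × ℤ)) : ℕ :=
  List.rec (motive := fun _ => ℕ) 0 (fun e _ r =>
    Nat.mod (Nat.add (Nat.mul (resP e.2) (Nat.pow 2 (Nat.mul 40 e.1))) r) modP) l

/-- Forced evaluation of a list. -/
noncomputable def forceL {α : Type} (l : List ℕ) : (List ℕ → α) → α :=
  List.rec (motive := fun _ => (List ℕ → α) → α) (fun k => k [])
    (fun a _ ih k => force a fun a' => ih fun l' => k (a' :: l')) l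

/-- Search trees of packed rows. -/
inductive RTree where
  | leaf (v : ℕ) : RTree
  | node (s : ℕ) (l r : RTree) : RTree

/-- The entry at a position. -/
noncomputable def RTree.get (t : RTree) : ℕ → ℕ :=
  RTree.rec (motive := fun _ => ℕ → ℕ) (fun v _ => v)
    (fun s _ _ gl gr j => Bool.rec (motive := fun _ => ℕ) (gr (Nat.sub j s)) (gl j) (Nat.blt j s)) t

/-- A tree of depth `d` consuming the head of a list, built with continuations. -/
noncomputable def buildT {α : Type} (d : ℕ) : List ℕ → (RTree → List ℕ → α) → α :=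
  Nat.rec (motive := fun _ => List ℕ → (RTree → List ℕ → α) → α)
    (fun l k => List.rec (motive := fun _ => α) (k (.leaf 0) [])
      (fun a l' _ => force a fun a' => k (.leaf a') l') l)
    (fun d ih l k => force (Nat.pow 2 d) fun s => ih l fun a l1 => ih l1 fun b l2 =>
      k (.node s a b) l2) d

/-- A combination of packed rows. -/
noncomputable def combR (t : RTree) (l : List (ℕ × ℤ)) : ℕ :=
  List.rec (motive := fun _ => ℕ) 0 (fun e _ r =>
    Nat.mod (Nat.add (Nat.mul (resP e.2) (t.get e.1)) r) modP) l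

/-- Sparse times packed. -/
noncomputable def mulP (R : List (List (ℕ × ℤ))) (P : List ℕ) : List ℕ :=
  buildT 6 P fun t _ => forceL (R.map (combR t)) fun l => l

/-- Multiple of packed rows. -/
noncomputable def smulP (c : ℕ) (P : List ℕ) : List ℕ := P.map fun a => c * a % modP

/-- The matrix of a sparse list. -/
def toM (R : List (List (ℕ × ℤ))) : Matrix (Fin 52) (Fin 52) ℤ :=
  Matrix.of fun i j => ((R.getD i.val []).map fun e => if e.1 = j.val then e.2 else 0).sum

/-- The bound on the rows of the matrices. -/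
def okR (R : List (List (ℕ × ℤ))) : Bool :=
  Nat.beq R.length 52 && R.all fun r =>
    r.all (fun e => Nat.blt e.1 52) && Nat.ble (r.map fun e => e.2.natAbs).sum 176

/-- Weights of the packing. -/
noncomputable def psi (x : Fin 52 → ℤ) : ZMod modP := ∑ j, (x j : ZMod modP) * 2 ^ (40 * j.val)

/-- Packed rows representing a matrix. -/
def Reps (B : Matrix (Fin 52) (Fin 52) ℤ) (P : List ℕ) : Prop :=
  P.length = 52 ∧ ∀ i : Fin 52, ((P.getD i.val 0 : ℕ) : ZMod modP) = psi (B i)

theorem force_eq' {α : Type} (n : ℕ) (k : ℕ → α) : force n k = k n := by cases n <;> rfl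

theorem forceL_eq {α : Type} : ∀ (l : List ℕ) (k : List ℕ → α), forceL l k = k l
  | [], k => rfl
  | a :: l, k => by
    have e : forceL (a :: l) k = force a fun a' => forceL l fun l' => k (a' :: l') := rfl
    rw [e, force_eq']
    exact forceL_eq l fun l' => k (a :: l')

theorem buildT_spec {α : Type} : ∀ (d : ℕ) (l : List ℕ) (k : RTree → List ℕ → α),
    ∃ t, buildT d l k = k t (l.drop (2 ^ d)) ∧ ∀ j < 2 ^ d, t.get j = l.getD j 0
  | 0, [], k => ⟨.leaf 0, rfl, fun j hj => by simp [RTree.get]⟩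
  | 0, a :: l, k => ⟨.leaf a, force_eq' a fun a' => k (.leaf a') l, fun j hj => by
      obtain rfl : j = 0 := by simpa using hj
      rfl⟩
  | d + 1, l, k => by
    have e : buildT (d + 1) l k = force (2 ^ d) fun s => buildT d l fun a l1 =>
        buildT d l1 fun b l2 => k (.node s a b) l2 := rfl
    rw [e, force_eq']
    obtain ⟨a, ha, ga⟩ := buildT_spec d l
      (fun a l1 => buildT d l1 fun b l2 => k (RTree.node (2 ^ d) a b) l2)
    obtain ⟨b, hb, gb⟩ := buildT_spec d (l.drop (2 ^ d))
      (fun b l2 => k (RTree.node (2 ^ d) a b) l2)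
    refine ⟨.node (2 ^ d) a b, (ha.trans hb).trans ?_, fun j hj => ?_⟩
    · rw [List.drop_drop, ← two_mul, ← pow_succ']
    show (Bool.rec (b.get (j - 2 ^ d)) (a.get j) (Nat.blt j (2 ^ d)) : ℕ) = _
    rw [pow_succ] at hj
    rcases Nat.lt_or_ge j (2 ^ d) with h | h
    · rw [show Nat.blt j (2 ^ d) = true by rw [Nat.blt_eq]; exact h]
      exact ga j h
    · rw [show Nat.blt j (2 ^ d) = false by
        rw [← Bool.not_eq_true, Nat.blt_eq]; omega]
      show b.get (j - 2 ^ d) = _
      rw [gb _ (by omega)]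
      simp [List.getD_eq_getElem?_getD, Nat.add_sub_of_le h]

theorem cast_resP (v : ℤ) (hv : v.natAbs ≤ modP) : (resP v : ZMod modP) = (v : ZMod modP) := by
  cases v with
  | ofNat n => simp [resP]
  | negSucc n =>
    show ((modP - (n + 1) : ℕ) : ZMod modP) = _
    rw [Nat.cast_sub (by simpa using hv), ZMod.natCast_self, zero_sub, Int.negSucc_eq]
    push_cast
    ring

theorem natAbs_le_of_ok {l : List (ℕ × ℤ)} (h : (l.map fun e => e.2.natAbs).sum ≤ 176)
    {e : ℕ × ℤ} (he : e ∈ l) : e.2.natAbs ≤ modP := by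
  have := List.le_sum_of_mem (List.mem_map_of_mem (f := fun e : ℕ × ℤ => e.2.natAbs) he)
  have h176 : (176 : ℕ) ≤ modP := le_trans (by norm_num) (Nat.pow_le_pow_right (n := 2) (by norm_num)
    (show 8 ≤ expP by unfold expP; norm_num))
  omega

theorem cast_sum_row (g : ℕ → ℕ) : ∀ (l : List (ℕ × ℤ)), (∀ e ∈ l, e.2.natAbs ≤ modP) →
    (∀ e ∈ l, e.1 < 52) →
    ((List.rec (motive := fun _ => ℕ) 0 (fun e _ r =>
      Nat.mod (Nat.add (Nat.mul (resP e.2) (g e.1)) r) modP) l : ℕ) : ZMod modP) =
      ∑ k : Fin 52, ((l.map fun e => if e.1 = k.val then e.2 else 0).sum : ℤ) *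
        ((g k.val : ℕ) : ZMod modP)
  | [], _, _ => by simp
  | e :: l, hb, hl => by
    show (((resP e.2 * g e.1 + _) % modP : ℕ) : ZMod modP) = _
    rw [ZMod.natCast_mod, Nat.cast_add, Nat.cast_mul, cast_resP _ (hb e List.mem_cons_self),
      cast_sum_row g l (fun x hx => hb x (List.mem_cons_of_mem _ hx))
        (fun x hx => hl x (List.mem_cons_of_mem _ hx))]
    simp only [List.map_cons, List.sum_cons, Int.cast_add, add_mul, Finset.sum_add_distrib]
    congr 1
    rw [Finset.sum_eq_single_of_mem (⟨e.1, hl e List.mem_cons_self⟩ : Fin 52) (Finset.mem_univ _)]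
    · simp
    · intro k _ hk
      rw [if_neg (fun h => hk (Fin.ext h.symm))]
      simp

theorem row_spec {R : List (List (ℕ × ℤ))} (h : okR R = true) (i : Fin 52) :
    (∀ e ∈ R.getD i.val [], e.1 < 52) ∧
      ((R.getD i.val []).map fun e => e.2.natAbs).sum ≤ 176 := by
  simp only [okR, Bool.and_eq_true, Nat.beq_eq, List.all_eq_true, Nat.blt_eq, Nat.ble_eq] at h
  have hi : i.val < R.length := h.1.symm ▸ i.isLt
  rw [List.getD_eq_getElem?_getD, List.getElem?_eq_getElem hi, Option.getD_some]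
  exact h.2 _ (List.getElem_mem hi)

theorem reps_pack {R : List (List (ℕ × ℤ))} (h : okR R = true) : Reps (toM R) (R.map packR) := by
  have hl : R.length = 52 := by
    simp only [okR, Bool.and_eq_true, Nat.beq_eq] at h; exact h.1
  refine ⟨by simp [hl], fun i => ?_⟩
  have hi : i.val < R.length := hl.symm ▸ i.isLt
  obtain ⟨h1, h2⟩ := row_spec h i
  have e : (R.map packR).getD i.val 0 = packR (R.getD i.val []) := by
    simp [List.getD_eq_getElem?_getD, hi]
  rw [e]
  exact (cast_sum_row (fun j => 2 ^ (40 * j)) _ (fun x hx => natAbs_le_of_ok h2 hx) h1).trans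
    (Finset.sum_congr rfl fun k _ => by rw [Nat.cast_pow]; rfl)

theorem reps_mul {R : List (List (ℕ × ℤ))} (h : okR R = true) {B : Matrix (Fin 52) (Fin 52) ℤ}
    {P : List ℕ} (hP : Reps B P) : Reps (toM R * B) (mulP R P) := by
  have hl : R.length = 52 := by
    simp only [okR, Bool.and_eq_true, Nat.beq_eq] at h; exact h.1
  obtain ⟨t, ht, hg⟩ := buildT_spec 6 P fun t _ => forceL (R.map (combR t)) fun l => l
  have e0 : mulP R P = R.map (combR t) := by rw [mulP, ht, forceL_eq]
  refine ⟨by simp [e0, hl], fun i => ?_⟩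
  have hi : i.val < R.length := hl.symm ▸ i.isLt
  obtain ⟨h1, h2⟩ := row_spec h i
  have e : (mulP R P).getD i.val 0 = combR t (R.getD i.val []) := by
    simp [e0, List.getD_eq_getElem?_getD, hi]
  rw [e]
  refine (cast_sum_row t.get _ (fun x hx => natAbs_le_of_ok h2 hx) h1).trans ?_
  simp only [psi, Matrix.mul_apply, Int.cast_sum, Finset.sum_mul]
  rw [Finset.sum_comm (s := Finset.univ (α := Fin 52))]
  refine Finset.sum_congr rfl fun k _ => ?_
  rw [hg k.val (by omega), hP.2 k, psi, Finset.mul_sum]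
  refine Finset.sum_congr rfl fun j _ => ?_
  rw [Int.cast_mul, mul_assoc]
  rfl

theorem reps_smul (c : ℕ) {B : Matrix (Fin 52) (Fin 52) ℤ} {P : List ℕ} (hP : Reps B P) :
    Reps ((c : ℤ) • B) (smulP c P) := by
  refine ⟨by simp [smulP, hP.1], fun i => ?_⟩
  have hi : i.val < P.length := hP.1.symm ▸ i.isLt
  have e : (smulP c P).getD i.val 0 = c * P.getD i.val 0 % modP := by
    simp [smulP, List.getD_eq_getElem?_getD, hi]
  rw [e, ZMod.natCast_mod, Nat.cast_mul, hP.2 i]
  simp only [psi, Finset.mul_sum, Matrix.smul_apply, smul_eq_mul, Int.cast_mul, Int.cast_natCast]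
  exact Finset.sum_congr rfl fun j _ => by ring

/-- Opposite packed lists. -/
noncomputable def oppP : List ℕ → List ℕ → Bool
  | [], [] => true
  | a :: l, b :: m => Nat.beq ((a + b) % modP) 0 && oppP l m
  | _, _ => false

/-- Equal packed lists. -/
noncomputable def eqP : List ℕ → List ℕ → Bool
  | [], [] => true
  | a :: l, b :: m => Nat.beq (a % modP) (b % modP) && eqP l m
  | _, _ => false

theorem oppP_spec : ∀ {l m : List ℕ}, oppP l m = true → ∀ i,
    ((l.getD i 0 : ℕ) : ZMod modP) + (m.getD i 0 : ℕ) = 0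
  | [], [], _, i => by simp
  | a :: l, b :: m, h, i => by
    simp only [oppP, Bool.and_eq_true, Nat.beq_eq] at h
    cases i with
    | zero => simp only [List.getD_cons_zero]; rw [← Nat.cast_add, ← ZMod.natCast_mod, h.1, Nat.cast_zero]
    | succ j => simpa using oppP_spec h.2 j
  | [], b :: m, h, _ => by simp [oppP] at h
  | a :: l, [], h, _ => by simp [oppP] at h

theorem eqP_spec : ∀ {l m : List ℕ}, eqP l m = true → ∀ i,
    ((l.getD i 0 : ℕ) : ZMod modP) = (m.getD i 0 : ℕ)
  | [], [], _, i => rfl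
  | a :: l, b :: m, h, i => by
    simp only [eqP, Bool.and_eq_true, Nat.beq_eq] at h
    cases i with
    | zero => simp only [List.getD_cons_zero]; rw [← ZMod.natCast_mod, h.1, ZMod.natCast_mod]
    | succ j => simpa using eqP_spec h.2 j
  | [], b :: m, h, _ => by simp [eqP] at h
  | a :: l, [], h, _ => by simp [eqP] at h

theorem sum_bound : ∀ {n : ℕ} (d : Fin n → ℤ), (∀ j, |d j| < 2 ^ 40) →
    |∑ j, d j * 2 ^ (40 * j.val)| < 2 ^ (40 * n)
  | 0, d, _ => by simp
  | n + 1, d, h => by
    rw [Fin.sum_univ_succ]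
    have ih := sum_bound (fun j => d j.succ) fun j => h j.succ
    have e : ∑ j : Fin n, d j.succ * 2 ^ (40 * j.succ.val) =
        2 ^ 40 * ∑ j : Fin n, d j.succ * 2 ^ (40 * j.val) := by
      rw [Finset.mul_sum]
      exact Finset.sum_congr rfl fun j _ => by rw [Fin.val_succ, mul_add, pow_add]; ring
    rw [e, Fin.val_zero, mul_zero, pow_zero, mul_one, mul_add, mul_one, pow_add]
    have h0 := abs_lt.1 (h 0)
    have := abs_lt.1 ih
    rw [abs_lt]
    constructor <;> nlinarith

theorem sum_eq_zero_iff' : ∀ {n : ℕ} (d : Fin n → ℤ), (∀ j, |d j| < 2 ^ 40) →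
    ∑ j, d j * 2 ^ (40 * j.val) = 0 → ∀ j, d j = 0
  | 0, d, _, _ => fun j => j.elim0
  | n + 1, d, h, hs => by
    rw [Fin.sum_univ_succ] at hs
    have e : ∑ j : Fin n, d j.succ * 2 ^ (40 * j.succ.val) =
        2 ^ 40 * ∑ j : Fin n, d j.succ * 2 ^ (40 * j.val) := by
      rw [Finset.mul_sum]
      exact Finset.sum_congr rfl fun j _ => by rw [Fin.val_succ, mul_add, pow_add]; ring
    rw [e, Fin.val_zero, mul_zero, pow_zero, mul_one] at hs
    have h0 : d 0 = 0 := Int.eq_zero_of_abs_lt_dvd ⟨-(∑ j : Fin n, d j.succ * 2 ^ (40 * j.val)),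
      by linear_combination hs⟩ (h 0)
    rw [h0, zero_add] at hs
    have := sum_eq_zero_iff' (fun j => d j.succ) (fun j => h j.succ)
      ((mul_eq_zero.1 hs).resolve_left (by norm_num))
    exact Fin.cases h0 this

theorem psi_eq_zero {x : Fin 52 → ℤ} (hx : ∀ j, |x j| < 2 ^ 40) (h : psi x = 0) : x = 0 := by
  have h1 : ((∑ j : Fin 52, x j * 2 ^ (40 * j.val) : ℤ) : ZMod modP) = 0 := by
    rw [← h, psi]; push_cast; rfl
  rw [ZMod.intCast_zmod_eq_zero_iff_dvd] at h1
  refine funext (sum_eq_zero_iff' x hx (Int.eq_zero_of_abs_lt_dvd h1 ?_))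
  refine lt_of_lt_of_le (sum_bound x hx) ?_
  rw [modP, Nat.cast_pow, Nat.cast_ofNat]
  exact pow_le_pow_right₀ (by norm_num) (by unfold expP; norm_num)

/-- A bound on absolute row sums. -/
def RowLe (B : Matrix (Fin 52) (Fin 52) ℤ) (c : ℤ) : Prop := ∀ i, ∑ j, |B i j| ≤ c

theorem RowLe.mul {A B : Matrix (Fin 52) (Fin 52) ℤ} {a b : ℤ} (ha : RowLe A a) (hb : RowLe B b)
    (hb0 : 0 ≤ b) : RowLe (A * B) (a * b) := fun i => by
  calc ∑ j, |(A * B) i j| ≤ ∑ j, ∑ k, |A i k| * |B k j| := by
        refine Finset.sum_le_sum fun j _ => ?_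
        rw [Matrix.mul_apply]
        exact (Finset.abs_sum_le_sum_abs _ _).trans (le_of_eq (Finset.sum_congr rfl fun k _ => abs_mul _ _))
    _ = ∑ k, |A i k| * ∑ j, |B k j| := by
        rw [Finset.sum_comm]; simp only [Finset.mul_sum]
    _ ≤ ∑ k, |A i k| * b := Finset.sum_le_sum fun k _ => mul_le_mul_of_nonneg_left (hb k) (abs_nonneg _)
    _ ≤ a * b := by rw [← Finset.sum_mul]; exact mul_le_mul_of_nonneg_right (ha i) hb0

theorem RowLe.smul {B : Matrix (Fin 52) (Fin 52) ℤ} {b : ℤ} (hb : RowLe B b) (c : ℕ) :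
    RowLe ((c : ℤ) • B) (c * b) := fun i => by
  simp only [Matrix.smul_apply, smul_eq_mul, abs_mul, Nat.abs_cast, ← Finset.mul_sum]
  exact mul_le_mul_of_nonneg_left (hb i) (by positivity)

theorem RowLe.entry {B : Matrix (Fin 52) (Fin 52) ℤ} {b : ℤ} (hb : RowLe B b) (i j : Fin 52) :
    |B i j| ≤ b :=
  (Finset.single_le_sum (f := fun j => |B i j|) (fun _ _ => abs_nonneg _) (Finset.mem_univ j)).trans
    (hb i)

theorem rowLe_toM {R : List (List (ℕ × ℤ))} (h : okR R = true) : RowLe (toM R) 176 := fun i => by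
  obtain ⟨h1, h2⟩ := row_spec h i
  refine le_trans (b := ((((R.getD i.val []).map fun e => e.2.natAbs).sum : ℕ) : ℤ)) ?_
    (by exact_mod_cast h2)
  generalize hl : R.getD i.val [] = l at h1
  have e : ∀ j, toM R i j = (l.map fun e => if e.1 = j.val then e.2 else 0).sum := fun j => by
    rw [toM, Matrix.of_apply, hl]
  simp only [e]
  clear e hl h h2
  induction l with
  | nil => simp
  | cons e l ih =>
    simp only [List.map_cons, List.sum_cons, Nat.cast_add]
    refine (Finset.sum_le_sum fun j _ => abs_add_le _ _).trans ?_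
    rw [Finset.sum_add_distrib]
    refine add_le_add ?_ (ih fun x hx => h1 x (List.mem_cons_of_mem _ hx))
    rw [Finset.sum_eq_single_of_mem (⟨e.1, h1 e List.mem_cons_self⟩ : Fin 52) (Finset.mem_univ _)]
    · rw [if_pos rfl, Int.abs_eq_natAbs]
    · intro k _ hk
      rw [if_neg (fun h => hk (Fin.ext h.symm)), abs_zero]

theorem eq_of_eqP {A B : Matrix (Fin 52) (Fin 52) ℤ} {P Q : List ℕ} (hA : Reps A P) (hB : Reps B Q)
    {a b : ℤ} (ha : RowLe A a) (hb : RowLe B b) (hab : a + b < 2 ^ 40) (h : eqP P Q = true) :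
    A = B := by
  refine Matrix.ext fun i j => sub_eq_zero.1 (congrFun (psi_eq_zero
    (x := fun j => A i j - B i j) (fun j => ?_) ?_) j)
  · exact lt_of_le_of_lt ((abs_sub _ _).trans (add_le_add (ha.entry i j) (hb.entry i j))) hab
  · simp only [psi, Int.cast_sub, sub_mul, Finset.sum_sub_distrib]
    exact sub_eq_zero.2 ((hA.2 i).symm.trans ((eqP_spec h i.val).trans (hB.2 i)))

theorem eq_of_oppP {A B : Matrix (Fin 52) (Fin 52) ℤ} {P Q : List ℕ} (hA : Reps A P) (hB : Reps B Q)
    {a b : ℤ} (ha : RowLe A a) (hb : RowLe B b) (hab : a + b < 2 ^ 40) (h : oppP P Q = true) :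
    A = -B := by
  refine Matrix.ext fun i j => eq_neg_of_add_eq_zero_left (congrFun (psi_eq_zero
    (x := fun j => A i j + B i j) (fun j => ?_) ?_) j)
  · exact lt_of_le_of_lt ((abs_add_le _ _).trans (add_le_add (ha.entry i j) (hb.entry i j))) hab
  · simp only [psi, Int.cast_add, add_mul, Finset.sum_add_distrib]
    have := oppP_spec h i.val
    rw [hA.2 i, hB.2 i] at this
    exact this

/-- The sparse matrix of a root. -/
def matR (r : ℕ) : List (List (ℕ × ℤ)) := matTab.getD r []

/-- The identity. -/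
def oneR : List (List (ℕ × ℤ)) := (List.range 52).map fun i => [(i, 1)]

/-- A comparison for a pair, with the sign given by `cmp`. -/
noncomputable def relC (cmp : List ℕ → List ℕ → Bool) (a b : ℕ) : Bool :=
  let L := mulP (matR a) ((matR b).map packR)
  let R := mulP (matR b) ((matR a).map packR)
  match wR a b with
  | [] => cmp L R
  | [u] => cmp (smulP 16 L) (mulP (matR u) R)
  | [u, v] => cmp (smulP 256 L) (mulP (matR u) (mulP (matR v) R))
  | _ => false

/-- The relation of a pair up to sign. -/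
noncomputable def relB (a b : ℕ) : Bool := relC (fun P Q => eqP P Q || oppP P Q) a b

/-- The square of a root element. -/
noncomputable def sqB (r : ℕ) : Bool :=
  eqP (mulP (matR r) ((matR r).map packR)) (smulP 256 (oneR.map packR))

end Cfsg.Agent.F4TwoMult

namespace Cfsg.Agent.F4TwoMult

/-- The checks for a root alone. -/
noncomputable def headB (a : ℕ) : Bool := okR (matR a) && sqB a

/-- The relation of a pair, unless trivial. -/
noncomputable def pairC (a b : ℕ) : Bool :=
  Nat.beq b a || Nat.beq b (negTab.getD a 0) || relB a b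

/-- The relations of a root with eight others. -/
noncomputable def chunkB (a k : ℕ) : Bool := (List.range' (8 * k) 8).all (pairC a)

theorem chunk_of {a k : ℕ} (h0 : pairC a (8 * k) = true) (h1 : pairC a (8 * k + 1) = true)
    (h2 : pairC a (8 * k + 2) = true) (h3 : pairC a (8 * k + 3) = true)
    (h4 : pairC a (8 * k + 4) = true) (h5 : pairC a (8 * k + 5) = true)
    (h6 : pairC a (8 * k + 6) = true) (h7 : pairC a (8 * k + 7) = true) : chunkB a k = true := by
  simp [chunkB, List.range'_succ, h0, h1, h2, h3, h4, h5, h6, h7]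

/-- All checks for a root. -/
theorem rootSpec_of {a : ℕ} (h : headB a = true) (h0 : chunkB a 0 = true) (h1 : chunkB a 1 = true)
    (h2 : chunkB a 2 = true) (h3 : chunkB a 3 = true) (h4 : chunkB a 4 = true)
    (h5 : chunkB a 5 = true) :
    okR (matR a) = true ∧ sqB a = true ∧
      ∀ b < 48, (Nat.beq b a || Nat.beq b (negTab.getD a 0) || relB a b) = true := by
  rw [headB, Bool.and_eq_true] at h
  refine ⟨h.1, h.2, fun b hb => ?_⟩
  have key : ∀ k, chunkB a k = true → 8 * k ≤ b → b < 8 * k + 8 →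
      (Nat.beq b a || Nat.beq b (negTab.getD a 0) || relB a b) = true := fun k hk l u =>
    List.all_eq_true.1 hk b (List.mem_range'_1.2 ⟨l, u⟩)
  rcases show b < 8 ∨ (8 ≤ b ∧ b < 16) ∨ (16 ≤ b ∧ b < 24) ∨ (24 ≤ b ∧ b < 32) ∨
      (32 ≤ b ∧ b < 40) ∨ (40 ≤ b ∧ b < 48) by omega with h' | h' | h' | h' | h' | h'
  · exact key 0 h0 (by omega) (by omega)
  · exact key 1 h1 (by omega) (by omega)
  · exact key 2 h2 (by omega) (by omega)
  · exact key 3 h3 (by omega) (by omega)
  · exact key 4 h4 (by omega) (by omega)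
  · exact key 5 h5 (by omega) (by omega)

end Cfsg.Agent.F4TwoMult
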