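import Cfsg.Agent.F4TwoMult.Rep

/-!
The relations of the representation for the roots 0 to 5.
-/

set_option autoImplicit false
set_option maxRecDepth 100000
set_option Elab.async false

namespace Cfsg.Agent.F4TwoMult

theorem head_0 : headB 0 = true := by decide +kernel
theorem pair_0_0 : pairC 0 0 = true := by decide +kernel
theorem pair_0_1 : pairC 0 1 = true := by decide +kernel
theorem pair_0_2 : pairC 0 2 = true := by decide +kernel
theorem pair_0_3 : pairC 0 3 = true := by decide +kernel
theorem pair_0_4 : pairC 0 4 = true := by decide +kernel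
theorem pair_0_5 : pairC 0 5 = true := by decide +kernel
theorem pair_0_6 : pairC 0 6 = true := by decide +kernel
theorem pair_0_7 : pairC 0 7 = true := by decide +kernel
theorem pair_0_8 : pairC 0 8 = true := by decide +kernel
theorem pair_0_9 : pairC 0 9 = true := by decide +kernel
theorem pair_0_10 : pairC 0 10 = true := by decide +kernel
theorem pair_0_11 : pairC 0 11 = true := by decide +kernel
theorem pair_0_12 : pairC 0 12 = true := by decide +kernel
theorem pair_0_13 : pairC 0 13 = true := by decide +kernel
theorem pair_0_14 : pairC 0 14 = true := by decide +kernel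
theorem pair_0_15 : pairC 0 15 = true := by decide +kernel
theorem pair_0_16 : pairC 0 16 = true := by decide +kernel
theorem pair_0_17 : pairC 0 17 = true := by decide +kernel
theorem pair_0_18 : pairC 0 18 = true := by decide +kernel
theorem pair_0_19 : pairC 0 19 = true := by decide +kernel
theorem pair_0_20 : pairC 0 20 = true := by decide +kernel
theorem pair_0_21 : pairC 0 21 = true := by decide +kernel
theorem pair_0_22 : pairC 0 22 = true := by decide +kernel
theorem pair_0_23 : pairC 0 23 = true := by decide +kernel
theorem pair_0_24 : pairC 0 24 = true := by decide +kernel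
theorem pair_0_25 : pairC 0 25 = true := by decide +kernel
theorem pair_0_26 : pairC 0 26 = true := by decide +kernel
theorem pair_0_27 : pairC 0 27 = true := by decide +kernel
theorem pair_0_28 : pairC 0 28 = true := by decide +kernel
theorem pair_0_29 : pairC 0 29 = true := by decide +kernel
theorem pair_0_30 : pairC 0 30 = true := by decide +kernel
theorem pair_0_31 : pairC 0 31 = true := by decide +kernel
theorem pair_0_32 : pairC 0 32 = true := by decide +kernel
theorem pair_0_33 : pairC 0 33 = true := by decide +kernel
theorem pair_0_34 : pairC 0 34 = true := by decide +kernel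
theorem pair_0_35 : pairC 0 35 = true := by decide +kernel
theorem pair_0_36 : pairC 0 36 = true := by decide +kernel
theorem pair_0_37 : pairC 0 37 = true := by decide +kernel
theorem pair_0_38 : pairC 0 38 = true := by decide +kernel
theorem pair_0_39 : pairC 0 39 = true := by decide +kernel
theorem pair_0_40 : pairC 0 40 = true := by decide +kernel
theorem pair_0_41 : pairC 0 41 = true := by decide +kernel
theorem pair_0_42 : pairC 0 42 = true := by decide +kernel
theorem pair_0_43 : pairC 0 43 = true := by decide +kernel
theorem pair_0_44 : pairC 0 44 = true := by decide +kernel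
theorem pair_0_45 : pairC 0 45 = true := by decide +kernel
theorem pair_0_46 : pairC 0 46 = true := by decide +kernel
theorem pair_0_47 : pairC 0 47 = true := by decide +kernel
theorem chunk_0_0 : chunkB 0 0 = true :=
  chunk_of pair_0_0 pair_0_1 pair_0_2 pair_0_3 pair_0_4 pair_0_5 pair_0_6 pair_0_7
theorem chunk_0_1 : chunkB 0 1 = true :=
  chunk_of pair_0_8 pair_0_9 pair_0_10 pair_0_11 pair_0_12 pair_0_13 pair_0_14 pair_0_15
theorem chunk_0_2 : chunkB 0 2 = true :=
  chunk_of pair_0_16 pair_0_17 pair_0_18 pair_0_19 pair_0_20 pair_0_21 pair_0_22 pair_0_23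
theorem chunk_0_3 : chunkB 0 3 = true :=
  chunk_of pair_0_24 pair_0_25 pair_0_26 pair_0_27 pair_0_28 pair_0_29 pair_0_30 pair_0_31
theorem chunk_0_4 : chunkB 0 4 = true :=
  chunk_of pair_0_32 pair_0_33 pair_0_34 pair_0_35 pair_0_36 pair_0_37 pair_0_38 pair_0_39
theorem chunk_0_5 : chunkB 0 5 = true :=
  chunk_of pair_0_40 pair_0_41 pair_0_42 pair_0_43 pair_0_44 pair_0_45 pair_0_46 pair_0_47

theorem head_1 : headB 1 = true := by decide +kernel
theorem pair_1_0 : pairC 1 0 = true := by decide +kernel
theorem pair_1_1 : pairC 1 1 = true := by decide +kernel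
theorem pair_1_2 : pairC 1 2 = true := by decide +kernel
theorem pair_1_3 : pairC 1 3 = true := by decide +kernel
theorem pair_1_4 : pairC 1 4 = true := by decide +kernel
theorem pair_1_5 : pairC 1 5 = true := by decide +kernel
theorem pair_1_6 : pairC 1 6 = true := by decide +kernel
theorem pair_1_7 : pairC 1 7 = true := by decide +kernel
theorem pair_1_8 : pairC 1 8 = true := by decide +kernel
theorem pair_1_9 : pairC 1 9 = true := by decide +kernel
theorem pair_1_10 : pairC 1 10 = true := by decide +kernel
theorem pair_1_11 : pairC 1 11 = true := by decide +kernel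
theorem pair_1_12 : pairC 1 12 = true := by decide +kernel
theorem pair_1_13 : pairC 1 13 = true := by decide +kernel
theorem pair_1_14 : pairC 1 14 = true := by decide +kernel
theorem pair_1_15 : pairC 1 15 = true := by decide +kernel
theorem pair_1_16 : pairC 1 16 = true := by decide +kernel
theorem pair_1_17 : pairC 1 17 = true := by decide +kernel
theorem pair_1_18 : pairC 1 18 = true := by decide +kernel
theorem pair_1_19 : pairC 1 19 = true := by decide +kernel
theorem pair_1_20 : pairC 1 20 = true := by decide +kernel
theorem pair_1_21 : pairC 1 21 = true := by decide +kernel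
theorem pair_1_22 : pairC 1 22 = true := by decide +kernel
theorem pair_1_23 : pairC 1 23 = true := by decide +kernel
theorem pair_1_24 : pairC 1 24 = true := by decide +kernel
theorem pair_1_25 : pairC 1 25 = true := by decide +kernel
theorem pair_1_26 : pairC 1 26 = true := by decide +kernel
theorem pair_1_27 : pairC 1 27 = true := by decide +kernel
theorem pair_1_28 : pairC 1 28 = true := by decide +kernel
theorem pair_1_29 : pairC 1 29 = true := by decide +kernel
theorem pair_1_30 : pairC 1 30 = true := by decide +kernel
theorem pair_1_31 : pairC 1 31 = true := by decide +kernel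
theorem pair_1_32 : pairC 1 32 = true := by decide +kernel
theorem pair_1_33 : pairC 1 33 = true := by decide +kernel
theorem pair_1_34 : pairC 1 34 = true := by decide +kernel
theorem pair_1_35 : pairC 1 35 = true := by decide +kernel
theorem pair_1_36 : pairC 1 36 = true := by decide +kernel
theorem pair_1_37 : pairC 1 37 = true := by decide +kernel
theorem pair_1_38 : pairC 1 38 = true := by decide +kernel
theorem pair_1_39 : pairC 1 39 = true := by decide +kernel
theorem pair_1_40 : pairC 1 40 = true := by decide +kernel
theorem pair_1_41 : pairC 1 41 = true := by decide +kernel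
theorem pair_1_42 : pairC 1 42 = true := by decide +kernel
theorem pair_1_43 : pairC 1 43 = true := by decide +kernel
theorem pair_1_44 : pairC 1 44 = true := by decide +kernel
theorem pair_1_45 : pairC 1 45 = true := by decide +kernel
theorem pair_1_46 : pairC 1 46 = true := by decide +kernel
theorem pair_1_47 : pairC 1 47 = true := by decide +kernel
theorem chunk_1_0 : chunkB 1 0 = true :=
  chunk_of pair_1_0 pair_1_1 pair_1_2 pair_1_3 pair_1_4 pair_1_5 pair_1_6 pair_1_7
theorem chunk_1_1 : chunkB 1 1 = true :=
  chunk_of pair_1_8 pair_1_9 pair_1_10 pair_1_11 pair_1_12 pair_1_13 pair_1_14 pair_1_15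
theorem chunk_1_2 : chunkB 1 2 = true :=
  chunk_of pair_1_16 pair_1_17 pair_1_18 pair_1_19 pair_1_20 pair_1_21 pair_1_22 pair_1_23
theorem chunk_1_3 : chunkB 1 3 = true :=
  chunk_of pair_1_24 pair_1_25 pair_1_26 pair_1_27 pair_1_28 pair_1_29 pair_1_30 pair_1_31
theorem chunk_1_4 : chunkB 1 4 = true :=
  chunk_of pair_1_32 pair_1_33 pair_1_34 pair_1_35 pair_1_36 pair_1_37 pair_1_38 pair_1_39
theorem chunk_1_5 : chunkB 1 5 = true :=
  chunk_of pair_1_40 pair_1_41 pair_1_42 pair_1_43 pair_1_44 pair_1_45 pair_1_46 pair_1_47

theorem head_2 : headB 2 = true := by decide +kernel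
theorem pair_2_0 : pairC 2 0 = true := by decide +kernel
theorem pair_2_1 : pairC 2 1 = true := by decide +kernel
theorem pair_2_2 : pairC 2 2 = true := by decide +kernel
theorem pair_2_3 : pairC 2 3 = true := by decide +kernel
theorem pair_2_4 : pairC 2 4 = true := by decide +kernel
theorem pair_2_5 : pairC 2 5 = true := by decide +kernel
theorem pair_2_6 : pairC 2 6 = true := by decide +kernel
theorem pair_2_7 : pairC 2 7 = true := by decide +kernel
theorem pair_2_8 : pairC 2 8 = true := by decide +kernel
theorem pair_2_9 : pairC 2 9 = true := by decide +kernel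
theorem pair_2_10 : pairC 2 10 = true := by decide +kernel
theorem pair_2_11 : pairC 2 11 = true := by decide +kernel
theorem pair_2_12 : pairC 2 12 = true := by decide +kernel
theorem pair_2_13 : pairC 2 13 = true := by decide +kernel
theorem pair_2_14 : pairC 2 14 = true := by decide +kernel
theorem pair_2_15 : pairC 2 15 = true := by decide +kernel
theorem pair_2_16 : pairC 2 16 = true := by decide +kernel
theorem pair_2_17 : pairC 2 17 = true := by decide +kernel
theorem pair_2_18 : pairC 2 18 = true := by decide +kernel
theorem pair_2_19 : pairC 2 19 = true := by decide +kernel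
theorem pair_2_20 : pairC 2 20 = true := by decide +kernel
theorem pair_2_21 : pairC 2 21 = true := by decide +kernel
theorem pair_2_22 : pairC 2 22 = true := by decide +kernel
theorem pair_2_23 : pairC 2 23 = true := by decide +kernel
theorem pair_2_24 : pairC 2 24 = true := by decide +kernel
theorem pair_2_25 : pairC 2 25 = true := by decide +kernel
theorem pair_2_26 : pairC 2 26 = true := by decide +kernel
theorem pair_2_27 : pairC 2 27 = true := by decide +kernel
theorem pair_2_28 : pairC 2 28 = true := by decide +kernel
theorem pair_2_29 : pairC 2 29 = true := by decide +kernel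
theorem pair_2_30 : pairC 2 30 = true := by decide +kernel
theorem pair_2_31 : pairC 2 31 = true := by decide +kernel
theorem pair_2_32 : pairC 2 32 = true := by decide +kernel
theorem pair_2_33 : pairC 2 33 = true := by decide +kernel
theorem pair_2_34 : pairC 2 34 = true := by decide +kernel
theorem pair_2_35 : pairC 2 35 = true := by decide +kernel
theorem pair_2_36 : pairC 2 36 = true := by decide +kernel
theorem pair_2_37 : pairC 2 37 = true := by decide +kernel
theorem pair_2_38 : pairC 2 38 = true := by decide +kernel
theorem pair_2_39 : pairC 2 39 = true := by decide +kernel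
theorem pair_2_40 : pairC 2 40 = true := by decide +kernel
theorem pair_2_41 : pairC 2 41 = true := by decide +kernel
theorem pair_2_42 : pairC 2 42 = true := by decide +kernel
theorem pair_2_43 : pairC 2 43 = true := by decide +kernel
theorem pair_2_44 : pairC 2 44 = true := by decide +kernel
theorem pair_2_45 : pairC 2 45 = true := by decide +kernel
theorem pair_2_46 : pairC 2 46 = true := by decide +kernel
theorem pair_2_47 : pairC 2 47 = true := by decide +kernel
theorem chunk_2_0 : chunkB 2 0 = true :=
  chunk_of pair_2_0 pair_2_1 pair_2_2 pair_2_3 pair_2_4 pair_2_5 pair_2_6 pair_2_7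
theorem chunk_2_1 : chunkB 2 1 = true :=
  chunk_of pair_2_8 pair_2_9 pair_2_10 pair_2_11 pair_2_12 pair_2_13 pair_2_14 pair_2_15
theorem chunk_2_2 : chunkB 2 2 = true :=
  chunk_of pair_2_16 pair_2_17 pair_2_18 pair_2_19 pair_2_20 pair_2_21 pair_2_22 pair_2_23
theorem chunk_2_3 : chunkB 2 3 = true :=
  chunk_of pair_2_24 pair_2_25 pair_2_26 pair_2_27 pair_2_28 pair_2_29 pair_2_30 pair_2_31
theorem chunk_2_4 : chunkB 2 4 = true :=
  chunk_of pair_2_32 pair_2_33 pair_2_34 pair_2_35 pair_2_36 pair_2_37 pair_2_38 pair_2_39
theorem chunk_2_5 : chunkB 2 5 = true :=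
  chunk_of pair_2_40 pair_2_41 pair_2_42 pair_2_43 pair_2_44 pair_2_45 pair_2_46 pair_2_47

theorem head_3 : headB 3 = true := by decide +kernel
theorem pair_3_0 : pairC 3 0 = true := by decide +kernel
theorem pair_3_1 : pairC 3 1 = true := by decide +kernel
theorem pair_3_2 : pairC 3 2 = true := by decide +kernel
theorem pair_3_3 : pairC 3 3 = true := by decide +kernel
theorem pair_3_4 : pairC 3 4 = true := by decide +kernel
theorem pair_3_5 : pairC 3 5 = true := by decide +kernel
theorem pair_3_6 : pairC 3 6 = true := by decide +kernel
theorem pair_3_7 : pairC 3 7 = true := by decide +kernel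
theorem pair_3_8 : pairC 3 8 = true := by decide +kernel
theorem pair_3_9 : pairC 3 9 = true := by decide +kernel
theorem pair_3_10 : pairC 3 10 = true := by decide +kernel
theorem pair_3_11 : pairC 3 11 = true := by decide +kernel
theorem pair_3_12 : pairC 3 12 = true := by decide +kernel
theorem pair_3_13 : pairC 3 13 = true := by decide +kernel
theorem pair_3_14 : pairC 3 14 = true := by decide +kernel
theorem pair_3_15 : pairC 3 15 = true := by decide +kernel
theorem pair_3_16 : pairC 3 16 = true := by decide +kernel
theorem pair_3_17 : pairC 3 17 = true := by decide +kernel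
theorem pair_3_18 : pairC 3 18 = true := by decide +kernel
theorem pair_3_19 : pairC 3 19 = true := by decide +kernel
theorem pair_3_20 : pairC 3 20 = true := by decide +kernel
theorem pair_3_21 : pairC 3 21 = true := by decide +kernel
theorem pair_3_22 : pairC 3 22 = true := by decide +kernel
theorem pair_3_23 : pairC 3 23 = true := by decide +kernel
theorem pair_3_24 : pairC 3 24 = true := by decide +kernel
theorem pair_3_25 : pairC 3 25 = true := by decide +kernel
theorem pair_3_26 : pairC 3 26 = true := by decide +kernel
theorem pair_3_27 : pairC 3 27 = true := by decide +kernel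
theorem pair_3_28 : pairC 3 28 = true := by decide +kernel
theorem pair_3_29 : pairC 3 29 = true := by decide +kernel
theorem pair_3_30 : pairC 3 30 = true := by decide +kernel
theorem pair_3_31 : pairC 3 31 = true := by decide +kernel
theorem pair_3_32 : pairC 3 32 = true := by decide +kernel
theorem pair_3_33 : pairC 3 33 = true := by decide +kernel
theorem pair_3_34 : pairC 3 34 = true := by decide +kernel
theorem pair_3_35 : pairC 3 35 = true := by decide +kernel
theorem pair_3_36 : pairC 3 36 = true := by decide +kernel
theorem pair_3_37 : pairC 3 37 = true := by decide +kernel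
theorem pair_3_38 : pairC 3 38 = true := by decide +kernel
theorem pair_3_39 : pairC 3 39 = true := by decide +kernel
theorem pair_3_40 : pairC 3 40 = true := by decide +kernel
theorem pair_3_41 : pairC 3 41 = true := by decide +kernel
theorem pair_3_42 : pairC 3 42 = true := by decide +kernel
theorem pair_3_43 : pairC 3 43 = true := by decide +kernel
theorem pair_3_44 : pairC 3 44 = true := by decide +kernel
theorem pair_3_45 : pairC 3 45 = true := by decide +kernel
theorem pair_3_46 : pairC 3 46 = true := by decide +kernel
theorem pair_3_47 : pairC 3 47 = true := by decide +kernel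
theorem chunk_3_0 : chunkB 3 0 = true :=
  chunk_of pair_3_0 pair_3_1 pair_3_2 pair_3_3 pair_3_4 pair_3_5 pair_3_6 pair_3_7
theorem chunk_3_1 : chunkB 3 1 = true :=
  chunk_of pair_3_8 pair_3_9 pair_3_10 pair_3_11 pair_3_12 pair_3_13 pair_3_14 pair_3_15
theorem chunk_3_2 : chunkB 3 2 = true :=
  chunk_of pair_3_16 pair_3_17 pair_3_18 pair_3_19 pair_3_20 pair_3_21 pair_3_22 pair_3_23
theorem chunk_3_3 : chunkB 3 3 = true :=
  chunk_of pair_3_24 pair_3_25 pair_3_26 pair_3_27 pair_3_28 pair_3_29 pair_3_30 pair_3_31
theorem chunk_3_4 : chunkB 3 4 = true :=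
  chunk_of pair_3_32 pair_3_33 pair_3_34 pair_3_35 pair_3_36 pair_3_37 pair_3_38 pair_3_39
theorem chunk_3_5 : chunkB 3 5 = true :=
  chunk_of pair_3_40 pair_3_41 pair_3_42 pair_3_43 pair_3_44 pair_3_45 pair_3_46 pair_3_47

theorem head_4 : headB 4 = true := by decide +kernel
theorem pair_4_0 : pairC 4 0 = true := by decide +kernel
theorem pair_4_1 : pairC 4 1 = true := by decide +kernel
theorem pair_4_2 : pairC 4 2 = true := by decide +kernel
theorem pair_4_3 : pairC 4 3 = true := by decide +kernel
theorem pair_4_4 : pairC 4 4 = true := by decide +kernel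
theorem pair_4_5 : pairC 4 5 = true := by decide +kernel
theorem pair_4_6 : pairC 4 6 = true := by decide +kernel
theorem pair_4_7 : pairC 4 7 = true := by decide +kernel
theorem pair_4_8 : pairC 4 8 = true := by decide +kernel
theorem pair_4_9 : pairC 4 9 = true := by decide +kernel
theorem pair_4_10 : pairC 4 10 = true := by decide +kernel
theorem pair_4_11 : pairC 4 11 = true := by decide +kernel
theorem pair_4_12 : pairC 4 12 = true := by decide +kernel
theorem pair_4_13 : pairC 4 13 = true := by decide +kernel
theorem pair_4_14 : pairC 4 14 = true := by decide +kernel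
theorem pair_4_15 : pairC 4 15 = true := by decide +kernel
theorem pair_4_16 : pairC 4 16 = true := by decide +kernel
theorem pair_4_17 : pairC 4 17 = true := by decide +kernel
theorem pair_4_18 : pairC 4 18 = true := by decide +kernel
theorem pair_4_19 : pairC 4 19 = true := by decide +kernel
theorem pair_4_20 : pairC 4 20 = true := by decide +kernel
theorem pair_4_21 : pairC 4 21 = true := by decide +kernel
theorem pair_4_22 : pairC 4 22 = true := by decide +kernel
theorem pair_4_23 : pairC 4 23 = true := by decide +kernel
theorem pair_4_24 : pairC 4 24 = true := by decide +kernel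
theorem pair_4_25 : pairC 4 25 = true := by decide +kernel
theorem pair_4_26 : pairC 4 26 = true := by decide +kernel
theorem pair_4_27 : pairC 4 27 = true := by decide +kernel
theorem pair_4_28 : pairC 4 28 = true := by decide +kernel
theorem pair_4_29 : pairC 4 29 = true := by decide +kernel
theorem pair_4_30 : pairC 4 30 = true := by decide +kernel
theorem pair_4_31 : pairC 4 31 = true := by decide +kernel
theorem pair_4_32 : pairC 4 32 = true := by decide +kernel
theorem pair_4_33 : pairC 4 33 = true := by decide +kernel
theorem pair_4_34 : pairC 4 34 = true := by decide +kernel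
theorem pair_4_35 : pairC 4 35 = true := by decide +kernel
theorem pair_4_36 : pairC 4 36 = true := by decide +kernel
theorem pair_4_37 : pairC 4 37 = true := by decide +kernel
theorem pair_4_38 : pairC 4 38 = true := by decide +kernel
theorem pair_4_39 : pairC 4 39 = true := by decide +kernel
theorem pair_4_40 : pairC 4 40 = true := by decide +kernel
theorem pair_4_41 : pairC 4 41 = true := by decide +kernel
theorem pair_4_42 : pairC 4 42 = true := by decide +kernel
theorem pair_4_43 : pairC 4 43 = true := by decide +kernel
theorem pair_4_44 : pairC 4 44 = true := by decide +kernel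
theorem pair_4_45 : pairC 4 45 = true := by decide +kernel
theorem pair_4_46 : pairC 4 46 = true := by decide +kernel
theorem pair_4_47 : pairC 4 47 = true := by decide +kernel
theorem chunk_4_0 : chunkB 4 0 = true :=
  chunk_of pair_4_0 pair_4_1 pair_4_2 pair_4_3 pair_4_4 pair_4_5 pair_4_6 pair_4_7
theorem chunk_4_1 : chunkB 4 1 = true :=
  chunk_of pair_4_8 pair_4_9 pair_4_10 pair_4_11 pair_4_12 pair_4_13 pair_4_14 pair_4_15
theorem chunk_4_2 : chunkB 4 2 = true :=
  chunk_of pair_4_16 pair_4_17 pair_4_18 pair_4_19 pair_4_20 pair_4_21 pair_4_22 pair_4_23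
theorem chunk_4_3 : chunkB 4 3 = true :=
  chunk_of pair_4_24 pair_4_25 pair_4_26 pair_4_27 pair_4_28 pair_4_29 pair_4_30 pair_4_31
theorem chunk_4_4 : chunkB 4 4 = true :=
  chunk_of pair_4_32 pair_4_33 pair_4_34 pair_4_35 pair_4_36 pair_4_37 pair_4_38 pair_4_39
theorem chunk_4_5 : chunkB 4 5 = true :=
  chunk_of pair_4_40 pair_4_41 pair_4_42 pair_4_43 pair_4_44 pair_4_45 pair_4_46 pair_4_47

theorem head_5 : headB 5 = true := by decide +kernel
theorem pair_5_0 : pairC 5 0 = true := by decide +kernel
theorem pair_5_1 : pairC 5 1 = true := by decide +kernel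
theorem pair_5_2 : pairC 5 2 = true := by decide +kernel
theorem pair_5_3 : pairC 5 3 = true := by decide +kernel
theorem pair_5_4 : pairC 5 4 = true := by decide +kernel
theorem pair_5_5 : pairC 5 5 = true := by decide +kernel
theorem pair_5_6 : pairC 5 6 = true := by decide +kernel
theorem pair_5_7 : pairC 5 7 = true := by decide +kernel
theorem pair_5_8 : pairC 5 8 = true := by decide +kernel
theorem pair_5_9 : pairC 5 9 = true := by decide +kernel
theorem pair_5_10 : pairC 5 10 = true := by decide +kernel
theorem pair_5_11 : pairC 5 11 = true := by decide +kernel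
theorem pair_5_12 : pairC 5 12 = true := by decide +kernel
theorem pair_5_13 : pairC 5 13 = true := by decide +kernel
theorem pair_5_14 : pairC 5 14 = true := by decide +kernel
theorem pair_5_15 : pairC 5 15 = true := by decide +kernel
theorem pair_5_16 : pairC 5 16 = true := by decide +kernel
theorem pair_5_17 : pairC 5 17 = true := by decide +kernel
theorem pair_5_18 : pairC 5 18 = true := by decide +kernel
theorem pair_5_19 : pairC 5 19 = true := by decide +kernel
theorem pair_5_20 : pairC 5 20 = true := by decide +kernel
theorem pair_5_21 : pairC 5 21 = true := by decide +kernel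
theorem pair_5_22 : pairC 5 22 = true := by decide +kernel
theorem pair_5_23 : pairC 5 23 = true := by decide +kernel
theorem pair_5_24 : pairC 5 24 = true := by decide +kernel
theorem pair_5_25 : pairC 5 25 = true := by decide +kernel
theorem pair_5_26 : pairC 5 26 = true := by decide +kernel
theorem pair_5_27 : pairC 5 27 = true := by decide +kernel
theorem pair_5_28 : pairC 5 28 = true := by decide +kernel
theorem pair_5_29 : pairC 5 29 = true := by decide +kernel
theorem pair_5_30 : pairC 5 30 = true := by decide +kernel
theorem pair_5_31 : pairC 5 31 = true := by decide +kernel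
theorem pair_5_32 : pairC 5 32 = true := by decide +kernel
theorem pair_5_33 : pairC 5 33 = true := by decide +kernel
theorem pair_5_34 : pairC 5 34 = true := by decide +kernel
theorem pair_5_35 : pairC 5 35 = true := by decide +kernel
theorem pair_5_36 : pairC 5 36 = true := by decide +kernel
theorem pair_5_37 : pairC 5 37 = true := by decide +kernel
theorem pair_5_38 : pairC 5 38 = true := by decide +kernel
theorem pair_5_39 : pairC 5 39 = true := by decide +kernel
theorem pair_5_40 : pairC 5 40 = true := by decide +kernel
theorem pair_5_41 : pairC 5 41 = true := by decide +kernel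
theorem pair_5_42 : pairC 5 42 = true := by decide +kernel
theorem pair_5_43 : pairC 5 43 = true := by decide +kernel
theorem pair_5_44 : pairC 5 44 = true := by decide +kernel
theorem pair_5_45 : pairC 5 45 = true := by decide +kernel
theorem pair_5_46 : pairC 5 46 = true := by decide +kernel
theorem pair_5_47 : pairC 5 47 = true := by decide +kernel
theorem chunk_5_0 : chunkB 5 0 = true :=
  chunk_of pair_5_0 pair_5_1 pair_5_2 pair_5_3 pair_5_4 pair_5_5 pair_5_6 pair_5_7
theorem chunk_5_1 : chunkB 5 1 = true :=
  chunk_of pair_5_8 pair_5_9 pair_5_10 pair_5_11 pair_5_12 pair_5_13 pair_5_14 pair_5_15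
theorem chunk_5_2 : chunkB 5 2 = true :=
  chunk_of pair_5_16 pair_5_17 pair_5_18 pair_5_19 pair_5_20 pair_5_21 pair_5_22 pair_5_23
theorem chunk_5_3 : chunkB 5 3 = true :=
  chunk_of pair_5_24 pair_5_25 pair_5_26 pair_5_27 pair_5_28 pair_5_29 pair_5_30 pair_5_31
theorem chunk_5_4 : chunkB 5 4 = true :=
  chunk_of pair_5_32 pair_5_33 pair_5_34 pair_5_35 pair_5_36 pair_5_37 pair_5_38 pair_5_39
theorem chunk_5_5 : chunkB 5 5 = true :=
  chunk_of pair_5_40 pair_5_41 pair_5_42 pair_5_43 pair_5_44 pair_5_45 pair_5_46 pair_5_47

end Cfsg.Agent.F4TwoMult
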