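import Cfsg.Agent.F4TwoMult.Base
import Cfsg.Agent.F4TwoMult.UpperData

/-!
In a central extension of F4(2) lifts of the root elements satisfy the relations up to one central
involution.
-/

set_option autoImplicit false

namespace Cfsg.Agent.F4TwoMult

open Cfsg.Lie Cfsg.Agent.Chev Cfsg.Agent.ChevExt
open scoped MatrixGroups commutatorElement

/-- Equal roots or commuting root elements. -/
def cB (a b : ℕ) : Bool := Nat.beq a b || (pairB a b && decide (wR a b = []))

/-- The code of a witness. -/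
def comCode (a b : ℕ) : ℕ := (comTab.getD a []).getD b 0

/-- The code of a move. -/
def movCode (a b : ℕ) : ℕ := (movTab.getD a []).getD b 0

/-- The distance of a move. -/
def rank (a b : ℕ) : ℕ := if (wR a b).length = 1 then movCode a b / 4 % 16 else movCode a b / 4 % 64

/-- A witness for commuting lifts. -/
def comB (a b : ℕ) : Bool :=
  let m := comCode a b / 4
  let v := m % 64
  let w := m / 64 % 64
  let u := m / 4096
  Nat.blt v 48 && Nat.blt w 48 && pairB v w && cB a v && cB a w &&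
    ((Nat.beq (comCode a b % 4) 1 && decide (wR v w = [b])) ||
      (Nat.beq (comCode a b % 4) 2 && Nat.blt u 48 &&
        (decide (wR v w = [b, u]) || decide (wR v w = [u, b])) &&
        (Nat.beq u a || (pairB a u && decide (wR a u = []) && Nat.beq (comCode a u % 4) 1))))

/-- A move for a decomposition. -/
def decB (a b t : ℕ) : Bool :=
  let m := movCode a b / 4
  let k := m / 16 % 4
  let e := m / 64 % 64
  let d := m / 4096 % 64
  let c := m / 262144
  cB b t &&
  ((Nat.beq k 0 && decide (decTab.getD t (0, 0) = (a, b))) ||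
    (Nat.beq k 1 && pairB b a && decide (wR b a = [t]) && Nat.blt (rank b a) (rank a b)) ||
    (Nat.beq k 2 && Nat.blt e 48 && Nat.blt d 48 && Nat.blt c 48 &&
      pairB a e && decide (wR a e = [c]) && pairB e d && decide (wR e d = [b]) && cB a d &&
      cB c b && pairB d c && decide (wR d c = [t]) && Nat.blt (rank d c) (rank a b)))

/-- The base pair or a move for a pair of the second kind. -/
def twoB (a b u v : ℕ) : Bool :=
  let m := movCode a b / 4
  let i := m / 64 % 8
  let p := m / 512 % 64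
  let q := m / 32768
  cB u v && ((decide ((a, b) = base) && cB b u && cB b v) ||
    (Nat.blt p 48 && Nat.blt q 48 && pairB p q && Nat.blt (rank p q) (rank a b) &&
      match wR p q with
      | [s, w] => Nat.blt s 48 && Nat.blt w 48 &&
        ((Nat.beq i 0 && Nat.beq p b && Nat.beq q a &&
            (decide ([s, w] = [u, v]) || decide ([w, s] = [u, v]))) ||
          (Nat.blt 0 i && Nat.blt i 5 && Nat.beq (chevF4.reflectRoot (i - 1) p) a &&
            Nat.beq (chevF4.reflectRoot (i - 1) q) b &&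
            (decide ([chevF4.reflectRoot (i - 1) s, chevF4.reflectRoot (i - 1) w] = [u, v]) ||
              decide ([chevF4.reflectRoot (i - 1) w, chevF4.reflectRoot (i - 1) s] = [u, v]))))
      | _ => false))

/-- All pairs at a root. -/
def upB (a : ℕ) : Bool :=
  (List.range 48).all fun b => !(pairB a b) ||
    match wR a b with
    | [] => comB a b
    | [t] => decB a b t
    | [u, v] => twoB a b u v
    | _ => false

/-- The chosen decompositions and their reflections. -/
def reflB : Bool :=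
  (List.range 48).all fun t =>
    let p := (decTab.getD t (0, 0)).1
    let q := (decTab.getD t (0, 0)).2
    Nat.blt p 48 && Nat.blt q 48 && pairB p q && decide (wR p q = [t]) &&
      (List.range 4).all fun i => pairB (chevF4.reflectRoot i p) (chevF4.reflectRoot i q) &&
        decide (wR (chevF4.reflectRoot i p) (chevF4.reflectRoot i q) = [chevF4.reflectRoot i t])

/-- The base pair. -/
def baseB : Bool :=
  Nat.blt base.1 48 && Nat.blt base.2 48 && pairB base.1 base.2 &&
    decide ((wR base.1 base.2).length = 2)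

set_option Elab.async false in
set_option maxRecDepth 100000 in
theorem up_ok : (List.range 48).all upB = true ∧ reflB = true ∧ baseB = true := by
  refine ⟨?_, ?_, ?_⟩ <;> decide +kernel

universe u v

variable {F : Type u} [Field F] [Fintype F] {Γ : Type v} [Group Γ]
  (A : CExt facts_chevF4.{u} F Γ) (hF : Fintype.card F = 2)

/-- The chosen lift. -/
noncomputable def y (r : ℕ) : Γ := A.lift r (1 : F)

theorem θ_y (r : ℕ) : A.θ (y A r) = xG facts_chevF4.{u} r 1 := A.θ_lift r 1

theorem θ_inv {g : Γ} {r : ℕ} (hF : Fintype.card F = 2) (h : A.θ g = xG facts_chevF4.{u} r 1) :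
    A.θ g⁻¹ = xG facts_chevF4.{u} r 1 := by
  rw [map_inv, h]; exact inv_eq_of_mul_eq_one_left (xG_sq hF r)

include hF in
theorem θ_br {a b : ℕ} (ha : a < 48) (hb : b < 48) (hp : pairB a b = true) :
    A.θ ⁅y A a, y A b⁆ = ((wR a b).map fun k => xG facts_chevF4.{u} k (1 : F)).prod := by
  rw [map_commutatorElement, θ_y, θ_y, commutatorElement_def,
    inv_eq_of_mul_eq_one_left (xG_sq hF a), inv_eq_of_mul_eq_one_left (xG_sq hF b),
    xG_br hF ha hb hp]

include hF in
theorem img_comm {a b : ℕ} (ha : a < 48) (hb : b < 48) (h : cB a b = true) :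
    Commute (A.θ (y A a)) (A.θ (y A b)) := by
  simp only [cB, Bool.or_eq_true, Bool.and_eq_true, decide_eq_true_eq, Nat.beq_eq] at h
  rcases h with rfl | ⟨hp, he⟩
  · exact Commute.refl _
  · rw [← commutatorElement_eq_one_iff_commute, ← map_commutatorElement, θ_br A hF ha hb hp, he]
    rfl

theorem comm_of_map {a b : ℕ} (h : Commute (y A a) (y A b)) {x z : Γ}
    (hx : A.θ x = xG facts_chevF4.{u} a 1) (hz : A.θ z = xG facts_chevF4.{u} b 1) :
    Commute x z := by
  rw [← commutatorElement_eq_one_iff_commute,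
    A.br_indep (a' := y A a) (b' := y A b) (by rw [hx, θ_y]) (by rw [hz, θ_y]),
    commutatorElement_eq_one_iff_commute]
  exact h

theorem up_pair {a b : ℕ} (ha : a < 48) (hb : b < 48) (hp : pairB a b = true) :
    (match wR a b with
      | [] => comB a b
      | [t] => decB a b t
      | [u, v] => twoB a b u v
      | _ => false) = true := by
  have h := List.all_eq_true.1 (List.all_eq_true.1 up_ok.1 a (List.mem_range.2 ha)) b
    (List.mem_range.2 hb)
  simpa [hp] using h

include hF in
theorem commute_one {a b : ℕ} (ha : a < 48) (hb : b < 48) (hp : pairB a b = true)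
    (he : wR a b = []) (hk : comCode a b % 4 = 1) : Commute (y A a) (y A b) := by
  have h := up_pair ha hb hp
  rw [he] at h
  simp only [comB, Bool.and_eq_true, Bool.or_eq_true, decide_eq_true_eq, Nat.blt_eq,
    Nat.beq_eq, hk] at h
  obtain ⟨⟨⟨⟨⟨hv, hw⟩, hvw⟩, hcv⟩, hcw⟩, ⟨-, hb'⟩ | ⟨⟨⟨h2, -⟩, -⟩, -⟩⟩ := h
  · refine A.commute_of_bracket (img_comm A hF ha hv hcv) (img_comm A hF ha hw hcw) ?_
    rw [← map_commutatorElement, θ_br A hF hv hw hvw, hb', θ_y]
    simp
  · omega

include hF in
/-- Commuting root elements have commuting lifts. -/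
theorem commute_y {a b : ℕ} (ha : a < 48) (hb : b < 48) (h : cB a b = true) :
    Commute (y A a) (y A b) := by
  have h' := h
  simp only [cB, Bool.or_eq_true, Bool.and_eq_true, decide_eq_true_eq, Nat.beq_eq] at h'
  rcases h' with rfl | ⟨hp, he⟩
  · exact Commute.refl _
  have h := up_pair ha hb hp
  rw [he] at h
  simp only [comB, Bool.and_eq_true, Bool.or_eq_true, decide_eq_true_eq, Nat.blt_eq,
    Nat.beq_eq] at h
  obtain ⟨⟨⟨⟨⟨hv, hw⟩, hvw⟩, hcv⟩, hcw⟩, ⟨h1, -⟩ | ⟨⟨⟨-, hu⟩, hword⟩, hau⟩⟩ := h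
  · exact commute_one A hF ha hb hp he h1
  generalize comCode a b / 4 % 64 = v at *
  generalize comCode a b / 4 / 64 % 64 = w at *
  generalize comCode a b / 4 / 4096 = u at *
  have hcu : Commute (y A a) (y A u) := by
    rcases hau with rfl | ⟨⟨hpu, heu⟩, hku⟩
    · exact Commute.refl _
    · exact commute_one A hF ha hu hpu heu hku
  have hv' := img_comm A hF ha hv hcv
  have hw' := img_comm A hF ha hw hcw
  have hbr := θ_br A hF hv hw hvw
  rw [map_commutatorElement] at hbr
  rcases hword with e | e <;> rw [e] at hbr <;>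
    simp only [List.map_cons, List.map_nil, List.prod_cons, List.prod_nil, mul_one] at hbr
  · have := (A.commute_of_bracket (x := y A a) (y := y A b * y A u) hv' hw'
      (by rw [map_mul, θ_y, θ_y, hbr])).mul_right hcu.inv_right
    rwa [mul_inv_cancel_right] at this
  · have := hcu.inv_right.mul_right (A.commute_of_bracket (x := y A a) (y := y A u * y A b) hv' hw'
      (by rw [map_mul, θ_y, θ_y, hbr]))
    rwa [inv_mul_cancel_left] at this

/-- The canonical lift. -/
noncomputable def X (t : ℕ) : Γ := ⁅y A (decTab.getD t (0, 0)).1, y A (decTab.getD t (0, 0)).2⁆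

theorem dec_spec {t : ℕ} (ht : t < 48) : (decTab.getD t (0, 0)).1 < 48 ∧
    (decTab.getD t (0, 0)).2 < 48 ∧
    pairB (decTab.getD t (0, 0)).1 (decTab.getD t (0, 0)).2 = true ∧
    wR (decTab.getD t (0, 0)).1 (decTab.getD t (0, 0)).2 = [t] ∧ ∀ i < 4,
      pairB (chevF4.reflectRoot i (decTab.getD t (0, 0)).1)
          (chevF4.reflectRoot i (decTab.getD t (0, 0)).2) = true ∧
        wR (chevF4.reflectRoot i (decTab.getD t (0, 0)).1)
          (chevF4.reflectRoot i (decTab.getD t (0, 0)).2) = [chevF4.reflectRoot i t] := by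
  have h := List.all_eq_true.1 up_ok.2.1 t (List.mem_range.2 ht)
  simp only [Bool.and_eq_true, decide_eq_true_eq, Nat.blt_eq, List.all_eq_true,
    List.mem_range] at h
  exact ⟨h.1.1.1.1, h.1.1.1.2, h.1.1.2, h.1.2, h.2⟩

include hF in
theorem θ_X {t : ℕ} (ht : t < 48) : A.θ (X A t) = xG facts_chevF4.{u} t 1 := by
  obtain ⟨h1, h2, h3, h4, -⟩ := dec_spec ht
  rw [X, θ_br A hF h1 h2 h3, h4]
  simp

include hF in
/-- The commutator attached to a root is an involution. -/
theorem br_sq {a b t : ℕ} (ha : a < 48) (hb : b < 48) (hp : pairB a b = true)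
    (he : wR a b = [t]) (hc : cB b t = true) : ⁅y A a, y A b⁆ * ⁅y A a, y A b⁆ = 1 := by
  have ht : t < 48 := (tab_spec ha hb).2.2.1 t (by rw [he]; exact List.mem_cons_self)
  have h1 : Commute (y A b) ⁅y A a, y A b⁆ :=
    comm_of_map A (commute_y A hF hb ht hc) (θ_y A b) (by
      rw [θ_br A hF ha hb hp, he]; simp)
  have hbb : A.θ (y A b * y A b) = 1 := by rw [map_mul, θ_y, xG_sq hF]
  have h2 : ⁅y A a, y A b * y A b⁆ = 1 :=
    commutatorElement_eq_one_iff_commute.2 (A.mul_ker_comm hbb _)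
  calc ⁅y A a, y A b⁆ * ⁅y A a, y A b⁆
      = ⁅y A a, y A b⁆ * (y A b * ⁅y A a, y A b⁆ * (y A b)⁻¹) := by
        rw [h1.eq, mul_inv_cancel_right]
    _ = ⁅y A a, y A b * y A b⁆ := by simp only [commutatorElement_def]; group
    _ = 1 := h2

include hF in
/-- All decompositions give the same lift. -/
theorem br_eq_X : ∀ n a b t, rank a b = n → a < 48 → b < 48 → pairB a b = true → wR a b = [t] →
    ⁅y A a, y A b⁆ = X A t := by
  intro n
  induction n using Nat.strong_induction_on with
  | _ n IH =>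
  intro a b t hn ha hb hp he
  have h := up_pair ha hb hp
  rw [he] at h
  simp only [decB, Bool.and_eq_true, Bool.or_eq_true, decide_eq_true_eq, Nat.blt_eq,
    Nat.beq_eq] at h
  obtain ⟨hbt, (⟨-, h0⟩ | ⟨⟨⟨-, hp'⟩, he'⟩, hlt⟩) | h⟩ := h
  · rw [X, h0]
  · have h1 := IH _ (hn ▸ hlt) b a t rfl hb ha hp' he'
    rw [← h1, ← commutatorElement_inv]
    exact inv_eq_of_mul_eq_one_left (by
      rw [← commutatorElement_inv (y A a), ← mul_inv_rev, br_sq A hF ha hb hp he hbt, inv_one])
  · generalize movCode a b / 4 / 64 % 64 = e at h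
    generalize movCode a b / 4 / 4096 % 64 = d at h
    generalize movCode a b / 4 / 262144 = c at h
    obtain ⟨⟨⟨⟨⟨⟨⟨⟨⟨⟨⟨⟨-, he48⟩, hd⟩, hc⟩, hae⟩, wae⟩, hed⟩, wed⟩, had⟩, hcb⟩, hdc⟩, wdc⟩, hlt⟩ := h
    rw [← IH _ (hn ▸ hlt) d c t rfl hd hc hdc wdc]
    obtain ⟨C, hC⟩ : ∃ C, C = ⁅y A a, y A e⁆ := ⟨_, rfl⟩
    obtain ⟨B, hB⟩ : ∃ B, B = ⁅y A e, y A d⁆ := ⟨_, rfl⟩
    have θC : A.θ C = xG facts_chevF4.{u} c 1 := by rw [hC, θ_br A hF ha he48 hae, wae]; simp
    have θB : A.θ B = xG facts_chevF4.{u} b 1 := by rw [hB, θ_br A hF he48 hd hed, wed]; simp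
    have hCB : Commute C B := comm_of_map A (commute_y A hF hc hb hcb) θC θB
    have h1 : y A d * y A a * (y A d)⁻¹ = y A a := by
      rw [(commute_y A hF ha hd had).symm.eq, mul_inv_cancel_right]
    have h2 : y A d * y A e * (y A d)⁻¹ = B⁻¹ * y A e := by
      rw [hB]; simp only [commutatorElement_def]; group
    have h3 : ⁅y A d, C⁆ * C = ⁅y A a, B⁻¹⁆ * C := by
      calc ⁅y A d, C⁆ * C = y A d * C * (y A d)⁻¹ := by
            simp only [commutatorElement_def]; group
        _ = ⁅y A d * y A a * (y A d)⁻¹, y A d * y A e * (y A d)⁻¹⁆ := by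
            rw [hC]; simp only [commutatorElement_def]; group
        _ = ⁅y A a, B⁻¹⁆ * (B⁻¹ * C * B) := by
            rw [h1, h2, hC]; simp only [commutatorElement_def]; group
        _ = ⁅y A a, B⁻¹⁆ * C := by
            rw [mul_assoc B⁻¹ C B, hCB.eq, inv_mul_cancel_left]
    have h4 := mul_right_cancel h3
    rw [A.br_indep (a' := y A d) (b' := y A c) rfl (by rw [θC, θ_y]),
      A.br_indep (a' := y A a) (b' := y A b) rfl (by rw [θ_inv A hF θB, θ_y])] at h4
    exact h4.symm

include hF in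
theorem X_sq {t : ℕ} (ht : t < 48) : X A t * X A t = 1 := by
  obtain ⟨h1, h2, h3, h4, -⟩ := dec_spec ht
  refine br_sq A hF h1 h2 h3 h4 ?_
  have h := up_pair h1 h2 h3
  rw [h4] at h
  simp only [decB, Bool.and_eq_true] at h
  exact h.1

include hF in
theorem conj_br {i a b : ℕ} (hi : i < 4) (ha : a < 48) (hb : b < 48) {w : Γ}
    (hw : A.θ w = nS facts_chevF4.{u} i) :
    w * ⁅y A a, y A b⁆ * w⁻¹ =
      ⁅y A (chevF4.reflectRoot i a), y A (chevF4.reflectRoot i b)⁆ := by
  have hi' : i < chevF4.rank := hi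
  have key : ∀ r < 48, A.θ (w * y A r * w⁻¹) = A.θ (y A (chevF4.reflectRoot i r)) := fun r hr => by
    have hr' : r < chevF4.nroots := by rwa [nroots_eq]
    have he := A.eta_sq hi' hr'
    have e1 : A.eta i r = 1 := by
      rcases two_cases hF (A.eta i r) with h | h
      · rw [h, mul_zero] at he; exact absurd he zero_ne_one
      · exact h
    rw [map_mul, map_mul, map_inv, hw, θ_y, θ_y, A.conj_xG hi' hr', e1, one_mul]
  rw [← A.br_indep (key a ha) (key b hb)]
  simp only [commutatorElement_def]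
  group

include hF in
theorem conj_X {i t : ℕ} (hi : i < 4) (ht : t < 48) {w : Γ}
    (hw : A.θ w = nS facts_chevF4.{u} i) :
    w * X A t * w⁻¹ = X A (chevF4.reflectRoot i t) := by
  obtain ⟨h1, h2, h3, h4, h5⟩ := dec_spec ht
  have hl : ∀ r < 48, chevF4.reflectRoot i r < 48 := fun r hr => by
    have := facts_chevF4.{u}.refl_lt i hi r (by rwa [nroots_eq])
    rwa [nroots_eq] at this
  rw [X, conj_br A hF hi h1 h2 hw]
  exact br_eq_X A hF _ _ _ _ rfl (hl _ h1) (hl _ h2) (h5 i hi).1 (h5 i hi).2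

/-- The central involution. -/
noncomputable def zeta : Γ :=
  ((wR base.1 base.2).map (X A)).prod⁻¹ * ⁅y A base.1, y A base.2⁆

theorem base_spec : base.1 < 48 ∧ base.2 < 48 ∧ pairB base.1 base.2 = true ∧
    ∃ u v, wR base.1 base.2 = [u, v] := by
  have h := up_ok.2.2
  simp only [baseB, Bool.and_eq_true, Nat.blt_eq, decide_eq_true_eq] at h
  exact ⟨h.1.1.1, h.1.1.2, h.1.2, List.length_eq_two.1 h.2⟩

include hF in
theorem θ_zeta : A.θ (zeta A) = 1 := by
  obtain ⟨h1, h2, h3, -⟩ := base_spec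
  rw [zeta, map_mul, map_inv, θ_br A hF h1 h2 h3, map_list_prod, List.map_map,
    List.map_congr_left fun k hk => ?_, inv_mul_cancel]
  exact θ_X A hF ((tab_spec h1 h2).2.2.1 k hk)

include hF in
theorem X_comm {a b : ℕ} (ha : a < 48) (hb : b < 48) (h : cB a b = true) :
    Commute (X A a) (X A b) :=
  comm_of_map A (commute_y A hF ha hb h) (θ_X A hF ha) (θ_X A hF hb)

include hF in
theorem zeta_comm (g : Γ) : Commute g (zeta A) := A.mul_ker_comm (θ_zeta A hF) g

include hF in
theorem zeta_sq : zeta A * zeta A = 1 := by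
  obtain ⟨h1, h2, h3, u, v, e⟩ := base_spec
  obtain ⟨a, b, hab⟩ : ∃ a b, base = (a, b) := ⟨_, _, rfl⟩
  rw [hab] at h1 h2 h3 e
  have hu : u < 48 := (tab_spec h1 h2).2.2.1 u (by rw [e]; simp)
  have hv : v < 48 := (tab_spec h1 h2).2.2.1 v (by rw [e]; simp)
  have h := up_pair h1 h2 h3
  rw [e] at h
  simp only [twoB, Bool.and_eq_true, Bool.or_eq_true, decide_eq_true_eq] at h
  obtain ⟨huv, h | h⟩ := h
  swap
  · exfalso
    simp only [Nat.blt_eq] at h
    have h0 : rank a b = 0 := by
      have hb0 : a = base.1 ∧ b = base.2 := by rw [hab]; exact ⟨rfl, rfl⟩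
      rw [hb0.1, hb0.2]; decide +kernel
    omega
  obtain ⟨⟨-, hbu⟩, hbv⟩ := h
  have hbr : ⁅y A a, y A b⁆ = X A u * X A v * zeta A := by
    rw [zeta, hab]
    simp only [e, List.map_cons, List.map_nil, List.prod_cons, List.prod_nil, mul_one]
    group
  have hc : Commute (y A b) (X A u * X A v * zeta A) :=
    ((comm_of_map A (commute_y A hF h2 hu hbu) (θ_y A b) (θ_X A hF hu)).mul_right
      (comm_of_map A (commute_y A hF h2 hv hbv) (θ_y A b) (θ_X A hF hv))).mul_right
      (zeta_comm A hF _)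
  have hbb : A.θ (y A b * y A b) = 1 := by rw [map_mul, θ_y, xG_sq hF]
  have h2' : ⁅y A a, y A b * y A b⁆ = 1 :=
    commutatorElement_eq_one_iff_commute.2 (A.mul_ker_comm hbb _)
  have h4 : ⁅y A a, y A b⁆ * ⁅y A a, y A b⁆ = 1 := by
    calc ⁅y A a, y A b⁆ * ⁅y A a, y A b⁆
        = ⁅y A a, y A b⁆ * (y A b * ⁅y A a, y A b⁆ * (y A b)⁻¹) := by
          rw [hbr, hc.eq, mul_inv_cancel_right]
      _ = ⁅y A a, y A b * y A b⁆ := by simp only [commutatorElement_def]; group
      _ = 1 := h2'
  have hX : Commute (X A u * X A v) (X A u * X A v) := Commute.refl _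
  have hXX : X A u * X A v * (X A u * X A v) = 1 := by
    rw [(X_comm A hF hu hv huv).eq, mul_assoc, ← mul_assoc (X A u) (X A v) (X A u),
      (X_comm A hF hu hv huv).eq, mul_assoc (X A v) (X A u) (X A u), X_sq A hF hu, mul_one,
      X_sq A hF hv]
  rw [hbr, show X A u * X A v * zeta A * (X A u * X A v * zeta A) =
    X A u * X A v * (zeta A * (X A u * X A v)) * zeta A by group,
    ← (zeta_comm A hF (X A u * X A v)).eq, ← mul_assoc, hXX, one_mul] at h4
  exact h4

include hF in
/-- The relations of the second kind up to the central involution. -/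
theorem br_two : ∀ n a b u v, rank a b = n → a < 48 → b < 48 → pairB a b = true →
    wR a b = [u, v] → ⁅y A a, y A b⁆ = X A u * X A v * zeta A := by
  intro n
  induction n using Nat.strong_induction_on with
  | _ n IH =>
  intro a b u v hn ha hb hp e
  have hu : u < 48 := (tab_spec ha hb).2.2.1 u (by rw [e]; simp)
  have hv : v < 48 := (tab_spec ha hb).2.2.1 v (by rw [e]; simp)
  have h := up_pair ha hb hp
  rw [e] at h
  simp only [twoB, Bool.and_eq_true, Bool.or_eq_true, decide_eq_true_eq, Nat.blt_eq] at h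
  obtain ⟨huv, ⟨⟨hbase, -⟩, -⟩ | ⟨⟨⟨⟨hp', hq'⟩, hpq⟩, hlt⟩, h⟩⟩ := h
  · rw [zeta, ← hbase]
    simp only [e, List.map_cons, List.map_nil, List.prod_cons, List.prod_nil, mul_one]
    group
  generalize movCode a b / 4 / 512 % 64 = p at *
  generalize movCode a b / 4 / 32768 = q at *
  generalize movCode a b / 4 / 64 % 8 = i at *
  split at h
  swap
  · exact absurd h Bool.false_ne_true
  rename_i s w hsw
  simp only [Bool.and_eq_true, Bool.or_eq_true, decide_eq_true_eq, Nat.blt_eq, Nat.beq_eq] at h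
  obtain ⟨⟨hs, hw⟩, h⟩ := h
  have ih := IH _ (hn ▸ hlt) p q s w rfl hp' hq' hpq hsw
  have hcomm := (X_comm A hF hu hv huv).eq
  rcases h with ⟨⟨⟨-, rfl⟩, rfl⟩, h⟩ | ⟨⟨⟨⟨hi0, hi5⟩, rfl⟩, rfl⟩, h⟩
  · rw [← commutatorElement_inv, ih]
    refine inv_eq_of_mul_eq_one_left ?_
    rcases h with h | h <;> simp only [List.cons.injEq, and_true] at h <;>
      obtain ⟨rfl, rfl⟩ := h <;>
      rw [show ∀ c d : Γ, c * zeta A * (d * zeta A) = c * (zeta A * d) * zeta A
          from fun c d => by group,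
        ← (zeta_comm A hF _).eq, ← mul_assoc, mul_assoc _ (zeta A) (zeta A), zeta_sq A hF, mul_one]
    · nth_rewrite 1 [hcomm]
      rw [mul_assoc, ← mul_assoc (X A _) (X A _) (X A _), X_sq A hF hu, one_mul, X_sq A hF hv]
    · rw [mul_assoc, ← mul_assoc (X A _) (X A _) (X A _), X_sq A hF hv, one_mul, X_sq A hF hu]
  · obtain ⟨g, hg⟩ := A.exists_nS (i := i - 1)
    have hi : i - 1 < 4 := by omega
    have key : X A (chevF4.reflectRoot (i - 1) s) * X A (chevF4.reflectRoot (i - 1) w) * zeta A =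
        ⁅y A (chevF4.reflectRoot (i - 1) p), y A (chevF4.reflectRoot (i - 1) q)⁆ := by
      rw [← conj_br A hF hi hp' hq' hg, ih, ← conj_X A hF hi hs hg, ← conj_X A hF hi hw hg]
      calc g * X A s * g⁻¹ * (g * X A w * g⁻¹) * zeta A
          = g * (X A s * X A w) * (g⁻¹ * zeta A) := by group
        _ = g * (X A s * X A w) * (zeta A * g⁻¹) := by rw [(zeta_comm A hF g⁻¹).eq]
        _ = _ := by group
    rw [← key]
    rcases h with h | h <;> simp only [List.cons.injEq, and_true] at h <;>
      obtain ⟨rfl, rfl⟩ := h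
    · rfl
    · rw [hcomm]

include hF in
/-- The relations modulo the central involution. -/
theorem rels_mod (N : Subgroup Γ) [N.Normal] (hz : zeta A ∈ N) {a b : ℕ} (ha : a < 48)
    (hb : b < 48) (hp : pairB a b = true) :
    (QuotientGroup.mk (X A a) * QuotientGroup.mk (X A b) * QuotientGroup.mk (X A a) *
        QuotientGroup.mk (X A b) : Γ ⧸ N) =
      ((wR a b).map fun k => (QuotientGroup.mk (X A k) : Γ ⧸ N)).prod := by
  have e1 : X A a * X A b * X A a * X A b = ⁅y A a, y A b⁆ := by
    rw [← A.br_indep (a := X A a) (b := X A b) (by rw [θ_X A hF ha, θ_y])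
      (by rw [θ_X A hF hb, θ_y]), commutatorElement_def,
      inv_eq_of_mul_eq_one_left (X_sq A hF ha), inv_eq_of_mul_eq_one_left (X_sq A hF hb)]
  rw [← QuotientGroup.mk_mul, ← QuotientGroup.mk_mul, ← QuotientGroup.mk_mul, e1]
  rcases hw : wR a b with _ | ⟨t, _ | ⟨v, _ | ⟨w, l⟩⟩⟩
  · rw [commutatorElement_eq_one_iff_commute.2 (commute_y A hF ha hb (by simp [cB, hp, hw]))]
    simp
  · rw [br_eq_X A hF _ a b t rfl ha hb hp hw]
    simp
  · rw [br_two A hF _ a b t v rfl ha hb hp hw, QuotientGroup.mk_mul, QuotientGroup.mk_mul,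
      (QuotientGroup.eq_one_iff (zeta A)).2 hz]
    simp
  · have h := up_pair ha hb hp
    rw [hw] at h
    exact absurd h Bool.false_ne_true

end Cfsg.Agent.F4TwoMult
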